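import Cfsg.Agent.Lib.Spor.CoOneType.Part
import Mathlib.GroupTheory.PGroup
import Mathlib.GroupTheory.Perm.Cycle.Type

/-!
# No extraspecial group with centre an involution and an operator of order five in the simple orthogonal group

Inside the simple orthogonal group in dimension eight there is no group generated by its commutators with an
element of order five modulo a central involution which is itself a commutator of two involutions.
-/

set_option autoImplicit false

namespace CfsgLib.Spor.CoOneType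

open Subgroup

noncomputable section

theorem five_modEq {α : Type*} [Finite α] (f : α → α) (hf : ∀ x, f^[5] x = x) :
    Nat.card α ≡ Nat.card {x // f x = x} [MOD 5] := by
  classical
  haveI : Fact (Nat.Prime 5) := ⟨Nat.prime_five⟩
  letI := Fintype.ofFinite α
  have h := Equiv.Perm.card_fixedPoints_modEq (f := (f : Function.End α)) (p := 5) (n := 1) (by
    rw [pow_one]
    funext x
    exact hf x)
  rw [Nat.card_eq_fintype_card, Nat.card_eq_fintype_card]
  convert h using 1
  exact Fintype.card_congr (Equiv.subtypeEquivRight fun x => Iff.rfl)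

theorem two_pow_cases {a : ℕ} (ha : a ∣ 16) : a = 1 ∨ a = 2 ∨ a = 4 ∨ a = 8 ∨ a = 16 := by
  have h : a ∈ Nat.divisors 16 := Nat.mem_divisors.2 ⟨ha, by norm_num⟩
  rw [show Nat.divisors 16 = {1, 2, 4, 8, 16} by decide] at h
  simpa using h

/-- The fixed subgroup of an endomorphism. -/
def fixSub {M : Type*} [AddCommGroup M] (f : M →+ M) : AddSubgroup M :=
  AddMonoidHom.eqLocus f (AddMonoidHom.id M)

/-- An element of order five acting non-trivially on a group of order dividing sixteen acts freely. -/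
theorem five_free {M : Type*} [AddCommGroup M] [Finite M] (f : M →+ M) (hf : ∀ x, f^[5] x = x)
    (hM : Nat.card M ∣ 16) (hne : ∃ x, f x ≠ x) : Nat.card M = 16 ∧ ∀ x, f x = x → x = 0 := by
  have h := five_modEq f hf
  have hd : Nat.card (fixSub f) ∣ Nat.card M := AddSubgroup.card_addSubgroup_dvd_card _
  change Nat.card M ≡ Nat.card (fixSub f) [MOD 5] at h
  have hlt : Nat.card (fixSub f) ≠ Nat.card M := fun e => by
    obtain ⟨x, hx⟩ := hne
    have htop := AddSubgroup.eq_top_of_card_eq _ e
    exact hx (show x ∈ fixSub f by rw [htop]; trivial)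
  unfold Nat.ModEq at h
  rcases two_pow_cases hM with e | e | e | e | e <;>
    rcases two_pow_cases (hd.trans hM) with e' | e' | e' | e' | e' <;> rw [e, e'] at h hd <;>
    simp [e, e'] at h hlt hd ⊢
  intro x hx
  have hbot := (AddSubgroup.card_eq_one (H := fixSub f)).1 e'
  have hmem : x ∈ fixSub f := hx
  rw [hbot] at hmem
  exact hmem

/-- A two-group normalised by, and generated by commutators with, an element of order five acts trivially on a
group of order dividing sixteen. -/
theorem trivial_of_five {M : Type*} [AddCommGroup M] [Finite M] {P : Type*} [Group P] [Finite P]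
    (hP : IsPGroup 2 P) [DistribMulAction P M] (f : M →+ M) (hf : ∀ x, f^[5] x = x) (hM : Nat.card M ∣ 16)
    (σ : P → P) (hσ : ∀ (p : P) (x : M), f (p • x) = σ p • f x) (hsurj : Function.Surjective σ)
    (hgen : ∀ p : P, ∃ q : P, ∀ x : M, p • x = σ q • q⁻¹ • x) : ∀ (p : P) (x : M), p • x = x := by
  haveI : Fact (Nat.Prime 2) := ⟨Nat.prime_two⟩
  by_cases hne : ∃ x, f x ≠ x
  · obtain ⟨h16, hfree⟩ := five_free f hf hM hne
    obtain ⟨y, hy, hy0⟩ := hP.exists_fixed_point_of_prime_dvd_card_of_fixed_point M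
      (by rw [h16]; norm_num) (a := (0 : M)) (fun p => smul_zero p)
    let F : AddSubgroup M :=
      { carrier := {x | ∀ p : P, p • x = x}
        zero_mem' := fun p => smul_zero p
        add_mem' := fun {a c} ha hc p => by rw [smul_add, ha p, hc p]
        neg_mem' := fun {a} ha p => by rw [smul_neg, ha p] }
    have hinv : ∀ x ∈ F, f x ∈ F := fun x hx p => by
      obtain ⟨q, rfl⟩ := hsurj p
      rw [← hσ, hx q]
    let g : F → F := fun x => ⟨f x.1, hinv x.1 x.2⟩
    have hg : ∀ (k : ℕ) (x : F), ((g^[k]) x : M) = f^[k] x.1 := by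
      intro k x
      induction k with
      | zero => rfl
      | succ k ih => rw [Function.iterate_succ_apply', Function.iterate_succ_apply', ← ih]
    have h := five_modEq g fun x => Subtype.ext (by rw [hg, hf])
    have h1 : Nat.card {x : F // g x = x} = 1 := by
      rw [Nat.card_eq_one_iff_unique]
      exact ⟨⟨fun a c => Subtype.ext (Subtype.ext ((hfree _ (congrArg Subtype.val a.2)).trans
        (hfree _ (congrArg Subtype.val c.2)).symm))⟩, ⟨⟨0, Subtype.ext (map_zero f)⟩⟩⟩
    rw [h1] at h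
    have hd : Nat.card F ∣ 16 := h16 ▸ AddSubgroup.card_addSubgroup_dvd_card F
    unfold Nat.ModEq at h
    have hF : Nat.card F = Nat.card M := by
      rcases two_pow_cases hd with e | e | e | e | e <;> rw [e] at h <;> first | omega | skip
      exfalso
      have hbot := (AddSubgroup.card_eq_one (H := F)).1 e
      have hmem : y ∈ F := hy
      rw [hbot] at hmem
      exact hy0 hmem.symm
    intro p x
    have hx : x ∈ F := by rw [AddSubgroup.eq_top_of_card_eq F hF]; trivial
    exact hx p
  · push Not at hne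
    intro p x
    obtain ⟨q, hq⟩ := hgen p
    have h2 : σ q • (q⁻¹ • x) = q • (q⁻¹ • x) := by
      rw [← hne (q • (q⁻¹ • x)), hσ, hne]
    rw [hq, h2, smul_inv_smul]

theorem pol_zero_left (x : Vec) : QuadraticMap.polar qf 0 x = 0 := by
  have h := pol_add_left 0 0 x
  rw [add_zero] at h
  exact add_eq_left.1 h.symm

theorem pol_eq_zero {x : Vec} (h : ∀ y, QuadraticMap.polar qf x y = 0) : x = 0 := by
  by_contra hx
  obtain ⟨y, hy⟩ := (qf_nd.nondegenerate x hx).2
  exact hy (h y)

/-- The endomorphism `Z + 1`. -/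
def dMap (Z : Iso8) : Vec →+ Vec :=
  AddMonoidHom.mk' (fun x => act Z x + x) fun x y => by rw [act_add]; abel

theorem dMap_apply (Z : Iso8) (x : Vec) : dMap Z x = act Z x + x := rfl

theorem add_eq_zero_vec {x y : Vec} : x + y = 0 ↔ x = y := by
  constructor
  · intro h
    calc x = x + (y + y) := by rw [vec_add_self, add_zero]
      _ = (x + y) + y := (add_assoc _ _ _).symm
      _ = y := by rw [h, zero_add]
  · rintro rfl; exact vec_add_self x

section Setting

variable {Z : Iso8} (hZ : Z * Z = 1)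
include hZ

theorem d_self (x : Vec) : dMap Z (dMap Z x) = 0 := by
  rw [dMap_apply, dMap_apply, act_add, ← act_mul, hZ, act_one, add_comm x, vec_add_self]

theorem pol_d (x y : Vec) : QuadraticMap.polar qf (dMap Z x) y = QuadraticMap.polar qf x (dMap Z y) := by
  rw [dMap_apply, dMap_apply, pol_add_left, pol_add_right]
  congr 1
  rw [← pol_act Z, ← act_mul, hZ, act_one]

theorem ker_iff (x : Vec) : dMap Z x = 0 ↔ ∀ y, QuadraticMap.polar qf x (dMap Z y) = 0 := by
  refine ⟨fun h y => ?_, fun h => pol_eq_zero fun y => ?_⟩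
  · rw [← pol_d hZ, h, pol_zero_left]
  · rw [pol_d hZ, h]

end Setting

theorem d_comm {Z g : Iso8} (h : g * Z = Z * g) (x : Vec) : dMap Z (act g x) = act g (dMap Z x) := by
  rw [dMap_apply, dMap_apply, act_add, ← act_mul, ← act_mul, h]

theorem card_vec : Nat.card Vec = 256 := by rw [Nat.card_eq_fintype_card, Fintype.card_fun]; rfl

theorem card_range_mul (Z : Iso8) : Nat.card (dMap Z).range * Nat.card (dMap Z).ker = 256 := by
  rw [← card_vec, ← (dMap Z).ker.card_mul_index, mul_comm, AddSubgroup.index_ker]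

/-- The sign of the quadratic form. -/
def sgn (a : ZMod 2) : ℤ := if a = 0 then 1 else -1

theorem sgn_add : ∀ a c : ZMod 2, sgn (a + c) = sgn a * sgn c := by decide

theorem sum_sgn : ∑ x : Vec, sgn (qf x) = 16 := by decide +kernel

open _root_.Classical in
/-- The singular vectors perpendicular to a totally singular subgroup of order four. -/
theorem count_perp (W : AddSubgroup Vec) (hW : Nat.card W = 4) (hsing : ∀ w ∈ W, qf w = 0)
    (K : AddSubgroup Vec) (hK : ∀ x, x ∈ K ↔ ∀ w ∈ W, QuadraticMap.polar qf x w = 0) (hKc : Nat.card K = 64) :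
    Nat.card {x : Vec // x ∈ K ∧ qf x = 0} = 40 := by
  have hWf : Fintype.card W = 4 := by rw [← Nat.card_eq_fintype_card, hW]
  have h1 : ∀ x : Vec, ∑ w : W, sgn (QuadraticMap.polar qf x w.1) = if x ∈ K then 4 else 0 := by
    intro x
    split_ifs with hx
    · rw [Finset.sum_congr rfl (g := fun _ => (1 : ℤ)) (fun w _ => by rw [(hK x).1 hx w.1 w.2]; rfl),
        Finset.sum_const, Finset.card_univ, hWf]
      rfl
    · rw [hK] at hx
      push Not at hx
      obtain ⟨w₀, hw₀, hne⟩ := hx
      have e : ∑ w : W, sgn (QuadraticMap.polar qf x w.1) =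
          -∑ w : W, sgn (QuadraticMap.polar qf x w.1) := by
        rw [← Finset.sum_neg_distrib]
        refine Fintype.sum_equiv (Equiv.addRight (⟨w₀, hw₀⟩ : W)) _ _ fun w => ?_
        show _ = -sgn (QuadraticMap.polar qf x ((w : Vec) + w₀))
        rw [pol_add_right, sgn_add, (two_cases _).resolve_left hne]
        simp [sgn]
      omega
  have h2 : ∀ w : W, ∑ x : Vec, sgn (qf x) * sgn (QuadraticMap.polar qf x w.1) = 16 := by
    intro w
    rw [← sum_sgn]
    refine Fintype.sum_equiv (Equiv.addRight w.1) _ _ fun x => ?_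
    show _ = sgn (qf (x + w.1))
    rw [qf_add, hsing w.1 w.2, add_zero, sgn_add]
  have h3 : ∑ x : Vec, sgn (qf x) * ∑ w : W, sgn (QuadraticMap.polar qf x w.1) = 64 := by
    simp only [Finset.mul_sum]
    rw [Finset.sum_comm, Finset.sum_congr rfl fun w _ => h2 w, Finset.sum_const, Finset.card_univ, hWf]
    rfl
  simp only [h1, mul_ite, mul_zero] at h3
  rw [← Finset.sum_filter, ← Finset.sum_mul] at h3
  have h4 : ∀ s : Finset Vec, ∑ x ∈ s, sgn (qf x) =
      2 * ((s.filter fun x => qf x = 0).card : ℤ) - (s.card : ℤ) := by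
    intro s
    induction s using Finset.induction_on with
    | empty => simp
    | @insert a s ha ih =>
      rw [Finset.sum_insert ha, Finset.filter_insert, Finset.card_insert_of_notMem ha, ih]
      rcases two_cases (qf a) with e | e
      · rw [if_pos e, Finset.card_insert_of_notMem (fun h => ha (Finset.mem_filter.1 h).1), e]
        push_cast
        simp only [sgn, if_true]
        ring
      · rw [if_neg (by rw [e]; decide), e]
        push_cast
        simp only [sgn, one_ne_zero, if_false]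
        ring
  rw [h4, Finset.filter_filter] at h3
  have h5 : (Finset.univ.filter fun x : Vec => x ∈ K).card = 64 := by
    rw [← hKc, Nat.card_eq_fintype_card, Fintype.card_subtype]
  rw [h5] at h3
  rw [Nat.card_eq_fintype_card, Fintype.card_subtype]
  omega

variable {Z : Iso8} {P : Subgroup Iso8}

/-- An element of order five unipotent on a series of length three is trivial. -/
theorem eq_one_of_unip {Z β : Iso8} (hc : β * Z = Z * β) (h5 : β ^ 5 = 1)
    (hW : ∀ x, act β (dMap Z x) = dMap Z x)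
    (hK : ∀ x, dMap Z x = 0 → ∃ y, act β x + x = dMap Z y) : β = 1 := by
  have htop : ∀ x, dMap Z (act β x + x) = 0 := fun x => by
    rw [map_add, d_comm hc, hW, vec_add_self]
  have h3 : ∀ x, act β (act β (act β x + x) + (act β x + x)) = act β (act β x + x) + (act β x + x) := by
    intro x
    obtain ⟨y, hy⟩ := hK _ (htop x)
    rw [hy, hW]
  have h4 : ∀ x, act (β ^ 2) (act (β ^ 2) x + x) = act (β ^ 2) x + x := by
    intro x
    have e : act β (act β x + x) + (act β x + x) = act (β ^ 2) x + x := by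
      rw [act_add, ← act_mul, ← pow_two]
      calc act (β ^ 2) x + act β x + (act β x + x) = act (β ^ 2) x + (act β x + act β x) + x := by abel
        _ = _ := by rw [vec_add_self, add_zero]
    have h := h3 x
    rw [e] at h
    rw [pow_two, act_mul, ← pow_two, h, h]
  have h5' : β ^ 4 = 1 := iso_ext fun x => by
    have h := h4 x
    rw [act_add, ← act_mul, ← pow_add] at h
    rw [act_one, ← add_eq_zero_vec]
    calc act (β ^ 4) x + x = (act (β ^ (2 + 2)) x + act (β ^ 2) x) + (act (β ^ 2) x + x) := by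
          rw [show (2 + 2 : ℕ) = 4 from rfl]
          calc act (β ^ 4) x + x = act (β ^ 4) x + (act (β ^ 2) x + act (β ^ 2) x) + x := by
                rw [vec_add_self, add_zero]
            _ = _ := by abel
      _ = 0 := by rw [h, vec_add_self]
  calc β = β * β ^ 4 := by rw [h5', mul_one]
    _ = β ^ 5 := (pow_succ' β 4).symm
    _ = 1 := h5

/-- An endomorphism induced on a section by an invariant isometry. -/
def secMap (A B : AddSubgroup Vec) (g : Iso8) (hA : ∀ x ∈ A, act g x ∈ A) (hB : ∀ x ∈ B, act g x ∈ B) :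
    (↥A ⧸ B.addSubgroupOf A) →+ (↥A ⧸ B.addSubgroupOf A) :=
  QuotientAddGroup.map _ _
    (AddMonoidHom.mk' (fun x : ↥A => (⟨act g x.1, hA x.1 x.2⟩ : ↥A)) fun x y => Subtype.ext (act_add _ _ _))
    fun x hx => hB x.1 hx

theorem secMap_mk (A B : AddSubgroup Vec) (g : Iso8) (hA : ∀ x ∈ A, act g x ∈ A) (hB : ∀ x ∈ B, act g x ∈ B)
    (x : ↥A) : secMap A B g hA hB (QuotientAddGroup.mk x) = QuotientAddGroup.mk ⟨act g x.1, hA x.1 x.2⟩ :=
  rfl

theorem sec_eq {A B : AddSubgroup Vec} {x y : ↥A} :
    (QuotientAddGroup.mk x : ↥A ⧸ B.addSubgroupOf A) = QuotientAddGroup.mk y ↔ (x : Vec) + y ∈ B := by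
  rw [QuotientAddGroup.eq, AddSubgroup.mem_addSubgroupOf, AddSubgroup.coe_add, AddSubgroup.coe_neg,
    neg_eq_of_add_eq_zero_right (vec_add_self (x : Vec))]

theorem sec_card {A B : AddSubgroup Vec} (hBA : B ≤ A) :
    Nat.card (↥A ⧸ B.addSubgroupOf A) * Nat.card B = Nat.card A := by
  have h := AddSubgroup.card_eq_card_quotient_mul_card_addSubgroup (B.addSubgroupOf A)
  rw [Nat.card_congr (AddSubgroup.addSubgroupOfEquivOfLe hBA).toEquiv] at h
  exact h.symm

theorem secMap_iter (A B : AddSubgroup Vec) (β : Iso8) (hA : ∀ x ∈ A, act β x ∈ A) (hB : ∀ x ∈ B, act β x ∈ B)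
    (hβ5 : β ^ 5 = 1) : ∀ x, (secMap A B β hA hB)^[5] x = x := by
  intro x
  obtain ⟨x, rfl⟩ := QuotientAddGroup.mk_surjective x
  have key : ∀ k, ∃ y : ↥A, (secMap A B β hA hB)^[k] (QuotientAddGroup.mk x) = QuotientAddGroup.mk y ∧
      (y : Vec) = act (β ^ k) x.1 := by
    intro k
    induction k with
    | zero => exact ⟨x, rfl, by rw [pow_zero, act_one]⟩
    | succ k ih =>
      obtain ⟨y, hy, hy'⟩ := ih
      exact ⟨⟨act β y.1, hA y.1 y.2⟩, by rw [Function.iterate_succ_apply', hy, secMap_mk],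
        by rw [pow_succ', act_mul, ← hy']⟩
  obtain ⟨y, hy, hy'⟩ := key 5
  rw [hy, sec_eq, hy', hβ5, act_one, vec_add_self]
  exact zero_mem _

/-- An element of order five on a small section is trivial or free. -/
theorem sec_five {A B : AddSubgroup Vec} (hBA : B ≤ A) (hcard : Nat.card A ∣ 16 * Nat.card B) {β : Iso8}
    (hβ5 : β ^ 5 = 1) (hA : ∀ x ∈ A, act β x ∈ A) (hB : ∀ x ∈ B, act β x ∈ B) :
    (∀ x ∈ A, act β x + x ∈ B) ∨
      (Nat.card A = 16 * Nat.card B ∧ ∀ x ∈ A, act β x + x ∈ B → x ∈ B) := by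
  by_cases hall : ∀ x ∈ A, act β x + x ∈ B
  · exact Or.inl hall
  push Not at hall
  obtain ⟨x₀, hx₀, hne⟩ := hall
  have hc := sec_card hBA
  have hM : Nat.card (↥A ⧸ B.addSubgroupOf A) ∣ 16 := by
    rw [← hc] at hcard
    exact Nat.dvd_of_mul_dvd_mul_right Nat.card_pos hcard
  obtain ⟨h16, hfree⟩ := five_free _ (secMap_iter A B β hA hB hβ5) hM ⟨QuotientAddGroup.mk ⟨x₀, hx₀⟩, fun e => by
    rw [secMap_mk, sec_eq] at e
    exact hne e⟩
  refine Or.inr ⟨by rw [← hc, h16], fun x hx hfix => ?_⟩
  have h := hfree (QuotientAddGroup.mk ⟨x, hx⟩) (by rw [secMap_mk, sec_eq]; exact hfix)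
  have h' : (⟨x, hx⟩ : ↥A) ∈ B.addSubgroupOf A := (QuotientAddGroup.eq_zero_iff (⟨x, hx⟩ : ↥A)).1 h
  exact h'

/-- The two-group is trivial on a small section. -/
theorem sec_trivial {A B : AddSubgroup Vec} (hBA : B ≤ A) (hcard : Nat.card A ∣ 16 * Nat.card B)
    {P : Subgroup Iso8} (hP : IsPGroup 2 P) {β : Iso8} (hβ5 : β ^ 5 = 1)
    (hβA : ∀ x ∈ A, act β x ∈ A) (hβB : ∀ x ∈ B, act β x ∈ B)
    (hPA : ∀ p ∈ P, ∀ x ∈ A, act p x ∈ A) (hPB : ∀ p ∈ P, ∀ x ∈ B, act p x ∈ B)
    (hβP : ∀ p ∈ P, β * p * β⁻¹ ∈ P)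
    (hgen : ∀ p ∈ P, ∃ q ∈ P, ∀ x ∈ A, act p x + act (β * q * β⁻¹ * q⁻¹) x ∈ B) :
    ∀ p ∈ P, ∀ x ∈ A, act p x + x ∈ B := by
  have hM : Nat.card (↥A ⧸ B.addSubgroupOf A) ∣ 16 := by
    rw [← sec_card hBA] at hcard
    exact Nat.dvd_of_mul_dvd_mul_right Nat.card_pos hcard
  letI : DistribMulAction ↥P (↥A ⧸ B.addSubgroupOf A) :=
    { smul := fun p x => secMap A B p.1 (hPA p.1 p.2) (hPB p.1 p.2) x
      one_smul := fun x => by
        obtain ⟨x, rfl⟩ := QuotientAddGroup.mk_surjective x
        exact congrArg QuotientAddGroup.mk (Subtype.ext (act_one _))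
      mul_smul := fun p q x => by
        obtain ⟨x, rfl⟩ := QuotientAddGroup.mk_surjective x
        exact congrArg QuotientAddGroup.mk (Subtype.ext (act_mul _ _ _))
      smul_zero := fun p => map_zero _
      smul_add := fun p x y => map_add _ x y }
  let σ : ↥P → ↥P := fun p => ⟨β * p.1 * β⁻¹, hβP p.1 p.2⟩
  have hσ : Function.Surjective σ := Finite.injective_iff_surjective.1 fun p q e =>
    Subtype.ext (mul_left_cancel (mul_right_cancel (congrArg Subtype.val e)))
  intro p hp x hx
  have h := trivial_of_five hP (secMap A B β hβA hβB) (secMap_iter A B β hβA hβB hβ5) hM σ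
    (fun q y => by
      obtain ⟨y, rfl⟩ := QuotientAddGroup.mk_surjective y
      exact congrArg QuotientAddGroup.mk (Subtype.ext (by
        show act β (act q.1 y.1) = act (β * q.1 * β⁻¹) (act β y.1)
        rw [← act_mul, ← act_mul, inv_mul_cancel_right])))
    hσ (fun q => by
      obtain ⟨r, hr, e⟩ := hgen q.1 q.2
      refine ⟨⟨r, hr⟩, fun y => ?_⟩
      obtain ⟨y, rfl⟩ := QuotientAddGroup.mk_surjective y
      refine sec_eq.2 ?_
      show act q.1 y.1 + act (β * r * β⁻¹) (act r⁻¹ y.1) ∈ B
      rw [← act_mul]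
      exact e y.1 y.2) ⟨p, hp⟩ (QuotientAddGroup.mk ⟨x, hx⟩)
  exact sec_eq.1 h

open _root_.Classical in
/-- The configuration does not exist. -/
theorem no_extra (hP : IsPGroup 2 P) (hPO : P ≤ Om) (hZP : Z ∈ P) (hZ1 : Z ≠ 1) (hZZ : Z * Z = 1)
    (hPZ : ∀ p ∈ P, p * Z = Z * p) {β : Iso8} (hβ5 : β ^ 5 = 1) (hβZ : β * Z = Z * β)
    (hβP : ∀ p ∈ P, β * p * β⁻¹ ∈ P)
    (hgen : ∀ p ∈ P, ∃ q ∈ P, p = β * q * β⁻¹ * q⁻¹ ∨ p = β * q * β⁻¹ * q⁻¹ * Z)
    {a c : Iso8} (ha : a ∈ P) (hc : c ∈ P) (ha2 : a * a = 1) (hc2 : c * c = 1) (hac : a * c = Z * (c * a)) :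
    False := by
  set W := (dMap Z).range with hWdef
  set K := (dMap Z).ker with hKdef
  have hWK : W ≤ K := by
    rintro _ ⟨x, rfl⟩
    exact d_self hZZ x
  have hmul := card_range_mul Z
  rw [← hWdef, ← hKdef] at hmul
  have hdvd : Nat.card W ∣ Nat.card K := AddSubgroup.card_dvd_of_le hWK
  -- the residual space has order two to the power one to four
  have hW1 : Nat.card W ≠ 1 := fun h => hZ1 (iso_ext fun x => by
    have hbot := (AddSubgroup.card_eq_one (H := W)).1 h
    have hx : dMap Z x ∈ W := ⟨x, rfl⟩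
    rw [hbot] at hx
    rw [act_one]
    exact add_eq_zero_vec.1 hx)
  have hW2 : Nat.card W ≠ 2 := fun h => by
    obtain ⟨e, -, he⟩ := (Nat.card_eq_two_iff' (0 : W)).1 h
    have hd : ∀ x, dMap Z x = 0 ∨ dMap Z x = e.1 := fun x => by
      by_cases h0 : dMap Z x = 0
      · exact Or.inl h0
      · exact Or.inr (congrArg Subtype.val (he ⟨_, x, rfl⟩ fun h => h0 (congrArg Subtype.val h)))
    have hpe : ∀ x, dMap Z x = QuadraticMap.polar qf x e.1 • e.1 := fun x => by
      obtain ⟨y₀, hy₀⟩ := e.2
      rcases hd x with hx | hx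
      · rw [hx, ← hy₀, (ker_iff hZZ x).1 hx y₀, zero_smul]
      · have hne : QuadraticMap.polar qf x e.1 = 1 := by
          refine (two_cases _).resolve_left fun h0 => ?_
          have hx0 : dMap Z x = 0 := (ker_iff hZZ x).2 fun y => by
            rcases hd y with hy | hy <;> rw [hy]
            · rw [pol_comm, pol_zero_left]
            · exact h0
          exact hW1 (by
            rw [AddSubgroup.card_eq_one, eq_bot_iff]
            rintro _ ⟨y, rfl⟩
            rcases hd y with hy | hy <;> rw [hy]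
            · exact zero_mem _
            · rw [← hx, hx0]; exact zero_mem _)
        rw [hx, hne, one_smul]
    obtain ⟨x, hx⟩ : ∃ x, QuadraticMap.polar qf x e.1 = 1 := by
      by_contra hcon
      push Not at hcon
      refine hZ1 (iso_ext fun x => ?_)
      rw [act_one, ← add_eq_zero_vec]
      exact (hpe x).trans (by rw [(two_cases _).resolve_right (hcon x), zero_smul])
    have hZx : ∀ y, act Z y = y + QuadraticMap.polar qf y e.1 • e.1 := fun y => by
      rw [← hpe, dMap_apply, add_comm (act Z y), ← add_assoc, vec_add_self, zero_add]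
    have hqe : qf e.1 = 1 := by
      have h := qf_act Z x
      rw [hZx, hx, one_smul, qf_add, hx] at h
      rw [add_assoc, add_eq_left, CharTwo.add_eq_zero] at h
      exact h
    exact refl_notMem hqe hZx (hPO hZP)
  have hW16 : Nat.card W ∣ 16 := by
    have h256 : Nat.card W ∣ 2 ^ 8 := ⟨Nat.card K, hmul.symm⟩
    obtain ⟨i, hi, e⟩ := (Nat.dvd_prime_pow Nat.prime_two).1 h256
    rw [e] at hmul hdvd ⊢
    by_contra hcon
    have hi4 : 5 ≤ i := by
      by_contra hlt
      exact hcon ((pow_dvd_pow 2 (show i ≤ 4 by omega)).trans (dvd_of_eq (by norm_num)))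
    have hKpos : 0 < Nat.card K := Nat.card_pos
    have := Nat.le_of_dvd hKpos hdvd
    have : 32 ≤ 2 ^ i := (show (32 : ℕ) = 2 ^ 5 by norm_num) ▸ Nat.pow_le_pow_right (by norm_num) hi4
    nlinarith
  have hWlarge : Nat.card W = 4 ∨ Nat.card W = 8 ∨ Nat.card W = 16 := by
    rcases two_pow_cases hW16 with e | e | e | e | e <;> omega
  -- the series is invariant
  have hWinv : ∀ g : Iso8, g * Z = Z * g → ∀ x ∈ W, act g x ∈ W := fun g hg x ⟨y, hy⟩ =>
    ⟨act g y, by rw [d_comm hg, hy]⟩
  have hKinv : ∀ g : Iso8, g * Z = Z * g → ∀ x ∈ K, act g x ∈ K := fun g hg x hx => by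
    show dMap Z (act g x) = 0
    rw [d_comm hg, show dMap Z x = 0 from hx, act_zero]
  have hZK : ∀ x ∈ K, act Z x = x := fun x hx => add_eq_zero_vec.1 hx
  have hgenK : ∀ p ∈ P, ∃ q ∈ P, ∀ x ∈ K, act p x = act (β * q * β⁻¹ * q⁻¹) x := fun p hp => by
    obtain ⟨q, hq, e | e⟩ := hgen p hp
    · exact ⟨q, hq, fun x _ => by rw [e]⟩
    · exact ⟨q, hq, fun x hx => by rw [e, act_mul, hZK x hx]⟩
  have hbot : Nat.card (⊥ : AddSubgroup Vec) = 1 := AddSubgroup.card_eq_one.2 rfl
  have hbotinv : ∀ g : Iso8, ∀ x ∈ (⊥ : AddSubgroup Vec), act g x ∈ (⊥ : AddSubgroup Vec) := fun g x hx => by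
    rw [AddSubgroup.mem_bot] at hx ⊢
    rw [hx, act_zero]
  have hWb : Nat.card W ∣ 16 * Nat.card (⊥ : AddSubgroup Vec) := by rw [hbot, mul_one]; exact hW16
  have trW : ∀ p ∈ P, ∀ x ∈ W, act p x = x := fun p hp x hx =>
    add_eq_zero_vec.1 (AddSubgroup.mem_bot.1 (sec_trivial bot_le hWb hP hβ5 (hWinv β hβZ) (hbotinv β)
      (fun p hp => hWinv p (hPZ p hp)) (fun p _ => hbotinv p) hβP
      (fun p hp => by
        obtain ⟨q, hq, e⟩ := hgenK p hp
        exact ⟨q, hq, fun x hx => AddSubgroup.mem_bot.2 (by rw [e x (hWK hx), vec_add_self])⟩) p hp x hx))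
  have hKW16 : Nat.card K ∣ 16 * Nat.card W := by
    rcases hWlarge with e | e | e <;> rw [e] at hmul ⊢
    · rw [show Nat.card K = 64 by omega]
    · rw [show Nat.card K = 32 by omega]; norm_num
    · rw [show Nat.card K = 16 by omega]; norm_num
  have trK : ∀ p ∈ P, ∀ x ∈ K, act p x + x ∈ W :=
    sec_trivial hWK hKW16 hP hβ5 (hKinv β hβZ) (hWinv β hβZ) (fun p hp => hKinv p (hPZ p hp))
      (fun p hp => hWinv p (hPZ p hp)) hβP fun p hp => by
        obtain ⟨q, hq, e⟩ := hgenK p hp
        exact ⟨q, hq, fun x hx => by rw [e x hx, vec_add_self]; exact zero_mem _⟩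
  have trT : ∀ p ∈ P, ∀ x, dMap Z (act p x + x) = 0 := fun p hp x => by
    rw [map_add, d_comm (hPZ p hp), trW p hp _ ⟨x, rfl⟩, vec_add_self]
  have trK2 : ∀ p ∈ P, ∀ q ∈ P, ∀ x, act p (act q x + x) + (act q x + x) ∈ W := fun p hp q hq x =>
    trK p hp _ (trT q hq x)
  -- the residual space is totally singular
  have hkey : ∀ u, dMap Z u = act a (act c u + u) + (act c u + u) + (act c (act a u + u) + (act a u + u)) := by
    intro u
    have h1 : act (c * a) u + u ∈ K := by
      show dMap Z (act (c * a) u + u) = 0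
      exact trT _ (mul_mem hc ha) u
    have h2 : act (a * c) u + act (c * a) u = dMap Z u := by
      rw [hac, act_mul]
      show dMap Z (act (c * a) u) = dMap Z u
      rw [← add_eq_zero_vec, ← map_add]
      exact h1
    rw [← h2, act_add, act_add, ← act_mul, ← act_mul]
    have := vec_add_self (act a u)
    have := vec_add_self (act c u)
    calc act (a * c) u + act (c * a) u
        = act (a * c) u + act (c * a) u + (act a u + act a u) + (act c u + act c u) + (u + u) := by
          rw [vec_add_self, vec_add_self, vec_add_self, add_zero, add_zero, add_zero]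
      _ = _ := by abel
  have hsym : ∀ g : Iso8, g * g = 1 → ∀ x y, QuadraticMap.polar qf (act g x + x) y =
      QuadraticMap.polar qf x (act g y + y) := by
    intro g hg x y
    rw [pol_add_left, pol_add_right]
    congr 1
    rw [← pol_act g, ← act_mul, hg, act_one]
  have hpol : ∀ u, QuadraticMap.polar qf (dMap Z u) u = 0 := by
    intro u
    rw [hkey u, pol_add_left, hsym a ha2 (act c u + u) u, hsym c hc2 (act a u + u) u, pol_comm (act a u + u),
      CharTwo.add_self_eq_zero]
  have hts : ∀ w ∈ W, qf w = 0 := by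
    rintro _ ⟨u, rfl⟩
    have h := qf_act Z u
    have e : act Z u = u + dMap Z u := by
      rw [dMap_apply, add_comm (act Z u), ← add_assoc, vec_add_self, zero_add]
    rw [e, qf_add, pol_comm, hpol, add_zero, add_eq_left] at h
    exact h
  -- the element of order five is unipotent
  have finish : (∀ x, act β (dMap Z x) = dMap Z x) → (∀ x, x ∈ K → act β x + x ∈ W) → False := by
    intro hfix hK
    have hβ1 : β = 1 := eq_one_of_unip hβZ hβ5 hfix fun x hx => by
      obtain ⟨y, hy⟩ := hK x hx
      exact ⟨y, hy.symm⟩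
    have hall : ∀ p ∈ P, p = 1 ∨ p = Z := fun p hp => by
      obtain ⟨q, -, e | e⟩ := hgen p hp <;> subst hβ1 <;> simp [e]
    have hcc : a * c = c * a := by
      rcases hall a ha with rfl | rfl <;> rcases hall c hc with rfl | rfl <;> simp
    rw [hcc] at hac
    exact hZ1 (right_eq_mul.1 hac)
  have hsW := sec_five bot_le hWb hβ5 (hWinv β hβZ) (hbotinv β)
  have hsK := sec_five hWK hKW16 hβ5 (hKinv β hβZ) (hWinv β hβZ)
  have hWfix : Nat.card W ≠ 16 → ∀ x, act β (dMap Z x) = dMap Z x := fun hne x => by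
    rcases hsW with h | ⟨h, -⟩
    · exact add_eq_zero_vec.1 (AddSubgroup.mem_bot.1 (h _ ⟨x, rfl⟩))
    · rw [hbot, mul_one] at h
      exact absurd h hne
  rcases hWlarge with h4 | h8 | h16
  · have hWf := hWfix (by omega)
    have hK64 : Nat.card K = 64 := by rw [h4] at hmul; omega
    rcases hsK with h | ⟨-, hfree⟩
    · exact finish hWf h
    have hS := count_perp W h4 hts K (fun x => (ker_iff hZZ x).trans
      ⟨fun h w ⟨y, hy⟩ => hy ▸ h y, fun h y => h _ ⟨y, rfl⟩⟩) hK64
    let g : {x : Vec // x ∈ K ∧ qf x = 0} → {x : Vec // x ∈ K ∧ qf x = 0} := fun x =>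
      ⟨act β x.1, hKinv β hβZ x.1 x.2.1, by rw [qf_act, x.2.2]⟩
    have hg : ∀ x, g^[5] x = x := fun x => by
      have key : ∀ k, ((g^[k] x : {x : Vec // x ∈ K ∧ qf x = 0}) : Vec) = act (β ^ k) x.1 := by
        intro k
        induction k with
        | zero => rw [pow_zero, act_one]; rfl
        | succ k ih => rw [Function.iterate_succ_apply', pow_succ', act_mul, ← ih]
      exact Subtype.ext (by rw [key, hβ5, act_one])
    have h := five_modEq g hg
    have hfix : Nat.card {x // g x = x} = 4 := by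
      rw [← h4]
      refine Nat.card_congr
        { toFun := fun x => ⟨x.1.1, ?_⟩
          invFun := fun w => ⟨⟨w.1, hWK w.2, hts _ w.2⟩, Subtype.ext ?_⟩
          left_inv := fun x => rfl
          right_inv := fun w => rfl }
      · refine hfree x.1.1 x.1.2.1 ?_
        rw [show act β x.1.1 = x.1.1 from congrArg Subtype.val x.2, vec_add_self]
        exact zero_mem _
      · obtain ⟨y, hy⟩ := w.2
        show act β w.1 = w.1
        rw [← hy]; exact hWf y
    rw [hS, hfix] at h
    unfold Nat.ModEq at h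
    omega
  · rcases hsK with h | ⟨h, -⟩
    · exact finish (hWfix (by omega)) h
    · rw [h8] at hmul h
      omega
  · have hKW : W = K := AddSubgroup.eq_of_le_of_card_ge hWK (by rw [h16] at hmul ⊢; omega)
    refine hZ1 (iso_ext fun u => ?_)
    rw [act_one, ← add_eq_zero_vec]
    show dMap Z u = 0
    have h1 : act a (act c u + u) = act c u + u := trW a ha _ (by rw [hKW]; exact trT c hc u)
    have h2 : act c (act a u + u) = act a u + u := trW c hc _ (by rw [hKW]; exact trT a ha u)
    rw [hkey u, h1, h2, vec_add_self, vec_add_self, add_zero]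

end

end CfsgLib.Spor.CoOneType
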