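import Cfsg.Agent.Lib.Spor.CoOneType.Part

/-!
# First consequences of the coordinates
-/

set_option autoImplicit false

namespace CfsgLib.Spor.CoOneType

open Subgroup
open scoped commutatorElement

noncomputable section

variable {G : Type*} [Group G] {z : G} {Q : Subgroup G} {v : G → Vec} {ρ : G → Iso8}

theorem mem_cz {z c : G} : c ∈ centralizer ({z} : Set G) ↔ c * z = z * c := mem_centralizer_singleton_iff

theorem conj_eq_iff_comm {a c : G} : c * a * c⁻¹ = a ↔ c * a = a * c := mul_inv_eq_iff_eq_mul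

namespace Setup

variable (S : Setup z Q v ρ)
include S

theorem zz : z * z = 1 := by rw [← pow_two, ← S.core.ord, pow_orderOf_eq_one]

theorem z_ne : z ≠ 1 := fun h => by
  have := S.core.ord
  rw [h, orderOf_one] at this
  omega

theorem z_inv : z⁻¹ = z := inv_eq_of_mul_eq_one_right S.zz

theorem le {a : G} (ha : a ∈ Q) : a ∈ centralizer ({z} : Set G) := S.core.le ha

theorem cz {a : G} (ha : a ∈ Q) : a * z = z * a := mem_cz.1 (S.le ha)

theorem v_one : v 1 = 0 := (S.v_ker 1 (one_mem _)).2 (Or.inl rfl)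

theorem v_z : v z = 0 := (S.v_ker z S.core.mem).2 (Or.inr rfl)

theorem v_inv {a : G} (ha : a ∈ Q) : v a⁻¹ = v a := by
  have h := S.v_mul a ha a⁻¹ (inv_mem ha)
  rw [mul_inv_cancel, S.v_one] at h
  calc v a⁻¹ = (v a + v a) + v a⁻¹ := by rw [vec_add_self, zero_add]
    _ = v a + (v a + v a⁻¹) := add_assoc _ _ _
    _ = v a := by rw [← h, add_zero]

theorem v_eq {a c : G} (ha : a ∈ Q) (hc : c ∈ Q) : v a = v c ↔ a = c ∨ a = c * z := by
  have h : v (c⁻¹ * a) = v c + v a := by rw [S.v_mul _ (inv_mem hc) _ ha, S.v_inv hc]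
  constructor
  · intro e
    rw [e, vec_add_self] at h
    rcases (S.v_ker _ (mul_mem (inv_mem hc) ha)).1 h with e' | e'
    · exact Or.inl (inv_mul_eq_one.1 e').symm
    · exact Or.inr (eq_mul_of_inv_mul_eq e')
  · rintro (rfl | rfl)
    · rfl
    · rw [S.v_mul c hc z S.core.mem, S.v_z, add_zero]

theorem v_mul_z {a : G} (ha : a ∈ Q) : v (a * z) = v a := by
  rw [S.v_mul a ha z S.core.mem, S.v_z, add_zero]

theorem ρ_one : ρ 1 = 1 := (S.ρ_ker 1 (one_mem _)).2 (one_mem _)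

theorem ρ_inv {c : G} (hc : c ∈ centralizer ({z} : Set G)) : ρ c⁻¹ = (ρ c)⁻¹ := by
  refine eq_inv_of_mul_eq_one_left ?_
  rw [← S.ρ_mul _ (inv_mem hc) c hc, inv_mul_cancel, S.ρ_one]

theorem ρ_pow {c : G} (hc : c ∈ centralizer ({z} : Set G)) : ∀ n : ℕ, ρ (c ^ n) = ρ c ^ n
  | 0 => by rw [pow_zero, pow_zero, S.ρ_one]
  | n + 1 => by rw [pow_succ, pow_succ, S.ρ_mul _ (pow_mem hc n) c hc, ρ_pow hc n]

theorem ρ_of_mem {a : G} (ha : a ∈ Q) : ρ a = 1 := (S.ρ_ker a (S.le ha)).2 ha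

theorem norm {c a : G} (hc : c ∈ centralizer ({z} : Set G)) (ha : a ∈ Q) : c * a * c⁻¹ ∈ Q :=
  S.core.norm c (mem_cz.1 hc) a ha

theorem conj_or {a c : G} (ha : a ∈ Q) (hc : c ∈ Q) : c * a * c⁻¹ = a ∨ c * a * c⁻¹ = a * z := by
  refine (S.v_eq (S.norm (S.le hc) ha) ha).1 ?_
  rw [S.ρ_act c (S.le hc) a ha, S.ρ_of_mem hc, act_one]

/-- A non-central element is moved by some element of the extraspecial group. -/
theorem exists_moving {a : G} (ha : a ∈ Q) (hav : v a ≠ 0) : ∃ c ∈ Q, c * a * c⁻¹ = a * z := by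
  by_contra hcon
  push Not at hcon
  have hmem : a ∈ centralizer (Q : Set G) := mem_centralizer_iff.2 fun c hc =>
    conj_eq_iff_comm.1 ((S.conj_or ha hc).resolve_right (hcon c hc))
  rw [S.core.cent, S.core.center_iff] at hmem
  exact hav ((S.v_ker a ha).2 hmem)

theorem v_ne {a : G} (ha : a ∈ Q) (h1 : a ≠ 1) (hz : a ≠ z) : v a ≠ 0 := fun h =>
  ((S.v_ker a ha).1 h).elim h1 hz

/-- All non-central involutions of the extraspecial group are conjugate in the centralizer. -/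
theorem inv_conj {a c : G} (ha : a ∈ Q) (hc : c ∈ Q) (ha2 : a * a = 1) (hc2 : c * c = 1) (ha0 : v a ≠ 0)
    (hc0 : v c ≠ 0) : ∃ g ∈ centralizer ({z} : Set G), g * a * g⁻¹ = c := by
  obtain ⟨k, hk, e⟩ := move_singular ha0 hc0 ((S.v_sq a ha).2 ha2) ((S.v_sq c hc).2 hc2)
  obtain ⟨g, hg, rfl⟩ := S.ρ_surj k hk
  rw [← S.ρ_act g hg a ha] at e
  rcases (S.v_eq (S.norm hg ha) hc).1 e with e | e
  · exact ⟨g, hg, e⟩
  · obtain ⟨q, hq, eq⟩ := S.exists_moving hc hc0
    refine ⟨q * g, mul_mem (S.le hq) hg, ?_⟩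
    calc q * g * a * (q * g)⁻¹ = q * (g * a * g⁻¹) * q⁻¹ := by group
      _ = (q * c * q⁻¹) * (q * z * q⁻¹) := by rw [e]; group
      _ = c := by rw [eq, S.cz hq, mul_inv_cancel_right, mul_assoc, S.zz, mul_one]

/-- All non-central involutions of the extraspecial group are conjugate to the centre. -/
theorem all_conj {g : G} (hgQ : g * z * g⁻¹ ∈ Q) (hne : g * z * g⁻¹ ≠ z) {a : G} (ha : a ∈ Q) (ha2 : a * a = 1)
    (ha0 : v a ≠ 0) : ∃ k : G, k * z * k⁻¹ = a := by
  have h2 : g * z * g⁻¹ * (g * z * g⁻¹) = 1 := by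
    rw [show g * z * g⁻¹ * (g * z * g⁻¹) = g * (z * z) * g⁻¹ by group, S.zz]; group
  have h1 : g * z * g⁻¹ ≠ 1 := fun h => S.z_ne (by simpa using h)
  obtain ⟨c, -, hc⟩ := S.inv_conj hgQ ha h2 ha2 (S.v_ne hgQ h1 hne) ha0
  exact ⟨c * g, by rw [← hc]; group⟩

/-- The coordinates transported by an element. -/
theorem conj [Finite G] (n : G) : Setup (n * z * n⁻¹) (Q.map (MulAut.conj n).toMonoidHom)
    (fun a => v (n⁻¹ * a * n)) (fun c => ρ (n⁻¹ * c * n)) := by
  have hmem : ∀ x, x ∈ Q.map (MulAut.conj n).toMonoidHom ↔ n⁻¹ * x * n ∈ Q := fun x => by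
    constructor
    · rintro ⟨a, ha, rfl⟩
      show n⁻¹ * (n * a * n⁻¹) * n ∈ Q
      simpa [mul_assoc] using ha
    · exact fun h => ⟨_, h, show n * (n⁻¹ * x * n) * n⁻¹ = x by group⟩
  have hcz : ∀ c, c ∈ centralizer ({n * z * n⁻¹} : Set G) ↔ n⁻¹ * c * n ∈ centralizer ({z} : Set G) := fun c => by
    rw [mem_cz, mem_cz]
    constructor
    · intro h
      calc n⁻¹ * c * n * z = n⁻¹ * (c * (n * z * n⁻¹)) * n := by group
        _ = n⁻¹ * (n * z * n⁻¹ * c) * n := by rw [h]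
        _ = _ := by group
    · intro h
      calc c * (n * z * n⁻¹) = n * (n⁻¹ * c * n * z) * n⁻¹ := by group
        _ = n * (z * (n⁻¹ * c * n)) * n⁻¹ := by rw [h]
        _ = _ := by group
  have hmul : ∀ a c : G, n⁻¹ * (a * c) * n = n⁻¹ * a * n * (n⁻¹ * c * n) := fun a c => by group
  have hinj : ∀ a c : G, n⁻¹ * a * n = n⁻¹ * c * n → a = c := fun a c h =>
    mul_left_cancel (mul_right_cancel h)
  have hcore : LargeQ.Core (Q.map (MulAut.conj n).toMonoidHom) (n * z * n⁻¹) := by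
    refine LargeQ.core_of_data _ ?_ _ ?_ ?_ ?_ ?_ ?_ ?_ ?_ ?_
    · have := orderOf_injective (MulAut.conj n).toMonoidHom (MulAut.conj n).injective z
      rw [S.core.ord] at this
      exact this
    · exact (IsPGroup.of_card (p := 2) (n := 9) (by rw [S.card]; rfl)).map _
    · exact (hmem _).2 (by simpa [mul_assoc] using S.core.mem)
    · intro q hq
      have := S.cz ((hmem q).1 hq)
      apply hinj
      calc n⁻¹ * (q * (n * z * n⁻¹)) * n = n⁻¹ * q * n * z := by group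
        _ = z * (n⁻¹ * q * n) := this
        _ = _ := by group
    · intro a ha c hc
      rcases S.core.comm_eq _ ((hmem a).1 ha) _ ((hmem c).1 hc) with e | e
      · left
        apply hinj
        rw [show n⁻¹ * (a * c * a⁻¹ * c⁻¹) * n = n⁻¹ * a * n * (n⁻¹ * c * n) * (n⁻¹ * a * n)⁻¹ * (n⁻¹ * c * n)⁻¹
          by group, e]
        group
      · right
        apply hinj
        rw [show n⁻¹ * (a * c * a⁻¹ * c⁻¹) * n = n⁻¹ * a * n * (n⁻¹ * c * n) * (n⁻¹ * a * n)⁻¹ * (n⁻¹ * c * n)⁻¹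
          by group, e]
        group
    · intro a ha
      rcases S.core.sq_eq _ ((hmem a).1 ha) with e | e
      · left; apply hinj; rw [hmul, e]; group
      · right; apply hinj; rw [hmul, e]; group
    · intro c hc
      have h : n⁻¹ * c * n ∈ centralizer (Q : Set G) := mem_centralizer_iff.2 fun q hq => by
        have := hc (n * q * n⁻¹) ((hmem _).2 (by simpa [mul_assoc] using hq))
        calc q * (n⁻¹ * c * n) = n⁻¹ * (n * q * n⁻¹ * c) * n := by group
          _ = n⁻¹ * (c * (n * q * n⁻¹)) * n := by rw [this]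
          _ = _ := by group
      rw [S.core.cent, S.core.center_iff] at h
      rcases h with e | e
      · left; apply hinj; rw [e]; group
      · right; apply hinj; rw [e]; group
    · intro c hc q hq
      refine (hmem _).2 ?_
      have := S.norm ((hcz c).1 (mem_cz.2 hc)) ((hmem q).1 hq)
      rwa [show n⁻¹ * (c * q * c⁻¹) * n = n⁻¹ * c * n * (n⁻¹ * q * n) * (n⁻¹ * c * n)⁻¹ by group]
    · rw [card_map_of_injective (MulAut.conj n).injective, S.card]; norm_num
  refine ⟨hcore, ?_, ?_, ?_, ?_, ?_, ?_, ?_, ?_, ?_, ?_, ?_⟩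
  · rw [card_map_of_injective (MulAut.conj n).injective, S.card]
  · intro a ha c hc
    show v (n⁻¹ * (a * c) * n) = _
    rw [hmul, S.v_mul _ ((hmem a).1 ha) _ ((hmem c).1 hc)]
  · intro a ha
    show v (n⁻¹ * a * n) = 0 ↔ _
    rw [S.v_ker _ ((hmem a).1 ha)]
    constructor
    · rintro (e | e)
      · left; apply hinj; rw [e]; group
      · right; apply hinj; rw [e]; group
    · rintro (rfl | rfl)
      · left; group
      · right; group
  · intro w
    obtain ⟨a, ha, e⟩ := S.v_surj w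
    refine ⟨n * a * n⁻¹, (hmem _).2 (by simpa [mul_assoc] using ha), ?_⟩
    show v (n⁻¹ * (n * a * n⁻¹) * n) = w
    rw [show n⁻¹ * (n * a * n⁻¹) * n = a by group, e]
  · intro a ha
    show qf (v (n⁻¹ * a * n)) = 0 ↔ _
    rw [S.v_sq _ ((hmem a).1 ha), ← hmul]
    exact ⟨fun h => hinj _ _ (by rw [h]; group), fun h => by rw [h]; group⟩
  · intro a ha c hc
    show QuadraticMap.polar qf (v (n⁻¹ * a * n)) (v (n⁻¹ * c * n)) = 0 ↔ _
    rw [S.v_comm _ ((hmem a).1 ha) _ ((hmem c).1 hc), ← hmul, ← hmul]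
    exact ⟨fun h => hinj _ _ h, fun h => by rw [h]⟩
  · intro a ha c hc
    show ρ (n⁻¹ * (a * c) * n) = _
    rw [hmul, S.ρ_mul _ ((hcz a).1 ha) _ ((hcz c).1 hc)]
  · intro c hc a ha
    show v (n⁻¹ * (c * a * c⁻¹) * n) = _
    rw [show n⁻¹ * (c * a * c⁻¹) * n = n⁻¹ * c * n * (n⁻¹ * a * n) * (n⁻¹ * c * n)⁻¹ by group,
      S.ρ_act _ ((hcz c).1 hc) _ ((hmem a).1 ha)]
  · intro c hc
    show ρ (n⁻¹ * c * n) = 1 ↔ _
    rw [S.ρ_ker _ ((hcz c).1 hc), hmem]
  · intro c hc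
    exact S.ρ_mem _ ((hcz c).1 hc)
  · intro k hk
    obtain ⟨c, hc, e⟩ := S.ρ_surj k hk
    refine ⟨n * c * n⁻¹, (hcz _).2 (by simpa [mul_assoc] using hc), ?_⟩
    show ρ (n⁻¹ * (n * c * n⁻¹) * n) = k
    rw [show n⁻¹ * (n * c * n⁻¹) * n = c by group, e]

end Setup

end

end CfsgLib.Spor.CoOneType
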