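import Cfsg.Agent.Lib.Spor.CoOneType.Part

/-!
# An isometry of order five whose fixed space has dimension four and minus type
-/

set_option autoImplicit false

namespace CfsgLib.Spor.CoOneType

open Matrix Cfsg.Geo CfsgLib.Perm.Trans.Quad

noncomputable section

/-- Four singular vectors of the four-space forming a basis. -/
def tb : Fin 4 → W4 :=
  ![Sum.elim (Sum.elim ![1] ![0]) ![0, 0], Sum.elim (Sum.elim ![0] ![1]) ![0, 0],
    Sum.elim (Sum.elim ![1] ![1]) ![1, 0], Sum.elim (Sum.elim ![1] ![1]) ![0, 1]]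

/-- The coefficients with respect to the basis. -/
def coef (x : W4) : Fin 4 → ZMod 2 :=
  ![x (.inl (.inl 0)) + x (.inr 0) + x (.inr 1), x (.inl (.inr 0)) + x (.inr 0) + x (.inr 1), x (.inr 0), x (.inr 1)]

theorem coef_spec : ∀ x : W4, x = coef x 0 • tb 0 + coef x 1 • tb 1 + coef x 2 • tb 2 + coef x 3 • tb 3 := by
  decide +kernel

theorem q4_coef : ∀ x : W4, q4 x = coef x 0 * coef x 1 + coef x 0 * coef x 2 + coef x 0 * coef x 3 +
    coef x 1 * coef x 2 + coef x 1 * coef x 3 + coef x 2 * coef x 3 := by decide +kernel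

theorem tb_singular : ∀ i, q4 (tb i) = 0 ∧ tb i ≠ 0 := by decide +kernel

theorem card_sing4 : Fintype.card {x : W4 // q4 x = 0} = 6 ∧ Fintype.card {x : W4 // q4 x = 1} = 10 := by
  decide +kernel

theorem card_sing8 : Fintype.card {x : Vec // qf x = 0} = 136 := by decide +kernel

theorem exists_inv_five {i : ℕ} (hi : i % 5 ≠ 0) : ∃ j, i * j % 5 = 1 := by
  have : i % 5 < 5 := Nat.mod_lt _ (by norm_num)
  refine ⟨(i % 5) ^ 3, ?_⟩
  rw [Nat.mul_mod]
  interval_cases h : i % 5 <;> simp_all

theorem act_pow_succ (β : Iso8) (n : ℕ) (x : Vec) : act (β ^ (n + 1)) x = act β (act (β ^ n) x) := by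
  rw [pow_succ', act_mul]

theorem act_pow_fix {β : Iso8} {x : Vec} (h : act β x = x) : ∀ n : ℕ, act (β ^ n) x = x
  | 0 => by rw [pow_zero, act_one]
  | n + 1 => by rw [act_pow_succ, act_pow_fix h n, h]

/-- An element of order five with its fixed space and the moved space. -/
structure FiveElt (β : Iso8) (P P' : Part) : Prop where
  pow5 : β ^ 5 = 1
  fix : ∀ v, act β v = v ↔ ∃ y, v = P.ι y
  perp : ∀ y, P.Perp (P'.ι y)
  cover : ∀ v, P.Perp v → ∃ y, v = P'.ι y
  orbit : ∀ u w, P.Perp u → qf u = 0 → u ≠ 0 → P.Perp w → qf w = 0 → w ≠ 0 → ∃ i < 5, act (β ^ i) w = u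

section Build

variable {β : Iso8} {P : Part} (h5 : β ^ 5 = 1) (hfix : ∀ v, act β v = v ↔ ∃ y, v = P.ι y)

include hfix in
theorem perp_act {v : Vec} (hv : P.Perp v) : P.Perp (act β v) := fun y => by
  rw [← (hfix (P.ι y)).2 ⟨y, rfl⟩, pol_act, hv]

include hfix in
theorem perp_pow {v : Vec} (hv : P.Perp v) : ∀ n : ℕ, P.Perp (act (β ^ n) v)
  | 0 => by rw [pow_zero, act_one]; exact hv
  | n + 1 => by rw [act_pow_succ]; exact perp_act hfix (perp_pow hv n)

include hfix in
theorem eq_zero_of_fix {v : Vec} (hv : P.Perp v) (hf : act β v = v) : v = 0 := by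
  obtain ⟨y, rfl⟩ := (hfix v).1 hf
  have h := (P.perp_iff _).1 hv
  rw [Part.κ_ι] at h
  rw [h, map_zero]

include h5 hfix in
theorem fix_pow_eq_zero {v : Vec} (hv : P.Perp v) {i : ℕ} (hi : i % 5 ≠ 0) (hf : act (β ^ i) v = v) : v = 0 := by
  refine eq_zero_of_fix hfix hv ?_
  obtain ⟨k, hk⟩ := exists_inv_five hi
  have h1 := act_pow_fix hf k
  rwa [← pow_mul, pow_eq_pow_mod (i * k) h5, hk, pow_one] at h1

theorem add_perp {v w : Vec} (hv : P.Perp v) (hw : P.Perp w) : P.Perp (v + w) := fun y => by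
  rw [pol_add_left, hv, hw, add_zero]

theorem card_perp_sing : Nat.card {u : Vec // P.Perp u ∧ qf u = 0} = 6 := by
  classical
  let e : Vec ≃ W4 × {u : Vec // P.Perp u} :=
    { toFun := fun v => (P.κ v, ⟨_, P.perp_sub v⟩)
      invFun := fun p => P.ι p.1 + p.2
      left_inv := fun v => (P.split v).symm
      right_inv := fun p => by
        have h : P.κ (P.ι p.1 + (p.2 : Vec)) = p.1 := by
          rw [map_add, Part.κ_ι, (P.perp_iff _).1 p.2.2, add_zero]
        refine Prod.ext h (Subtype.ext ?_)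
        show P.ι p.1 + p.2 + P.ι (P.κ (P.ι p.1 + p.2)) = p.2
        rw [h, add_comm (P.ι p.1), add_assoc, vec_add_self, add_zero] }
  set a := Fintype.card {u : {u : Vec // P.Perp u} // qf u.1 = 0}
  set b := Fintype.card {u : {u : Vec // P.Perp u} // qf u.1 = 1}
  have hU : Fintype.card {u : Vec // P.Perp u} = 16 := by
    have h := Fintype.card_congr e
    rw [Fintype.card_prod] at h
    have h1 : Fintype.card Vec = 256 := by rw [Fintype.card_fun]; rfl
    have h2 : Fintype.card W4 = 16 := by rw [Fintype.card_fun]; rfl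
    rw [h1, h2] at h
    omega
  have hab : a + b = 16 := by
    have h := Fintype.card_subtype_compl (α := {u : Vec // P.Perp u}) (fun u => qf u.1 = 1)
    have hle := Fintype.card_subtype_le (α := {u : Vec // P.Perp u}) (fun u => qf u.1 = 1)
    have he : a = Fintype.card {u : {u : Vec // P.Perp u} // ¬ qf u.1 = 1} :=
      Fintype.card_congr (Equiv.subtypeEquivRight fun u =>
        ⟨fun h => by rw [h]; decide, fun h => (two_cases _).resolve_right h⟩)
    rw [hU] at h hle
    omega
  have hsum : 136 = 6 * a + 10 * b := by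
    rw [← card_sing8, ← card_sing4.1, ← card_sing4.2, ← Fintype.card_prod, ← Fintype.card_prod, ← Fintype.card_sum]
    refine Fintype.card_congr ?_
    refine (e.subtypeEquiv (q := fun p => q4 p.1 + qf p.2.1 = 0) fun v => by rw [P.qf_split v]; rfl).trans ?_
    refine
      { toFun := fun p => if h : q4 p.1.1 = 0 then .inl (⟨p.1.1, h⟩, ⟨p.1.2, by simpa [h] using p.2⟩)
          else .inr (⟨p.1.1, (two_cases _).resolve_left h⟩, ⟨p.1.2, by
            have h' := p.2
            rw [(two_cases (q4 p.1.1)).resolve_left h, CharTwo.add_eq_zero] at h'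
            exact h'.symm⟩)
        invFun := Sum.elim (fun p => ⟨(p.1.1, p.2.1), by rw [p.1.2, p.2.2, add_zero]⟩)
          (fun p => ⟨(p.1.1, p.2.1), by rw [p.1.2, p.2.2]; decide⟩)
        left_inv := fun p => by
          dsimp only
          split_ifs <;> rfl
        right_inv := fun p => by
          rcases p with p | p
          · simp [p.1.2]
          · simp [p.1.2] }
  rw [← Nat.card_congr (Equiv.subtypeSubtypeEquivSubtypeInter _ _), Nat.card_eq_fintype_card]
  show a = 6
  omega

include h5 hfix in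
theorem orbit_cover {u w : Vec} (hu : P.Perp u) (hqu : qf u = 0) (hu0 : u ≠ 0) (hw : P.Perp w) (hqw : qf w = 0)
    (hw0 : w ≠ 0) : ∃ i < 5, act (β ^ i) w = u := by
  classical
  by_contra hcon
  push Not at hcon
  have hq : ∀ i : ℕ, qf (act (β ^ i) w) = 0 := fun i => by rw [qf_act, hqw]
  have hne : ∀ i : ℕ, act (β ^ i) w ≠ 0 := fun i h => hw0 (act_injective (β ^ i) (by rw [h, act_zero]))
  have hinj : ∀ i < 5, ∀ j < 5, act (β ^ i) w = act (β ^ j) w → i = j := by
    intro i hi j hj e
    by_contra hij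
    rcases lt_or_gt_of_ne hij with h | h
    · refine hw0 (fix_pow_eq_zero h5 hfix hw (i := j - i) (by omega) (act_injective (β ^ i) ?_))
      rw [← act_mul, ← pow_add, Nat.add_sub_cancel' h.le, e]
    · refine hw0 (fix_pow_eq_zero h5 hfix hw (i := i - j) (by omega) (act_injective (β ^ j) ?_))
      rw [← act_mul, ← pow_add, Nat.add_sub_cancel' h.le, e]
  let f : Fin 7 → {u : Vec // P.Perp u ∧ qf u = 0} := fun k =>
    if h : (k : ℕ) < 5 then ⟨_, perp_pow hfix hw k, hq k⟩
    else if (k : ℕ) = 5 then ⟨0, (P.perp_iff 0).2 (map_zero _), qzero qf_nd⟩ else ⟨u, hu, hqu⟩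
  have hf : Function.Injective f := by
    intro i j e
    have e' := congrArg Subtype.val e
    apply Fin.ext
    have hi' := i.2
    have hj' := j.2
    simp only [f] at e'
    split_ifs at e' <;>
    first
      | exact hinj _ ‹_› _ ‹_› e'
      | exact absurd e' (hne _)
      | exact absurd e'.symm (hne _)
      | exact absurd e' (hcon _ ‹_›)
      | exact absurd e'.symm (hcon _ ‹_›)
      | exact absurd e' hu0
      | exact absurd e'.symm hu0
      | omega
  have h := Nat.card_le_card_of_injective f hf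
  rw [card_perp_sing, Nat.card_fin] at h
  omega

include h5 hfix in
theorem pol_orbit {s : Vec} (hs : P.Perp s) (hq : qf s = 0) (hs0 : s ≠ 0) {i : ℕ} (hi : i % 5 ≠ 0) :
    QuadraticMap.polar qf s (act (β ^ i) s) = 1 := by
  refine (two_cases _).resolve_left fun h0 => ?_
  set γ := β ^ i
  set x := act γ s
  have hγ5 : γ ^ 5 = 1 := by rw [← pow_mul, mul_comm, pow_mul, h5, one_pow]
  have hmoves : ∀ {y : Vec}, P.Perp y → act γ y = y → y = 0 := fun hy h => fix_pow_eq_zero h5 hfix hy hi h
  have hsx : P.Perp (s + x) := add_perp hs (perp_pow hfix hs i)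
  have hqsx : qf (s + x) = 0 := by rw [qf_add, hq, qf_act, hq, h0]; rfl
  have hne : s + x ≠ 0 := fun h => hs0 (hmoves hs (by
    calc x = (s + s) + x := by rw [vec_add_self, zero_add]
      _ = s + (s + x) := add_assoc _ _ _
      _ = s := by rw [h, add_zero]))
  obtain ⟨k, -, hk⟩ := orbit_cover h5 hfix hsx hqsx hne hs hq hs0
  obtain ⟨m, hm5, hm⟩ : ∃ m < 5, β ^ k = γ ^ m := by
    obtain ⟨j, hj⟩ := exists_inv_five hi
    refine ⟨k * j % 5, Nat.mod_lt _ (by norm_num), ?_⟩
    rw [← pow_mul, pow_eq_pow_mod (i * _) h5, pow_eq_pow_mod k h5, Nat.mul_mod_mod,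
      show i * (k * j) = k * (i * j) by ring, Nat.mul_mod k, hj, mul_one, Nat.mod_mod]
  rw [hm] at hk
  have hγ : ∀ a b : Vec, act γ (a + b) = act γ a + act γ b := act_add γ
  have hp : ∀ n, act (γ ^ (n + 1)) s = act γ (act (γ ^ n) s) := fun n => act_pow_succ γ n s
  have h2 : act (γ ^ 2) s = act γ x := by rw [hp 1, pow_one]
  have h3 : act (γ ^ 3) s = act γ (act γ x) := by rw [hp 2, h2]
  have h4 : act (γ ^ 4) s = act γ (act γ (act γ x)) := by rw [hp 3, h3]
  have h55 : act γ (act γ (act γ (act γ x))) = s := by rw [← h4, ← hp 4, hγ5, act_one]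
  interval_cases m
  · rw [pow_zero, act_one] at hk
    exact hs0 (act_injective γ (by
      rw [act_zero]
      calc x = (s + s) + x := by rw [vec_add_self, zero_add]
        _ = s + (s + x) := add_assoc _ _ _
        _ = 0 := by rw [← hk, vec_add_self]))
  · rw [pow_one] at hk
    exact hs0 (by
      calc s = s + (x + x) := by rw [vec_add_self, add_zero]
        _ = (s + x) + x := (add_assoc _ _ _).symm
        _ = 0 := by rw [← hk, vec_add_self])
  · -- `γ² s = s + γ s`
    rw [h2] at hk
    have e : act γ (act γ x) = s := by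
      rw [hk, hγ, hk, add_comm s x, ← add_assoc, show act γ s = x from rfl, vec_add_self, zero_add]
    rw [e] at h55
    have e' : act γ x = s := h55
    rw [e'] at hk
    refine hs0 (act_injective γ ?_)
    rw [act_zero]
    show x = 0
    exact add_eq_left.1 hk.symm
  · rw [h3] at hk
    have e : act γ (act γ (act γ x)) = x + act γ x := by rw [hk, hγ]
    have e5 : s = act γ x + (s + x) := by
      conv_lhs => rw [← h55, e, hγ, hk]
    refine hs0 (hmoves hs (act_injective γ ?_))
    show act γ x = x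
    calc act γ x = act γ x + (s + x) + (s + x) := by rw [add_assoc, vec_add_self, add_zero]
      _ = s + (s + x) := by rw [← e5]
      _ = x := by rw [← add_assoc, vec_add_self, zero_add]
  · rw [h4] at hk
    have e : s = x + act γ x := by
      conv_lhs => rw [← h55, hk, hγ]
    have e2 : act γ (act γ (act γ x)) = act γ x := by
      rw [hk]
      conv_lhs => rw [e]
      rw [add_comm x, add_assoc, vec_add_self, add_zero]
    have e3 : act γ (act γ x) = x := act_injective γ e2
    rw [e3] at h55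
    -- `γ⁴ s = γ² s` and `γ⁵ s = s`
    rw [e2] at hk
    have e4 : act γ x = s := act_injective γ (by rw [e3])
    rw [e4] at hk
    refine hs0 (act_injective γ ?_)
    rw [act_zero]
    show x = 0
    exact add_eq_left.1 hk.symm

include h5 hfix in
/-- The moved space is a second copy of the four-space. -/
theorem exists_partner : ∃ P' : Part, FiveElt β P P' := by
  classical
  obtain ⟨⟨s, hs⟩, hs0⟩ : ∃ s : {u : Vec // P.Perp u ∧ qf u = 0}, (s : Vec) ≠ 0 := by
    by_contra hcon
    push Not at hcon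
    haveI : Subsingleton {u : Vec // P.Perp u ∧ qf u = 0} :=
      ⟨fun a b => Subtype.ext ((hcon a).trans (hcon b).symm)⟩
    have := card_perp_sing (P := P)
    rw [Nat.card_eq_fintype_card] at this
    have := Fintype.card_le_one_iff_subsingleton.2 (inferInstance : Subsingleton {u : Vec // P.Perp u ∧ qf u = 0})
    omega
  let S : Fin 4 → Vec := fun i => act (β ^ (i : ℕ)) s
  let ι' : W4 →ₗ[ZMod 2] Vec :=
    { toFun := fun x => coef x 0 • S 0 + coef x 1 • S 1 + coef x 2 • S 2 + coef x 3 • S 3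
      map_add' := fun x y => by
        simp only [coef, Pi.add_apply, Matrix.cons_val]
        module
      map_smul' := fun a x => by
        simp only [coef, Pi.smul_apply, smul_eq_mul, Matrix.cons_val, RingHom.id_apply]
        module }
  have hS : ∀ i, qf (S i) = 0 := fun i => by rw [qf_act, hs.2]
  have hpol : ∀ i j : Fin 4, i < j → QuadraticMap.polar qf (S i) (S j) = 1 := fun i j hij => by
    have h : (j : ℕ) = i + (j - i) := by omega
    show QuadraticMap.polar qf (act (β ^ (i : ℕ)) s) (act (β ^ (j : ℕ)) s) = 1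
    rw [h, pow_add, act_mul, pol_act]
    exact pol_orbit h5 hfix hs.1 hs.2 hs0 (by omega)
  have hiso : ∀ x, qf (ι' x) = q4 x := fun x => by
    show qf (coef x 0 • S 0 + coef x 1 • S 1 + coef x 2 • S 2 + coef x 3 • S 3) = _
    have hsm : ∀ (a : ZMod 2) (u : Vec), qf (a • u) = a ^ 2 * qf u := qf_nd.smul
    have hpm : ∀ (a b : ZMod 2) (u w : Vec),
        QuadraticMap.polar qf (a • u) (b • w) = a * b * QuadraticMap.polar qf u w := fun a b u w => by
      rw [qf_nd.polar_bilinear.smul_left, pol_comm, qf_nd.polar_bilinear.smul_left, pol_comm]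
      ring
    rw [q4_coef]
    simp only [qf_add, pol_add_left, hsm, hpm, hS]
    rw [hpol 0 1 (by decide), hpol 0 2 (by decide), hpol 1 2 (by decide), hpol 0 3 (by decide),
      hpol 1 3 (by decide), hpol 2 3 (by decide)]
    ring
  set P' : Part := ⟨ι', hiso⟩
  have hperp : ∀ y, P.Perp (P'.ι y) := fun y z => by
    show QuadraticMap.polar qf (coef y 0 • S 0 + coef y 1 • S 1 + coef y 2 • S 2 + coef y 3 • S 3) _ = 0
    have hS' : ∀ i, QuadraticMap.polar qf (S i) (P.ι z) = 0 := fun i => perp_pow hfix hs.1 _ z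
    simp only [pol_add_left, qf_nd.polar_bilinear.smul_left, hS', smul_zero, mul_zero, add_zero]
  refine ⟨P', ⟨h5, hfix, hperp, fun v hv => ⟨P'.κ v, ?_⟩, fun u w hu hqu hu0 hw hqw hw0 =>
    orbit_cover h5 hfix hu hqu hu0 hw hqw hw0⟩⟩
  let F : W4 × W4 → Vec := fun p => P.ι p.1 + P'.ι p.2
  have hκ : ∀ y, P.κ (P'.ι y) = 0 := fun y => (P.perp_iff _).1 (hperp y)
  have hF : Function.Injective F := fun p q e => by
    have h1 := congrArg P.κ e
    simp only [F, map_add, Part.κ_ι, hκ, add_zero] at h1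
    simp only [F, h1, add_right_inj] at e
    exact Prod.ext h1 (P'.ι_injective e)
  obtain ⟨⟨y, y'⟩, rfl⟩ := ((Fintype.bijective_iff_injective_and_card F).2
    ⟨hF, by simp [Fintype.card_prod, Fintype.card_fun]⟩).2 v
  have hy : y = 0 := by
    have h := (P.perp_iff _).1 hv
    simpa [F, hκ, Part.κ_ι] using h
  simp [F, hy, Part.κ_ι]

end Build

namespace FiveElt

variable {β : Iso8} {P P' : Part} (h : FiveElt β P P')
include h

/-- Isometries agreeing on one moved singular orbit agree on the moved space. -/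
theorem agree {g k : Iso8} {s : Vec} (hs : P.Perp s) (hq : qf s = 0) (hs0 : s ≠ 0)
    (he : ∀ i < 5, act g (act (β ^ i) s) = act k (act (β ^ i) s)) (y : W4) :
    act g (P'.ι y) = act k (P'.ι y) := by
  have hb : ∀ j, act g (P'.ι (tb j)) = act k (P'.ι (tb j)) := fun j => by
    obtain ⟨i, hi, e⟩ := h.orbit (P'.ι (tb j)) s (h.perp _) (by rw [P'.iso]; exact (tb_singular j).1)
      (fun e => (tb_singular j).2 (P'.ι_injective (by rw [e, map_zero]))) hs hq hs0
    rw [← e, he i hi]
  have hlin : ∀ (x : Iso8) (a : ZMod 2) (u : Vec), act x (a • u) = a • act x u := fun x a u => mulVec_smul _ _ _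
  rw [coef_spec y]
  simp only [map_add, map_smul, act_add, hlin, hb]

theorem exists_sing : ∃ s : Vec, P.Perp s ∧ qf s = 0 ∧ s ≠ 0 :=
  ⟨P'.ι (tb 0), h.perp _, by rw [P'.iso]; exact (tb_singular 0).1,
    fun e => (tb_singular 0).2 (P'.ι_injective (by rw [e, map_zero]))⟩

theorem perp' (y : W4) : P'.Perp (P.ι y) := fun z => by rw [pol_comm]; exact h.perp z y

theorem cover' {v : Vec} (hv : P'.Perp v) : ∃ y, v = P.ι y := by
  refine ⟨P.κ v, ?_⟩
  obtain ⟨y, hy⟩ := h.cover _ (P.perp_sub v)
  have h0 : P'.κ (v + P.ι (P.κ v)) = y := by rw [hy, Part.κ_ι]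
  rw [map_add, (P'.perp_iff v).1 hv, (P'.perp_iff _).1 (h.perp' _), add_zero] at h0
  rw [← h0, map_zero] at hy
  calc v = v + (P.ι (P.κ v) + P.ι (P.κ v)) := by rw [vec_add_self, add_zero]
    _ = (v + P.ι (P.κ v)) + P.ι (P.κ v) := (add_assoc _ _ _).symm
    _ = _ := by rw [hy, zero_add]

theorem pow_fix (i : ℕ) (y : W4) : act (β ^ i) (P.ι y) = P.ι y := act_pow_fix ((h.fix _).2 ⟨y, rfl⟩) i

theorem stab {g : Iso8} (hc : g * β = β * g) : P.Stab g := fun y => by
  refine (h.fix _).1 ?_
  rw [← act_mul, ← hc, act_mul, (h.fix _).2 ⟨y, rfl⟩]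

theorem stab' {g : Iso8} (hc : g * β = β * g) : P'.Stab g := fun y =>
  h.cover _ (P.stab_perp (h.stab hc) (h.perp y))

/-- On the moved space a commuting isometry is a power of the element. -/
theorem comm_pow {g : Iso8} (hc : g * β = β * g) : ∃ i < 5, ∀ y, act g (P'.ι y) = act (β ^ i) (P'.ι y) := by
  obtain ⟨s, hs, hq, hs0⟩ := h.exists_sing
  obtain ⟨i, hi, e⟩ := h.orbit (act g s) s (P.stab_perp (h.stab hc) hs) (by rw [qf_act, hq])
    (fun e => hs0 (act_injective g (by rw [e, act_zero]))) hs hq hs0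
  refine ⟨i, hi, h.agree hs hq hs0 fun j _ => ?_⟩
  have hc' : g * β ^ j = β ^ j * g := (show Commute g β from hc).pow_right j
  rw [← act_mul, hc', act_mul, ← e, ← act_mul, ← act_mul, ← pow_add, ← pow_add, add_comm j i]

theorem pow_eq_one {i : ℕ} {y : W4} (hy : y ≠ 0) (e : act (β ^ i) (P'.ι y) = P'.ι y) : i % 5 = 0 := by
  by_contra hi
  exact hy (P'.ι_injective (by rw [fix_pow_eq_zero h.pow5 h.fix (h.perp y) hi e, map_zero]))

/-- The action on the fixed space of a commuting element of the simple group lies in the alternating group. -/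
theorem res_mem (hβ : β ∈ Om) {g : Iso8} (hg : g ∈ Om) (hc : g * β = β * g) {k : Iso4}
    (hk : ∀ y, act g (P.ι y) = P.ι (act4 k y)) : k ∈ P.alt := by
  obtain ⟨i, -, hi⟩ := h.comm_pow hc
  have he : (β ^ i)⁻¹ * g = P.T k := by
    refine P.eq_T (fun y => ?_) fun v hv => ?_
    · apply act_injective (β ^ i)
      rw [← act_mul, mul_inv_cancel_left, hk, h.pow_fix]
    · obtain ⟨y, rfl⟩ := h.cover v hv
      apply act_injective (β ^ i)
      rw [← act_mul, mul_inv_cancel_left, hi]
  show P.T k ∈ Om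
  rw [← he]
  exact mul_mem (inv_mem (pow_mem hβ i)) hg

end FiveElt

end

end CfsgLib.Spor.CoOneType
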