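import Cfsg.Agent.Lib.Spor.CoOneType.Basic
import Cfsg.Agent.Lib.Spor.CoOneType.Five

/-!
# An element of order five in the centralizer: the two four-spaces and the action on them
-/

set_option autoImplicit false

namespace CfsgLib.Spor.CoOneType

open Subgroup CfsgLib.PGroup CfsgLib.Spor.ExtraOut

noncomputable section

variable {G : Type*} [Group G]

/-- The fixed part of the extraspecial group. -/
abbrev fixQ (Q : Subgroup G) (b : G) : Subgroup G := Q ⊓ centralizer ({b} : Set G)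

/-- The data at an element of order five. -/
structure Frame (z : G) (Q : Subgroup G) (v : G → Vec) (ρ : G → Iso8) (b : G) (P P' : Part) : Prop where
  setup : Setup z Q v ρ
  bC : b ∈ centralizer ({z} : Set G)
  b5 : orderOf b = 5
  five : FiveElt (ρ b) P P'
  cardR : Nat.card (fixQ Q b) = 32

theorem fixed_iff {z : G} {Q : Subgroup G} {v : G → Vec} {ρ : G → Iso8} (S : Setup z Q v ρ) {b : G}
    (hbC : b ∈ centralizer ({z} : Set G)) (hb5 : orderOf b = 5) {a : G} (ha : a ∈ Q) :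
    b * a = a * b ↔ act (ρ b) (v a) = v a := by
  rw [← S.ρ_act b hbC a ha]
  constructor
  · intro h; rw [conj_eq_iff_comm.2 h]
  · intro h
    rcases (S.v_eq (S.norm hbC ha) ha).1 h with e | e
    · exact conj_eq_iff_comm.1 e
    · exfalso
      have hbz : b * z = z * b := mem_cz.1 hbC
      have key : ∀ k : ℕ, b ^ k * a = a * z ^ k * b ^ k := by
        intro k
        induction k with
        | zero => simp
        | succ k ih =>
          have hk : z * b ^ k = b ^ k * z := ((show Commute z b from hbz.symm).pow_right k).eq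
          calc b ^ (k + 1) * a = b ^ k * (b * a * b⁻¹) * b := by rw [pow_succ]; group
            _ = (b ^ k * a) * (z * b) := by rw [e]; group
            _ = a * z ^ k * (b ^ k * z) * b := by rw [ih]; group
            _ = a * z ^ k * (z * b ^ k) * b := by rw [hk]
            _ = a * z ^ (k + 1) * b ^ (k + 1) := by rw [pow_succ, pow_succ]; group
      have h5 := key 5
      rw [← hb5, pow_orderOf_eq_one, one_mul, mul_one, hb5] at h5
      have hz5 : z ^ 5 = z := by
        rw [show (5 : ℕ) = 2 * 2 + 1 from rfl, pow_succ, pow_mul, pow_two z, S.zz, one_pow, one_mul]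
      rw [hz5] at h5
      exact S.z_ne (left_eq_mul.1 h5)

/-- The data exist. -/
theorem exists_frame [Finite G] {z : G} {Q : Subgroup G} {v : G → Vec} {ρ : G → Iso8} (S : Setup z Q v ρ) {b : G}
    (hbC : b ∈ centralizer ({z} : Set G)) (hb5 : orderOf b = 5) (hR : Cfsg.IsExtraspecial 2 ↥(fixQ Q b))
    (hcard : Nat.card (fixQ Q b) = 32)
    (hno : ¬ ∃ A : Subgroup ↥(fixQ Q b), Cfsg.IsElementaryAbelian 2 A ∧ Nat.card A = 2 ^ (2 + 1)) :
    ∃ P P', Frame z Q v ρ b P P' := by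
  haveI : Fact (Nat.Prime 2) := ⟨Nat.prime_two⟩
  obtain ⟨hsc, -⟩ := smallCenter_of_extraspecial (p := 2) hR
  have hzR : z ∈ fixQ Q b := ⟨S.core.mem, mem_centralizer_singleton_iff.2 (mem_cz.1 hbC).symm⟩
  set zr : fixQ Q b := ⟨z, hzR⟩ with hzr
  have hzc : zr ∈ center (fixQ Q b) := mem_center_iff.2 fun c => Subtype.ext (S.cz c.2.1)
  have hzr1 : zr ≠ 1 := fun h => S.z_ne (congrArg Subtype.val h)
  obtain ⟨φ, hφz⟩ := exists_equiv_of_signSum 2 (by norm_num) (fixQ Q b) (Model (minusMat 1)) hsc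
    (smallCenter (nondeg_minus 1)) (by rw [hcard]; rfl) (by rw [card_model]; rfl)
    (by rw [ExtraOut.sign_neg (n := 2) hsc (by rw [hcard]; rfl) hno, sign_minus]) zr hzc hzr1 ⟨0, 1⟩
    (mk_mem_center _) cen_ne_one
  have hv : ∀ x : Model (minusMat 1), v (φ.symm x).1 = v (φ.symm ⟨x.v, 0⟩).1 := by
    intro x
    rcases two_cases x.c with h | h
    · rw [show x = ⟨x.v, 0⟩ from Model.ext rfl h]
    · have e : x = ⟨x.v, 0⟩ * φ zr := by
        rw [hφz]
        exact Model.ext (by simp [mul_v]) (by simp [mul_c, h, bl_zero_right])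
      conv_lhs => rw [e, map_mul, φ.symm_apply_apply]
      exact S.v_mul_z (φ.symm _).2.1
  let f : W4 →+ Vec := AddMonoidHom.mk' (fun y => v (φ.symm ⟨y, 0⟩).1) fun y y' => by
    have h := S.v_mul _ (φ.symm ⟨y, 0⟩).2.1 _ (φ.symm ⟨y', 0⟩).2.1
    rw [← h, ← Subgroup.coe_mul, ← map_mul]
    exact (hv (⟨y, 0⟩ * ⟨y', 0⟩)).symm
  let P : Part :=
    { ι := f.toZModLinearMap 2
      iso := fun y => by
        show qf (v (φ.symm ⟨y, 0⟩).1) = q4 y
        have h : qf (v (φ.symm ⟨y, 0⟩).1) = 0 ↔ q4 y = 0 := by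
          rw [S.v_sq _ (φ.symm ⟨y, 0⟩).2.1, show q4 y = bl (minusMat 1) y y from minus_eq y]
          have h2 := ExtraOut.sq_eq_one_iff (minusMat 1) ⟨y, 0⟩
          rw [← h2, ← map_eq_one_iff φ.symm φ.symm.injective, map_pow, pow_two]
          exact ⟨fun e => Subtype.ext e, fun e => congrArg Subtype.val e⟩
        rcases two_cases (q4 y) with e | e
        · rw [e]; exact h.2 e
        · rw [e]
          exact (two_cases _).resolve_left fun e' => by rw [h.1 e'] at e; exact zero_ne_one e }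
  have hfix : ∀ w, act (ρ b) w = w ↔ ∃ y, w = P.ι y := by
    intro w
    constructor
    · intro h
      obtain ⟨a, ha, rfl⟩ := S.v_surj w
      have haR : a ∈ fixQ Q b := ⟨ha, mem_centralizer_singleton_iff.2 ((fixed_iff S hbC hb5 ha).2 h).symm⟩
      refine ⟨(φ ⟨a, haR⟩).v, ?_⟩
      show v a = v (φ.symm ⟨(φ ⟨a, haR⟩).v, 0⟩).1
      rw [← hv, φ.symm_apply_apply]
    · rintro ⟨y, rfl⟩
      exact (fixed_iff S hbC hb5 (φ.symm ⟨y, 0⟩).2.1).1 (mem_centralizer_singleton_iff.1 (φ.symm ⟨y, 0⟩).2.2).symm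
  have h5 : ρ b ^ 5 = 1 := by rw [← S.ρ_pow hbC, ← hb5, pow_orderOf_eq_one, S.ρ_one]
  obtain ⟨P', hP'⟩ := exists_partner h5 hfix
  exact ⟨P, P', ⟨S, hbC, hb5, hP', hcard⟩⟩

namespace Frame

variable {z : G} {Q : Subgroup G} {v : G → Vec} {ρ : G → Iso8} {b : G} {P P' : Part}
  (F : Frame z Q v ρ b P P')
include F

theorem mem_fix {a : G} (ha : a ∈ Q) : a ∈ fixQ Q b ↔ ∃ y, v a = P.ι y := by
  rw [← F.five.fix, ← fixed_iff F.setup F.bC F.b5 ha]
  exact ⟨fun h => (mem_centralizer_singleton_iff.1 h.2).symm,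
    fun h => ⟨ha, mem_centralizer_singleton_iff.2 h.symm⟩⟩

theorem fix_v {a : G} (ha : a ∈ fixQ Q b) : ∃ y, v a = P.ι y := (F.mem_fix ha.1).1 ha

theorem fix_surj (y : W4) : ∃ a ∈ fixQ Q b, v a = P.ι y := by
  obtain ⟨a, ha, e⟩ := F.setup.v_surj (P.ι y)
  exact ⟨a, (F.mem_fix ha).2 ⟨y, e⟩, e⟩

theorem z_fix : z ∈ fixQ Q b :=
  ⟨F.setup.core.mem, mem_centralizer_singleton_iff.2 (mem_cz.1 F.bC).symm⟩

/-- The centre of the fixed part. -/
theorem fix_center {a : G} (ha : a ∈ fixQ Q b) (h : ∀ c ∈ fixQ Q b, a * c = c * a) : a = 1 ∨ a = z := by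
  refine (F.setup.v_ker a ha.1).1 ?_
  obtain ⟨y, hy⟩ := F.fix_v ha
  rw [hy]
  by_contra hne
  obtain ⟨y', hy'⟩ := pol4_exists (x := y) fun e => hne (by rw [e, map_zero])
  obtain ⟨c, hc, hvc⟩ := F.fix_surj y'
  have h0 := (F.setup.v_comm a ha.1 c hc.1).2 (h c hc)
  rw [hy, hvc, P.pol_ι, hy'] at h0
  exact one_ne_zero h0

theorem ρb_ne : ρ b ≠ 1 := fun h => by
  have hbQ := (F.setup.ρ_ker b F.bC).1 h
  have h2 : b * b = 1 ∨ b * b = z := by
    rcases F.setup.core.ext with ⟨⟨hp, -⟩, -⟩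
    obtain ⟨k, hk⟩ := hp ⟨b, hbQ⟩
    have hk' : b ^ 2 ^ k = 1 := congrArg Subtype.val hk
    have := orderOf_dvd_of_pow_eq_one hk'
    rw [F.b5] at this
    exact absurd (Nat.prime_five.dvd_of_dvd_pow this) (by norm_num)
  have h4 : b ^ 4 = 1 := by
    rw [show (4 : ℕ) = 2 * 2 from rfl, pow_mul, pow_two, pow_two]
    rcases h2 with e | e <;> rw [e]
    · rw [one_mul]
    · exact F.setup.zz
  have := orderOf_dvd_of_pow_eq_one h4
  rw [F.b5] at this
  norm_num at this

/-- The centralizer of the element inside the centralizer of the involution. -/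
abbrev H (_F : Frame z Q v ρ b P P') : Subgroup G := centralizer ({z} : Set G) ⊓ centralizer ({b} : Set G)

theorem ρ_comm {c : G} (hc : c ∈ F.H) : ρ c * ρ b = ρ b * ρ c := by
  rw [← F.setup.ρ_mul c hc.1 b F.bC, mem_centralizer_singleton_iff.1 hc.2, F.setup.ρ_mul b F.bC c hc.1]

theorem exists_res (c : F.H) : ∃ k : P.alt, ∀ y, act (ρ (c : G)) (P.ι y) = P.ι (act4 (k : Iso4) y) := by
  obtain ⟨k, hk⟩ := P.exists_res (F.five.stab (F.ρ_comm c.2))
  exact ⟨⟨k, F.five.res_mem (F.setup.ρ_mem b F.bC) (F.setup.ρ_mem _ c.2.1) (F.ρ_comm c.2) hk⟩, hk⟩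

/-- The action on the fixed space, as a function. -/
def resFun (c : F.H) : P.alt := Classical.choose (F.exists_res c)

theorem resFun_spec (c : F.H) (y : W4) : act (ρ (c : G)) (P.ι y) = P.ι (act4 (F.resFun c : Iso4) y) :=
  Classical.choose_spec (F.exists_res c) y

theorem resFun_mul (c d : F.H) : F.resFun (c * d) = F.resFun c * F.resFun d := by
  refine Subtype.ext (iso4_ext fun y => P.ι_injective ?_)
  refine (F.resFun_spec (c * d) y).symm.trans ?_
  show act (ρ ((c : G) * (d : G))) _ = P.ι (act4 ((F.resFun c : Iso4) * (F.resFun d : Iso4)) y)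
  rw [act4_mul, F.setup.ρ_mul _ c.2.1 _ d.2.1, act_mul, F.resFun_spec d y, F.resFun_spec c]

/-- The action on the fixed space. -/
def res : ↥F.H →* ↥P.alt := MonoidHom.mk' F.resFun F.resFun_mul

theorem res_spec (c : F.H) (y : W4) : act (ρ (c : G)) (P.ι y) = P.ι (act4 (F.res c : Iso4) y) :=
  F.resFun_spec c y

theorem res_eq_one {c : F.H} (h : F.res c = 1) : ∃ r ∈ fixQ Q b, ∃ i : ℕ, (c : G) = r * b ^ i := by
  obtain ⟨i, -, hi⟩ := F.five.comm_pow (F.ρ_comm c.2)
  have he : ρ (c : G) = ρ b ^ i := by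
    refine P.ext_split (fun y => ?_) fun w hw => ?_
    · rw [F.res_spec, h, F.five.pow_fix]
      show P.ι (act4 1 y) = _
      rw [act4_one]
    · obtain ⟨y, rfl⟩ := F.five.cover w hw
      exact hi y
  have hpC : (b ^ i)⁻¹ ∈ centralizer ({z} : Set G) := inv_mem (pow_mem F.bC i)
  have hQ : (c : G) * (b ^ i)⁻¹ ∈ Q := by
    refine (F.setup.ρ_ker _ (mul_mem c.2.1 hpC)).1 ?_
    rw [F.setup.ρ_mul _ c.2.1 _ hpC, F.setup.ρ_inv (pow_mem F.bC i), F.setup.ρ_pow F.bC, he, mul_inv_cancel]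
  exact ⟨_, ⟨hQ, (centralizer ({b} : Set G)).mul_mem c.2.2 ((centralizer ({b} : Set G)).inv_mem
    ((centralizer ({b} : Set G)).pow_mem (mem_centralizer_singleton_iff.2 rfl) i))⟩, i,
    (inv_mul_cancel_right _ _).symm⟩

theorem res_of_fix {c : F.H} (h : ∀ y, act (ρ (c : G)) (P.ι y) = P.ι y) : F.res c = 1 :=
  Subtype.ext (iso4_ext fun y => P.ι_injective (by
    rw [← F.res_spec, h]
    show _ = P.ι (act4 1 y)
    rw [act4_one]))

theorem res_apply_one {c : F.H} {r : G} {i : ℕ} (hr : r ∈ Q) (e : (c : G) = r * b ^ i) : F.res c = 1 := by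
  refine F.res_of_fix fun y => ?_
  rw [e, F.setup.ρ_mul r (F.setup.le hr) _ (pow_mem F.bC i), F.setup.ρ_of_mem hr, one_mul, F.setup.ρ_pow F.bC,
    F.five.pow_fix]

theorem res_surjective [Finite G] : Function.Surjective F.res := by
  rintro ⟨k, hk⟩
  obtain ⟨g, hg, e⟩ := F.setup.ρ_surj (P.T k) hk
  have hcomm : ρ b * P.T k = P.T k * ρ b := by
    refine P.ext_split (fun y => ?_) fun w hw => ?_
    · rw [act_mul, act_mul, P.act_T_ι, (F.five.fix _).2 ⟨_, rfl⟩, (F.five.fix _).2 ⟨y, rfl⟩, P.act_T_ι]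
    · rw [act_mul, act_mul, P.act_T_perp k hw, P.act_T_perp k (perp_act F.five.fix hw)]
  have hA : ∀ a ∈ zpowers b, a ∈ centralizer ({z} : Set G) := fun a ha => (zpowers_le.2 F.bC) ha
  have hnorm : ∀ c ∈ centralizer ({z} : Set G), c ∈ normalizer (Q : Set G) := fun c hc =>
    mem_normalizer_iff.2 fun x => ⟨fun hx => F.setup.norm hc hx, fun hx => by
      have := F.setup.norm (inv_mem hc) hx
      simpa [mul_assoc] using this⟩
  obtain ⟨n, hn, hkn⟩ := CfsgLib.Coprime.exists_fixed_in_coset (A := zpowers b) (N := Q)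
    (fun a ha => hnorm a (hA a ha))
    (by rw [Nat.card_zpowers, F.b5, F.setup.card]; norm_num)
    (Or.inl (CfsgLib.Coprime.isSolvable_of_isMulCommutative inferInstance)) (k := g) (hnorm g hg) (by
      intro a ha
      have haC := hA a ha
      refine (F.setup.ρ_ker _ (mul_mem (mul_mem (mul_mem haC hg) (inv_mem haC)) (inv_mem hg))).1 ?_
      rw [F.setup.ρ_mul _ (mul_mem (mul_mem haC hg) (inv_mem haC)) _ (inv_mem hg),
        F.setup.ρ_mul _ (mul_mem haC hg) _ (inv_mem haC), F.setup.ρ_mul a haC g hg, F.setup.ρ_inv haC,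
        F.setup.ρ_inv hg, e]
      obtain ⟨m, rfl⟩ := (mem_powers_iff_mem_zpowers).2 ha
      show ρ (b ^ m) * P.T k * (ρ (b ^ m))⁻¹ * (P.T k)⁻¹ = 1
      rw [F.setup.ρ_pow F.bC, ((show Commute (ρ b) (P.T k) from hcomm).pow_left m).eq]
      group)
  have hgn : g * n ∈ F.H := ⟨mul_mem hg (F.setup.le hn), mem_centralizer_singleton_iff.2
    (mem_centralizer_iff.1 hkn b (mem_zpowers b)).symm⟩
  refine ⟨⟨g * n, hgn⟩, Subtype.ext (iso4_ext fun y => P.ι_injective ?_)⟩
  rw [← F.res_spec, ← P.act_T_ι]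
  show act (ρ (g * n)) _ = _
  rw [F.setup.ρ_mul g hg n (F.setup.le hn), F.setup.ρ_of_mem hn, mul_one, e]

/-- An element centralizing the fixed part. -/
theorem cent_fix {c : G} (hc : c ∈ F.H) (h : ∀ a ∈ fixQ Q b, c * a = a * c) :
    ∃ i : ℕ, c = b ^ i ∨ c = z * b ^ i := by
  have h1 : F.res ⟨c, hc⟩ = 1 := F.res_of_fix fun y => by
    obtain ⟨a, ha, e⟩ := F.fix_surj y
    show act (ρ c) _ = _
    rw [← e, ← F.setup.ρ_act c hc.1 a ha.1, conj_eq_iff_comm.2 (h a ha)]
  obtain ⟨r, hr, i, e⟩ := F.res_eq_one h1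
  replace e : c = r * b ^ i := e
  refine ⟨i, (F.fix_center hr fun a ha => ?_).imp (fun hr1 => by rw [e, hr1, one_mul]) fun hrz => by rw [e, hrz]⟩
  have hb : b ^ i * a = a * b ^ i :=
    ((show Commute a b from mem_centralizer_singleton_iff.1 ha.2).pow_right i).eq.symm
  have h2 := h a ha
  rw [e] at h2
  refine mul_right_cancel (b := b ^ i) ?_
  calc r * a * b ^ i = r * (b ^ i * a) := by rw [hb]; group
    _ = r * b ^ i * a := (mul_assoc _ _ _).symm
    _ = _ := by rw [h2]; group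

end Frame

end

end CfsgLib.Spor.CoOneType
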