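import Cfsg.Agent.Lib.Spor.CoOneType.Sub

/-!
# The centralizer of the fixed part and its commutation with the centralizer of the involution in the layer
-/

set_option autoImplicit false

namespace CfsgLib.Spor.CoOneType

open Subgroup
open scoped commutatorElement

noncomputable section

/-- A homomorphism from a perfect group into a `p`-group is trivial. -/
theorem hom_perfect_pgroup {H K : Type*} [Group H] [Group K] [Finite K] {p : ℕ} [Fact p.Prime] (hK : IsPGroup p K)
    (hH : commutator H = ⊤) (f : H →* K) : ∀ x, f x = 1 := by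
  haveI : Group.IsNilpotent K := hK.isNilpotent
  have hall : ∀ m, f.range ≤ derivedSeries K m := by
    intro m
    induction m with
    | zero => rw [derivedSeries_zero]; exact le_top
    | succ m ih =>
      rw [derivedSeries_succ]
      refine le_trans ?_ (Subgroup.commutator_mono ih ih)
      rw [MonoidHom.range_eq_map, ← Subgroup.map_commutator, ← _root_.commutator_def, hH]
  intro x
  obtain ⟨m, hm⟩ := Group.IsSolvable.solvable (G := K)
  have h := hall m ⟨x, rfl⟩
  rw [hm] at h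
  exact mem_bot.1 h

variable {G : Type*} [Group G]

/-- The centralizer of the fixed part in the centralizer of the involution. -/
def X0 (z : G) (Q : Subgroup G) (b : G) : Subgroup G :=
  centralizer ({z} : Set G) ⊓ centralizer ((fixQ Q b : Subgroup G) : Set G)

theorem sw_sw : ∀ i : Ix4, sw (sw i) = i := by decide

namespace Frame

variable {z : G} {Q : Subgroup G} {v : G → Vec} {ρ : G → Iso8} {b : G} {P P' : Part}
  (F : Frame z Q v ρ b P P')
include F

theorem X0_fix {c : G} (hc : c ∈ X0 z Q b) (y : W4) : act (ρ c) (P.ι y) = P.ι y := by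
  obtain ⟨a, ha, e⟩ := F.fix_surj y
  rw [← e, ← F.setup.ρ_act c hc.1 a ha.1, conj_eq_iff_comm.2 (mem_centralizer_iff.1 hc.2 a ha).symm]

theorem exists_res' (c : ↥(X0 z Q b)) : ∃ k : ↥P'.alt, ρ (c : G) = P'.T k := by
  have hst : P'.Stab (ρ (c : G)) := fun y => F.five.cover _ fun y' => by
    rw [← F.X0_fix c.2 y', pol_act]
    exact F.five.perp y y'
  obtain ⟨k, hk⟩ := P'.exists_res hst
  have he : ρ (c : G) = P'.T k := P'.eq_T hk fun w hw => by
    obtain ⟨y, rfl⟩ := F.five.cover' hw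
    exact F.X0_fix c.2 y
  exact ⟨⟨k, show P'.T k ∈ Om from he ▸ F.setup.ρ_mem _ c.2.1⟩, he⟩

/-- The action on the moved space, as a function. -/
def resFun' (c : ↥(X0 z Q b)) : ↥P'.alt := Classical.choose (F.exists_res' c)

theorem resFun'_spec (c : ↥(X0 z Q b)) : ρ (c : G) = P'.T (F.resFun' c) := Classical.choose_spec (F.exists_res' c)

/-- The action on the moved space. -/
def res' : ↥(X0 z Q b) →* ↥P'.alt :=
  MonoidHom.mk' F.resFun' fun c d => Subtype.ext (P'.T_injective (by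
    rw [← F.resFun'_spec, Subgroup.coe_mul, Subgroup.coe_mul, map_mul, ← F.resFun'_spec, ← F.resFun'_spec,
      F.setup.ρ_mul _ c.2.1 _ d.2.1]))

theorem res'_spec (c : ↥(X0 z Q b)) : ρ (c : G) = P'.T (F.res' c) := F.resFun'_spec c

theorem res'_ker (c : ↥(X0 z Q b)) : F.res' c = 1 ↔ (c : G) ∈ F.R1 := by
  constructor
  · intro h
    have hQ : (c : G) ∈ Q := (F.setup.ρ_ker _ c.2.1).1 (by rw [F.res'_spec, h]; exact map_one P'.T)
    refine ⟨hQ, fun y => ?_⟩
    obtain ⟨a, ha, e⟩ := F.fix_surj y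
    rw [← e]
    exact (F.setup.v_comm _ hQ a ha.1).2 (mem_centralizer_iff.1 c.2.2 a ha).symm
  · intro h
    refine Subtype.ext (P'.T_injective ?_)
    rw [← F.res'_spec, F.setup.ρ_of_mem h.1]
    exact (map_one P'.T).symm

theorem R1_le_X0 : F.R1 ≤ X0 z Q b := fun q hq => ⟨F.setup.le hq.1, mem_centralizer_iff.2 fun a ha => by
  obtain ⟨y, hy⟩ := F.fix_v ha
  exact ((F.setup.v_comm q hq.1 a ha.1).1 (by rw [hy]; exact hq.2 y)).symm⟩

theorem fix_span (K : Subgroup G) (hz : z ∈ K) (hK : ∀ i : Ix4, ∃ a ∈ fixQ Q b, a ∈ K ∧ v a = P.ι (Pi.single i 1)) :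
    fixQ Q b ≤ K := by
  classical
  have hall : ∀ s : Finset Ix4, ∃ a ∈ fixQ Q b, a ∈ K ∧ v a = P.ι (∑ i ∈ s, Pi.single i 1) := by
    intro s
    induction s using Finset.induction_on with
    | empty => exact ⟨1, one_mem _, one_mem _, by rw [F.setup.v_one, Finset.sum_empty, map_zero]⟩
    | @insert i s hi ih =>
      obtain ⟨a, ha, haK, hva⟩ := ih
      obtain ⟨c, hc, hcK, hvc⟩ := hK i
      exact ⟨c * a, mul_mem hc ha, mul_mem hcK haK,
        by rw [F.setup.v_mul c hc.1 a ha.1, hva, hvc, Finset.sum_insert hi, map_add]⟩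
  intro x hx
  obtain ⟨y, hy⟩ := F.fix_v hx
  obtain ⟨a, ha, haK, hva⟩ := hall (Finset.univ.filter fun i => y i = 1)
  have e : y = ∑ i ∈ Finset.univ.filter fun i => y i = 1, Pi.single i 1 := by
    funext j
    rw [Finset.sum_apply, Finset.sum_filter]
    rcases two_cases (y j) with h | h
    · rw [h, Finset.sum_eq_zero]
      intro i _
      split_ifs with hi
      · rw [Pi.single_apply, if_neg]; rintro rfl; rw [h] at hi; exact zero_ne_one hi
      · rfl
    · rw [h, Finset.sum_eq_single j]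
      · rw [if_pos h, Pi.single_eq_same]
      · intro i _ hij
        split_ifs
        · rw [Pi.single_eq_of_ne hij.symm]
        · rfl
      · exact fun hj => absurd (Finset.mem_univ j) hj
  rw [← e] at hva
  rcases (F.setup.v_eq hx.1 ha.1).1 (hy.trans hva.symm) with rfl | rfl
  exacts [haK, mul_mem haK hz]

theorem res'_surjective : Function.Surjective F.res' := by
  classical
  rintro ⟨k, hk⟩
  obtain ⟨c, hc, e⟩ := F.setup.ρ_surj (P'.T k) hk
  choose a ha hva using fun i : Ix4 => F.fix_surj (Pi.single i 1)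
  have hor : ∀ i, c * a i * c⁻¹ = a i ∨ c * a i * c⁻¹ = a i * z := fun i => by
    refine (F.setup.v_eq (F.setup.norm hc (ha i).1) (ha i).1).1 ?_
    rw [F.setup.ρ_act c hc _ (ha i).1, hva, e, P'.act_T_perp k (F.five.perp' _)]
  let y₀ : W4 := fun j => if c * a (sw j) * c⁻¹ = a (sw j) then 0 else 1
  obtain ⟨r, hr, hvr⟩ := F.fix_surj y₀
  have hrc : ∀ i, r * c * a i * (r * c)⁻¹ = a i := by
    intro i
    have hy : QuadraticMap.polar q4 y₀ (Pi.single i 1) = y₀ (sw i) := by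
      have h := pol4_single y₀ (sw i)
      rwa [sw_sw i] at h
    have hsw : sw (sw i) = i := sw_sw i
    have hiff : r * a i = a i * r ↔ c * a i * c⁻¹ = a i := by
      rw [← F.setup.v_comm r hr.1 _ (ha i).1, hvr, hva, P.pol_ι, hy]
      show (if c * a (sw (sw i)) * c⁻¹ = a (sw (sw i)) then (0 : ZMod 2) else 1) = 0 ↔ _
      rw [hsw]
      split_ifs with h
      · exact iff_of_true rfl h
      · exact iff_of_false one_ne_zero h
    have hrz : r * z * r⁻¹ = z := conj_eq_iff_comm.2 (F.setup.cz hr.1)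
    rcases hor i with h | h
    · calc r * c * a i * (r * c)⁻¹ = r * (c * a i * c⁻¹) * r⁻¹ := by group
        _ = r * a i * r⁻¹ := by rw [h]
        _ = a i := conj_eq_iff_comm.2 (hiff.2 h)
    · have hne : ¬ c * a i * c⁻¹ = a i := fun h' => F.setup.z_ne (mul_eq_left.1 (h.symm.trans h'))
      have hr' := (F.setup.conj_or (ha i).1 hr.1).resolve_left fun h' => hne (hiff.1 (conj_eq_iff_comm.1 h'))
      calc r * c * a i * (r * c)⁻¹ = r * (c * a i * c⁻¹) * r⁻¹ := by group
        _ = (r * a i * r⁻¹) * (r * z * r⁻¹) := by rw [h]; group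
        _ = a i := by rw [hr', hrz, mul_assoc, F.setup.zz, mul_one]
  have hrcC : r * c ∈ centralizer ({z} : Set G) := mul_mem (F.setup.le hr.1) hc
  have hmem : r * c ∈ X0 z Q b := by
    refine ⟨hrcC, mem_centralizer_iff.2 fun x hx => ?_⟩
    have hle := F.fix_span (centralizer ({r * c} : Set G))
      (mem_centralizer_singleton_iff.2 (mem_cz.1 hrcC).symm)
      fun i => ⟨a i, ha i, mem_centralizer_singleton_iff.2 (conj_eq_iff_comm.1 (hrc i)).symm, hva i⟩
    exact mem_centralizer_singleton_iff.1 (hle hx)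
  refine ⟨⟨r * c, hmem⟩, Subtype.ext (P'.T_injective ?_)⟩
  rw [← F.res'_spec]
  show ρ (r * c) = P'.T k
  rw [F.setup.ρ_mul r (F.setup.le hr.1) c hc, F.setup.ρ_of_mem hr.1, one_mul, e]

theorem card_R1 : Nat.card F.R1 = 32 := by
  let f : ↥F.R1 →* Multiplicative W4 := MonoidHom.mk' (fun q => Multiplicative.ofAdd (P'.κ (v q))) fun p q => by
    show _ = Multiplicative.ofAdd _
    rw [Subgroup.coe_mul, F.setup.v_mul _ p.2.1 _ q.2.1, map_add]
    rfl
  have hsurj : Function.Surjective f := fun y => by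
    obtain ⟨q, hq, e⟩ := F.R1_surj (Multiplicative.toAdd y)
    refine ⟨⟨q, hq⟩, ?_⟩
    show Multiplicative.ofAdd (P'.κ (v q)) = y
    rw [e, Part.κ_ι]
    rfl
  have hker : Nat.card f.ker = 2 := by
    have hz : (⟨z, F.z_R1⟩ : ↥F.R1) ∈ f.ker := by
      show Multiplicative.ofAdd (P'.κ (v z)) = 1
      rw [F.setup.v_z, map_zero]; rfl
    refine (Nat.card_eq_two_iff' (1 : f.ker)).2 ⟨⟨_, hz⟩,
      fun e => F.setup.z_ne (congrArg (fun q : f.ker => ((q : ↥F.R1) : G)) e), fun q hq => ?_⟩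
    obtain ⟨y, hy⟩ := F.R1_v q.1.2
    have h0 : Multiplicative.ofAdd (P'.κ (v (q.1 : G))) = 1 := q.2
    rw [hy, Part.κ_ι] at h0
    have hy0 : y = 0 := Multiplicative.ofAdd.injective h0
    rw [hy0, map_zero] at hy
    rcases (F.setup.v_ker _ q.1.2.1).1 hy with h | h
    · exact absurd (Subtype.ext (Subtype.ext h)) hq
    · exact Subtype.ext (Subtype.ext h)
  rw [← f.ker.card_mul_index, hker, Subgroup.index_ker, MonoidHom.range_eq_top.2 hsurj, Subgroup.card_top,
    Nat.card_congr Multiplicative.toAdd, Nat.card_eq_fintype_card, Fintype.card_fun]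
  rfl

theorem card_X0 : Nat.card (X0 z Q b) = 1920 := by
  have hker : F.res'.ker = F.R1.subgroupOf (X0 z Q b) := by
    ext c
    exact F.res'_ker c
  rw [← F.res'.ker.card_mul_index, Subgroup.index_ker, MonoidHom.range_eq_top.2 F.res'_surjective,
    Subgroup.card_top, P'.card_alt, hker, Nat.card_congr (subgroupOfEquivOfLe F.R1_le_X0).toEquiv, F.card_R1]

/-- The elements acting trivially on the moved space. -/
theorem commutator_triv {g h : G} (hg : g ∈ F.H) (hh : h ∈ F.H) (y : W4) :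
    act (ρ ⁅g, h⁆) (P'.ι y) = P'.ι y := by
  obtain ⟨i, -, hi⟩ := F.five.comm_pow (F.ρ_comm hg)
  obtain ⟨j, -, hj⟩ := F.five.comm_pow (F.ρ_comm hh)
  have hgi : ∀ w, P.Perp w → act (ρ g) w = act (ρ b ^ i) w := fun w hw => by
    obtain ⟨y, rfl⟩ := F.five.cover w hw; exact hi y
  have hhj : ∀ w, P.Perp w → act (ρ h) w = act (ρ b ^ j) w := fun w hw => by
    obtain ⟨y, rfl⟩ := F.five.cover w hw; exact hj y
  have hpi := fun (w : Vec) (hw : P.Perp w) (k : ℕ) => perp_pow F.five.fix hw k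
  have hgh : ∀ w, P.Perp w → act (ρ (g * h)) w = act (ρ (h * g)) w := fun w hw => by
    rw [F.setup.ρ_mul g hg.1 h hh.1, F.setup.ρ_mul h hh.1 g hg.1, act_mul, act_mul, hhj w hw, hgi w hw,
      hgi _ (hpi w hw j), hhj _ (hpi w hw i), ← act_mul, ← act_mul, ← pow_add, ← pow_add, add_comm]
  have hc : g * h * g⁻¹ * h⁻¹ = g * h * (h * g)⁻¹ := by group
  rw [commutatorElement_def, hc]
  have hm : h * g ∈ centralizer ({z} : Set G) := mul_mem hh.1 hg.1
  rw [F.setup.ρ_mul _ (mul_mem hg.1 hh.1) _ (inv_mem hm), F.setup.ρ_inv hm, act_mul]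
  have hperp : P.Perp (act (ρ (h * g))⁻¹ (P'.ι y)) := by
    have hst : P.Stab (ρ (h * g))⁻¹ := by
      refine F.five.stab ?_
      have hcm : Commute (ρ (h * g)) (ρ b) := by
        rw [F.setup.ρ_mul h hh.1 g hg.1]
        exact (show Commute (ρ h) (ρ b) from F.ρ_comm hh).mul_left (F.ρ_comm hg)
      exact hcm.inv_left.eq
    exact P.stab_perp hst (F.five.perp y)
  rw [hgh _ hperp, ← act_mul, mul_inv_cancel, act_one]

theorem H_norm_fix {h a : G} (hh : h ∈ F.H) (ha : a ∈ fixQ Q b) : h * a * h⁻¹ ∈ fixQ Q b :=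
  ⟨F.setup.norm hh.1 ha.1,
    (centralizer ({b} : Set G)).mul_mem ((centralizer ({b} : Set G)).mul_mem hh.2 ha.2)
      ((centralizer ({b} : Set G)).inv_mem hh.2)⟩

theorem H_norm_X0 {h c : G} (hh : h ∈ F.H) (hc : c ∈ X0 z Q b) : h * c * h⁻¹ ∈ X0 z Q b := by
  refine ⟨(centralizer ({z} : Set G)).mul_mem ((centralizer ({z} : Set G)).mul_mem hh.1 hc.1)
    ((centralizer ({z} : Set G)).inv_mem hh.1), mem_centralizer_iff.2 fun a ha => ?_⟩
  have h' := F.H_norm_fix (F.H.inv_mem hh) ha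
  have h2 := mem_centralizer_iff.1 hc.2 _ h'
  calc a * (h * c * h⁻¹) = h * ((h⁻¹ * a * h⁻¹⁻¹) * c) * h⁻¹ := by group
    _ = h * (c * (h⁻¹ * a * h⁻¹⁻¹)) * h⁻¹ := by rw [h2]
    _ = _ := by group

end Frame

namespace Swap

variable [Finite G] {z : G} {Q : Subgroup G} {v : G → Vec} {ρ : G → Iso8} {b : G} {P P' : Part} {n : G}
  (W : Swap z Q v ρ b P P' n) (D : LayerData b)
include W D

theorem HL_le_H : HL z b ≤ W.frame.H := fun _ hx => ⟨hx.2, lay_le b hx.1⟩

theorem HL_triv {h : G} (hh : h ∈ HL z b) (y : W4) : act (ρ h) (P'.ι y) = P'.ι y := by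
  let T : Subgroup G :=
    { carrier := {c | c ∈ centralizer ({z} : Set G) ∧ ∀ y, act (ρ c) (P'.ι y) = P'.ι y}
      mul_mem' := fun {a c} ha hc => ⟨(centralizer ({z} : Set G)).mul_mem ha.1 hc.1, fun y => by
        rw [W.frame.setup.ρ_mul a ha.1 c hc.1, act_mul, hc.2, ha.2]⟩
      one_mem' := ⟨(centralizer ({z} : Set G)).one_mem, fun y => by rw [W.frame.setup.ρ_one, act_one]⟩
      inv_mem' := fun {a} ha => ⟨(centralizer ({z} : Set G)).inv_mem ha.1, fun y => act_injective (ρ a) (by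
        rw [W.frame.setup.ρ_inv ha.1, ← act_mul, mul_inv_cancel, act_one, ha.2])⟩ }
  have hle : ⁅HL z b, HL z b⁆ ≤ T := commutator_le.2 fun g hg k hk =>
    ⟨mul_mem (mul_mem (mul_mem hg.2 hk.2) (inv_mem hg.2)) (inv_mem hk.2),
      W.frame.commutator_triv (W.HL_le_H D hg) (W.HL_le_H D hk)⟩
  rw [W.HL_perfect D] at hle
  exact (hle hh).2 y

/-- The centralizer of the fixed part centralizes the centralizer of the involution in the layer. -/
theorem X0_comm {c h : G} (hc : c ∈ X0 z Q b) (hh : h ∈ HL z b) : c * h = h * c := by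
  haveI : Fact (Nat.Prime 2) := ⟨Nat.prime_two⟩
  have hR1 : ∀ h ∈ HL z b, ∀ q ∈ W.frame.R1, h * q = q * h := fun h hh q hq =>
    W.frame.cent_R1 (W.HL_le_H D hh) (W.HL_triv D hh) hq
  have hmem : ∀ h ∈ HL z b, c * h * c⁻¹ * h⁻¹ ∈ W.frame.R1 := by
    intro h hh
    have hX : c * h * c⁻¹ * h⁻¹ ∈ X0 z Q b := by
      rw [show c * h * c⁻¹ * h⁻¹ = c * (h * c⁻¹ * h⁻¹) by group]
      exact mul_mem hc (W.frame.H_norm_X0 (W.HL_le_H D hh) (inv_mem hc))
    have hcz := hc.1
    have hhz : h ∈ centralizer ({z} : Set G) := hh.2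
    have hcomm : ρ c * ρ h = ρ h * ρ c := by
      refine P.ext_split (fun y => ?_) fun w hw => ?_
      · obtain ⟨k, hk⟩ := P.exists_res (W.frame.five.stab (W.frame.ρ_comm (W.HL_le_H D hh)))
        rw [act_mul, act_mul, W.frame.X0_fix hc, hk, W.frame.X0_fix hc]
      · obtain ⟨y, rfl⟩ := W.frame.five.cover w hw
        obtain ⟨k, hk⟩ := W.frame.exists_res' ⟨c, hc⟩
        replace hk : ρ c = P'.T k := hk
        rw [act_mul, act_mul, W.HL_triv D hh, hk, P'.act_T_ι, W.HL_triv D hh]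
    have hQ : c * h * c⁻¹ * h⁻¹ ∈ Q := by
      refine (W.frame.setup.ρ_ker _ hX.1).1 ?_
      rw [W.frame.setup.ρ_mul _ (mul_mem (mul_mem hcz hhz) (inv_mem hcz)) _ (inv_mem hhz),
        W.frame.setup.ρ_mul _ (mul_mem hcz hhz) _ (inv_mem hcz), W.frame.setup.ρ_mul c hcz h hhz,
        W.frame.setup.ρ_inv hcz, W.frame.setup.ρ_inv hhz, hcomm, mul_inv_cancel_right, mul_inv_cancel]
    refine ⟨hQ, fun y => ?_⟩
    obtain ⟨a, ha, e⟩ := W.frame.fix_surj y
    rw [← e]
    exact (W.frame.setup.v_comm _ hQ a ha.1).2 (mem_centralizer_iff.1 hX.2 a ha).symm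
  let f : ↥(HL z b) →* ↥W.frame.R1 := MonoidHom.mk' (fun h => ⟨_, hmem h.1 h.2⟩) fun g k => Subtype.ext (by
    show c * ((g : G) * k) * c⁻¹ * ((g : G) * k)⁻¹ = (c * g * c⁻¹ * (g : G)⁻¹) * (c * k * c⁻¹ * (k : G)⁻¹)
    calc c * ((g : G) * k) * c⁻¹ * ((g : G) * k)⁻¹
        = (c * g * c⁻¹ * (g : G)⁻¹) * ((g : G) * (c * k * c⁻¹ * (k : G)⁻¹)) * (g : G)⁻¹ := by group
      _ = _ := by rw [hR1 g g.2 _ (hmem k k.2)]; group)
  have hperf : commutator ↥(HL z b) = ⊤ := by
    refine map_injective (subtype_injective (HL z b)) ?_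
    rw [_root_.commutator_def, Subgroup.map_commutator, ← MonoidHom.range_eq_map, range_subtype, W.HL_perfect D]
  have hP : IsPGroup 2 ↥W.frame.R1 := IsPGroup.of_card (n := 5) (by rw [W.frame.card_R1]; rfl)
  have h1 : c * h * c⁻¹ * h⁻¹ = 1 := congrArg Subtype.val (hom_perfect_pgroup hP hperf f ⟨h, hh⟩)
  exact mul_inv_eq_iff_eq_mul.1 (mul_inv_eq_one.1 h1)

end Swap

end

end CfsgLib.Spor.CoOneType
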