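import Cfsg.Agent.Lib.Spor.CoOneType.Comm

/-!
# The two centralizers of fixed parts meet in a group of order at least sixty
-/

set_option autoImplicit false

namespace CfsgLib.Spor.CoOneType

open Subgroup

noncomputable section

theorem exists_partner4 : ∀ u : W4, u ≠ 0 → ∃ y, QuadraticMap.polar q4 u y = 1 := fun _ hu => pol4_exists hu

theorem q4_add (x y : W4) : q4 (x + y) = q4 x + q4 y + QuadraticMap.polar q4 x y := by
  simp only [QuadraticMap.polar]; ring

theorem w4_eq_of_add {x y : W4} (h : x + y = 0) : x = y := by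
  calc x = x + (y + y) := by rw [w4_add_self, add_zero]
    _ = (x + y) + y := (add_assoc _ _ _).symm
    _ = y := by rw [h, zero_add]

namespace FiveElt

variable {β : Iso8} {P P' : Part} (h : FiveElt β P P')
include h

theorem decomp (x : Vec) : x = P.ι (P.κ x) + P'.ι (P'.κ x) := by
  obtain ⟨y, hy⟩ := h.cover _ (P.perp_sub x)
  have h1 : P'.κ (x + P.ι (P.κ x)) = y := by rw [hy, Part.κ_ι]
  rw [map_add, (P'.perp_iff _).1 (h.perp' _), add_zero] at h1
  rw [h1, ← hy]
  exact P.split x

theorem qf_decomp (x : Vec) : qf x = q4 (P.κ x) + q4 (P'.κ x) := by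
  conv_lhs => rw [h.decomp x]
  rw [P.qf_of_perp (h.perp _), P'.iso]

end FiveElt

/-- The product bound. -/
theorem card_mul_le_card_mul {G : Type*} [Group G] [Finite G] {A B Y : Subgroup G} (hA : A ≤ Y) (hB : B ≤ Y) :
    Nat.card A * Nat.card B ≤ Nat.card (A ⊓ B : Subgroup G) * Nat.card Y := by
  have h1 : Nat.card (A ⊓ B : Subgroup G) * B.relIndex A = Nat.card A := by
    rw [← inf_relIndex_left (H := A) (K := B), Subgroup.relIndex,
      ← Nat.card_congr (subgroupOfEquivOfLe (inf_le_left : A ⊓ B ≤ A)).toEquiv, card_mul_index]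
  have h2 : Nat.card B * B.relIndex Y = Nat.card Y := by
    rw [Subgroup.relIndex, ← Nat.card_congr (subgroupOfEquivOfLe hB).toEquiv, card_mul_index]
  have h3 : B.relIndex A ≤ B.relIndex Y :=
    relIndex_le_of_le_right hA (fun e => by rw [e, mul_zero] at h2; exact Nat.card_pos.ne h2)
  rw [← h1, ← h2]
  calc Nat.card (A ⊓ B : Subgroup G) * B.relIndex A * Nat.card B
      ≤ Nat.card (A ⊓ B : Subgroup G) * B.relIndex Y * Nat.card B := by gcongr
    _ = _ := by ring

variable {G : Type*} [Group G] [Finite G] {z : G} {Q : Subgroup G} {v : G → Vec} {ρ : G → Iso8} {b : G}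
  {P P' : Part} {n : G}

namespace Swap

variable (W : Swap z Q v ρ b P P' n) (D : LayerData b)
include W D

/-- The centralizer of the part of the fixed part centralizing the partner. -/
def Yc (z : G) (Q : Subgroup G) (b w : G) : Subgroup G :=
  centralizer ({z} : Set G) ⊓ centralizer ((fixQ Q b ⊓ centralizer ({w} : Set G) : Subgroup G) : Set G)

theorem X0_le_Yc : X0 z Q b ≤ Yc z Q b (n * z * n⁻¹) := fun _ hc =>
  ⟨hc.1, centralizer_le inf_le_left hc.2⟩

theorem X0'_le_Yc : X0 (n * z * n⁻¹) (Q.map (MulAut.conj n).toMonoidHom) b ≤ Yc z Q b (n * z * n⁻¹) := by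
  intro c hc
  have hall : ∀ a ∈ fixQ Q b, a * (n * z * n⁻¹) = n * z * n⁻¹ * a → c * a = a * c := fun a ha haw =>
    W.symm.X0_comm D hc ⟨(W.fix_lay D ha).1, mem_cz.2 haw⟩
  exact ⟨mem_cz.2 (hall z W.frame.z_fix (W.frame.setup.cz W.mem.1).symm),
    mem_centralizer_iff.2 fun a ha => (hall a ha.1 (mem_centralizer_singleton_iff.1 ha.2)).symm⟩

theorem card_Yc : Nat.card (Yc z Q b (n * z * n⁻¹)) ≤ 61440 := by
  classical
  obtain ⟨u, hu, hq, hu0⟩ := W.exists_u
  obtain ⟨w0, hw0⟩ := exists_partner4 u hu0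
  have hS := W.frame.setup
  -- the image
  have himg : ∀ c ∈ Yc z Q b (n * z * n⁻¹), ∀ t, QuadraticMap.polar q4 u t = 0 →
      act (ρ c) (P.ι t) = P.ι t := by
    intro c hc t ht
    obtain ⟨a, ha, e⟩ := W.frame.fix_surj t
    have haw : a * (n * z * n⁻¹) = n * z * n⁻¹ * a :=
      ((hS.v_comm _ W.mem.1 a ha.1).1 (by rw [hu, e, P.pol_ι, ht])).symm
    rw [← e, ← hS.ρ_act c hc.1 a ha.1, conj_eq_iff_comm.2
      (mem_centralizer_iff.1 hc.2 a ⟨ha, mem_centralizer_singleton_iff.2 haw⟩).symm]
  let Gy : Subgroup Iso8 :=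
    { carrier := {g | g ∈ Om ∧ ∀ t, QuadraticMap.polar q4 u t = 0 → act g (P.ι t) = P.ι t}
      mul_mem' := fun {a c} ha hc => ⟨Om.mul_mem ha.1 hc.1, fun t ht => by rw [act_mul, hc.2 t ht, ha.2 t ht]⟩
      one_mem' := ⟨Om.one_mem, fun t _ => act_one _⟩
      inv_mem' := fun {a} ha => ⟨Om.inv_mem ha.1, fun t ht => act_injective a (by
        rw [← act_mul, mul_inv_cancel, act_one, ha.2 t ht])⟩ }
  have hκ : ∀ x : Vec, (∀ t, QuadraticMap.polar q4 u t = 0 → QuadraticMap.polar qf x (P.ι t) = 0) →
      P.κ x = 0 ∨ P.κ x = u := fun x hx =>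
    perp_perp u _ hq hu0 fun t ht => by rw [← P.pol_κ]; exact hx t ht
  have hGy : Nat.card Gy ≤ 960 := by
    let F : ↥Gy → W4 := fun g => P'.κ (act g.1 (P.ι w0))
    have hdet : ∀ g h : ↥Gy, F g = F h → act g.1 (P.ι w0) = act h.1 (P.ι w0) := by
      intro g h e
      have hκg : ∀ k : ↥Gy, P.κ (act k.1 (P.ι w0)) = w0 ∨ P.κ (act k.1 (P.ι w0)) = w0 + u := by
        intro k
        have := hκ (act k.1 (P.ι w0) + P.ι w0) fun t ht => by
          rw [pol_add_left]
          conv_lhs => arg 1; rw [← k.2.2 t ht]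
          rw [pol_act, CharTwo.add_self_eq_zero]
        rw [map_add, Part.κ_ι] at this
        rcases this with e | e
        · exact Or.inl (w4_eq_of_add e)
        · right
          calc P.κ (act k.1 (P.ι w0)) = (P.κ (act k.1 (P.ι w0)) + w0) + w0 := by
                rw [add_assoc, w4_add_self, add_zero]
            _ = w0 + u := by rw [e, add_comm]
      have hq4 : ∀ k : ↥Gy, q4 (P.κ (act k.1 (P.ι w0))) + q4 (F k) = q4 w0 := fun k => by
        rw [← W.frame.five.qf_decomp, qf_act, P.iso]
      have hsame : q4 (P.κ (act g.1 (P.ι w0))) = q4 (P.κ (act h.1 (P.ι w0))) := by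
        have := (hq4 g).trans (hq4 h).symm
        rw [e] at this
        exact add_right_cancel this
      have hne : q4 (w0 + u) ≠ q4 w0 := by
        rw [q4_add, hq, add_zero, QuadraticMap.polar_comm, hw0]
        exact fun e => one_ne_zero (add_eq_left.1 e)
      have hk : P.κ (act g.1 (P.ι w0)) = P.κ (act h.1 (P.ι w0)) := by
        rcases hκg g with a | a <;> rcases hκg h with c | c <;> rw [a, c] at hsame ⊢
        · exact absurd hsame.symm hne
        · exact absurd hsame hne
      rw [W.frame.five.decomp (act g.1 (P.ι w0)), W.frame.five.decomp (act h.1 (P.ι w0)), hk]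
      exact congrArg (fun y => P.ι _ + P'.ι y) e
    have hrest : ∀ g h : ↥Gy, F g = F h → ∃ k : ↥P'.alt, h.1⁻¹ * g.1 = P'.T k := by
      intro g h e
      set x := h.1⁻¹ * g.1
      have hx : x ∈ Gy := Gy.mul_mem (Gy.inv_mem h.2) g.2
      have hw : act x (P.ι w0) = P.ι w0 := by
        rw [show x = h.1⁻¹ * g.1 from rfl, act_mul, hdet g h e, ← act_mul, inv_mul_cancel, act_one]
      have hall : ∀ t, act x (P.ι t) = P.ι t := fun t => by
        rcases two_cases (QuadraticMap.polar q4 u t) with ht | ht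
        · exact hx.2 t ht
        · have ht' : QuadraticMap.polar q4 u (t + w0) = 0 := by
            rw [q4_nd.polar_bilinear.add_right, ht, hw0]; rfl
          have := hx.2 _ ht'
          rw [map_add, act_add, hw] at this
          exact add_right_cancel this
      have hst : P'.Stab x := fun y => W.frame.five.cover _ fun y' => by
        rw [← hall y', pol_act]
        exact W.frame.five.perp y y'
      obtain ⟨k, hk⟩ := P'.exists_res hst
      have he : x = P'.T k := P'.eq_T hk fun w hw => by
        obtain ⟨y, rfl⟩ := W.frame.five.cover' hw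
        exact hall y
      exact ⟨⟨k, show P'.T k ∈ Om from he ▸ hx.1⟩, he⟩
    let sec : W4 → ↥Gy := fun y => if h : ∃ g, F g = y then h.choose else 1
    have hsec : ∀ g, F g = F (sec (F g)) := fun g => by
      have h : ∃ g', F g' = F g := ⟨g, rfl⟩
      simp only [sec, dif_pos h]
      exact h.choose_spec.symm
    let J : ↥Gy → W4 × ↥P'.alt := fun g => (F g, (hrest g (sec (F g)) (hsec g)).choose)
    have hJ : Function.Injective J := fun g h e => by
      have h1 : F g = F h := congrArg Prod.fst e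
      have h2 : ((hrest g (sec (F g)) (hsec g)).choose) = (hrest h (sec (F h)) (hsec h)).choose :=
        congrArg Prod.snd e
      have a := (hrest g (sec (F g)) (hsec g)).choose_spec
      have c := (hrest h (sec (F h)) (hsec h)).choose_spec
      rw [h2, ← c] at a
      rw [show sec (F g) = sec (F h) by rw [h1]] at a
      exact Subtype.ext (mul_left_cancel a)
    refine le_trans (Nat.card_le_card_of_injective J hJ) (le_of_eq ?_)
    rw [Nat.card_prod, P'.card_alt, Nat.card_eq_fintype_card, Fintype.card_fun]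
    rfl
  -- the part inside the extraspecial group
  set Y := Yc z Q b (n * z * n⁻¹) with hYdef
  let f : ↥Y →* Iso8 := MonoidHom.mk' (fun c => ρ (c : G)) fun a c => hS.ρ_mul _ a.2.1 _ c.2.1
  have hrange : f.range ≤ Gy := by
    rintro _ ⟨c, rfl⟩
    exact ⟨hS.ρ_mem _ c.2.1, himg c c.2⟩
  have hker : Nat.card f.ker ≤ 64 := by
    have hQ : ∀ c : f.ker, ((c : ↥Y) : G) ∈ Q := fun c => (hS.ρ_ker _ c.1.2.1).1 c.2
    let g : ↥f.ker →* Multiplicative Vec := MonoidHom.mk' (fun c => Multiplicative.ofAdd (v ((c : ↥Y) : G)))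
      fun a c => congrArg Multiplicative.ofAdd (hS.v_mul _ (hQ a) _ (hQ c))
    have hk : Nat.card g.ker ≤ 2 := by
      let J : ↥g.ker → Bool := fun c => decide ((((c : ↥f.ker) : ↥Y) : G) = 1)
      have hJ : Function.Injective J := fun a c e => by
        have key : ∀ c : ↥g.ker, (((c : ↥f.ker) : ↥Y) : G) = 1 ∨ (((c : ↥f.ker) : ↥Y) : G) = z := fun c =>
          (hS.v_ker _ (hQ c.1)).1 (Multiplicative.ofAdd.injective c.2)
        refine Subtype.ext (Subtype.ext (Subtype.ext ?_))
        have e' : decide ((((a : ↥f.ker) : ↥Y) : G) = 1) = decide ((((c : ↥f.ker) : ↥Y) : G) = 1) := e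
        rw [decide_eq_decide] at e'
        rcases key a with ha | ha <;> rcases key c with hc | hc
        · rw [ha, hc]
        · exact absurd ((e'.1 ha).symm.trans hc).symm hS.z_ne
        · exact absurd ((e'.2 hc).symm.trans ha).symm hS.z_ne
        · rw [ha, hc]
      exact le_trans (Nat.card_le_card_of_injective J hJ) (le_of_eq (by simp))
    have hr : Nat.card g.range ≤ 32 := by
      have hin : ∀ x : ↥g.range, P.κ (Multiplicative.toAdd x.1) = 0 ∨ P.κ (Multiplicative.toAdd x.1) = u := by
        rintro ⟨_, c, rfl⟩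
        refine hκ _ fun t ht => ?_
        show QuadraticMap.polar qf (v _) _ = 0
        obtain ⟨a, ha, e⟩ := W.frame.fix_surj t
        have haw : a * (n * z * n⁻¹) = n * z * n⁻¹ * a :=
          ((hS.v_comm _ W.mem.1 a ha.1).1 (by rw [hu, e, P.pol_ι, ht])).symm
        rw [← e]
        exact (hS.v_comm _ (hQ c) a ha.1).2
          (mem_centralizer_iff.1 c.1.2.2 a ⟨ha, mem_centralizer_singleton_iff.2 haw⟩).symm
      let J : ↥g.range → W4 × Bool := fun x =>
        (P'.κ (Multiplicative.toAdd x.1), decide (P.κ (Multiplicative.toAdd x.1) = 0))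
      have hJ : Function.Injective J := fun x y e => by
        have e1 : P'.κ (Multiplicative.toAdd x.1) = P'.κ (Multiplicative.toAdd y.1) := congrArg Prod.fst e
        have e2 : P.κ (Multiplicative.toAdd x.1) = P.κ (Multiplicative.toAdd y.1) := by
          have e2' : decide (P.κ (Multiplicative.toAdd x.1) = 0) = decide (P.κ (Multiplicative.toAdd y.1) = 0) :=
            congrArg Prod.snd e
          rcases hin x with a | a <;> rcases hin y with c | c <;> rw [a, c] at e2' ⊢ <;>
            exact absurd e2' (by simp [hu0])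
        refine Subtype.ext (Multiplicative.toAdd.injective ?_)
        rw [W.frame.five.decomp (Multiplicative.toAdd x.1), W.frame.five.decomp (Multiplicative.toAdd y.1), e1, e2]
      refine le_trans (Nat.card_le_card_of_injective J hJ) (le_of_eq ?_)
      rw [Nat.card_prod, Nat.card_eq_fintype_card, Nat.card_eq_fintype_card, Fintype.card_fun]
      rfl
    calc Nat.card f.ker = Nat.card g.ker * Nat.card g.range := by
          rw [← g.ker.card_mul_index, Subgroup.index_ker]
      _ ≤ 2 * 32 := Nat.mul_le_mul hk hr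
      _ = 64 := rfl
  calc Nat.card Y = Nat.card f.ker * Nat.card f.range := by rw [← f.ker.card_mul_index, Subgroup.index_ker]
    _ ≤ 64 * 960 := Nat.mul_le_mul hker (le_trans (Subgroup.card_le_of_le hrange) hGy)
    _ = 61440 := rfl

theorem card_inter :
    60 ≤ Nat.card (X0 z Q b ⊓ X0 (n * z * n⁻¹) (Q.map (MulAut.conj n).toMonoidHom) b : Subgroup G) := by
  have h := card_mul_le_card_mul (W.X0_le_Yc D) (W.X0'_le_Yc D)
  rw [W.frame.card_X0, W.symm.frame.card_X0] at h
  have h' := le_trans h (Nat.mul_le_mul_left _ (W.card_Yc D))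
  omega

end Swap

end

end CfsgLib.Spor.CoOneType
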