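import Cfsg.Agent.Lib.Spor.CoOneType.Moved
import Cfsg.Agent.Lib.Spor.CoOneType.Unip

/-!
# An involution of the fixed centralizer outside the extraspecial group is not conjugate to the centre
-/

set_option autoImplicit false

namespace CfsgLib.Spor.CoOneType

open Subgroup

noncomputable section

variable {G : Type*} [Group G] [Finite G] {z : G} {Q : Subgroup G} {v : G → Vec} {ρ : G → Iso8} {b : G}
  {P P' : Part}

theorem Frame.invol_fix_moved (F : Frame z Q v ρ b P P') {t : G} (ht : t ∈ F.H) (ht2 : t * t = 1) (y : W4) :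
    act (ρ t) (P'.ι y) = P'.ι y := by
  obtain ⟨i, hi5, hi⟩ := F.five.comm_pow (F.ρ_comm ht)
  have hy : ∀ y, act (ρ b ^ (i + i)) (P'.ι y) = P'.ι y := fun y => by
    obtain ⟨y', hy'⟩ := F.five.cover _ (perp_pow F.five.fix (F.five.perp y) i)
    rw [pow_add, act_mul, hy', ← hi y', ← hy', ← hi y, ← act_mul, ← F.setup.ρ_mul t ht.1 t ht.1, ht2,
      F.setup.ρ_one, act_one]
  have h := F.five.pow_eq_one (y := tb 0) (tb_singular 0).2 (hy _)
  have hi0 : i = 0 := by omega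
  rw [hi y, hi0, pow_zero, act_one]

theorem Frame.not_conj (F : Frame z Q v ρ b P P') {t : G} (ht : t ∈ F.H) (ht2 : t * t = 1) (htQ : t ∉ Q) :
    ¬ IsConj z t := by
  haveI : Fact (Nat.Prime 2) := ⟨Nat.prime_two⟩
  intro hcon
  obtain ⟨k, hk⟩ := isConj_iff.1 hcon
  have hcz : ∀ x : G, x * t = t * x → k⁻¹ * x * k ∈ centralizer ({z} : Set G) := by
    intro x hx
    rw [mem_cz]
    calc k⁻¹ * x * k * z = k⁻¹ * (x * (k * z * k⁻¹)) * k := by group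
      _ = k⁻¹ * ((k * z * k⁻¹) * x) * k := by rw [hk, hx]
      _ = _ := by group
  have htR : ∀ q ∈ F.R1, q * t = t * q := fun q hq => (F.cent_R1 ht (F.invol_fix_moved ht ht2) hq).symm
  have hmul : ∀ x y : G, k⁻¹ * (x * y) * k = k⁻¹ * x * k * (k⁻¹ * y * k) := fun x y => by group
  let f : ↥F.R1 →* Iso8 := MonoidHom.mk' (fun q => ρ (k⁻¹ * (q : G) * k)) fun p q => by
    rw [Subgroup.coe_mul, hmul, F.setup.ρ_mul _ (hcz _ (htR p p.2)) _ (hcz _ (htR q q.2))]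
  have hf : ∀ {q : G} (hq : q ∈ F.R1), f ⟨q, hq⟩ = ρ (k⁻¹ * q * k) := fun _ => rfl
  have hzt : k⁻¹ * z * k ∈ centralizer ({z} : Set G) := hcz z (htR z F.z_R1)
  have hzQ : k⁻¹ * z * k ∉ Q := by
    intro h
    have hne : k⁻¹ * z * k⁻¹⁻¹ ≠ z := fun e => htQ (by
      rw [inv_inv] at e
      have h2 : k * z = z * k := by
        calc k * z = k * (k⁻¹ * z * k) := by rw [e]
          _ = _ := by group
      rw [← hk, h2, mul_inv_cancel_right]
      exact F.setup.core.mem)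
    obtain ⟨q, hq, e⟩ := LargeQ.centre_mem_conj Q z F.setup.core.ext F.setup.core.center_iff F.setup.core.ord
      F.setup.core.cent F.setup.core.norm (by rw [F.setup.card]; norm_num) k⁻¹ hne (by rwa [inv_inv])
    have e' : k⁻¹ * q * k⁻¹⁻¹ = z := e
    refine htQ ?_
    rw [← hk, ← e']
    simpa [mul_assoc] using hq
  have hbt : b * t = t * b := (mem_centralizer_singleton_iff.1 ht.2).symm
  have hbC := hcz b hbt
  have hbmap : ∀ {q : G} (hq : q ∈ F.R1), f ⟨b * q * b⁻¹, F.H_R1 F.b_H hq⟩ =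
      ρ (k⁻¹ * b * k) * f ⟨q, hq⟩ * (ρ (k⁻¹ * b * k))⁻¹ := by
    intro q hq
    have hqC := hcz q (htR q hq)
    have hbi : k⁻¹ * b⁻¹ * k = (k⁻¹ * b * k)⁻¹ := by group
    rw [hf, hf, hmul, hmul, hbi, F.setup.ρ_mul _ (mul_mem hbC hqC) _ (inv_mem hbC),
      F.setup.ρ_mul _ hbC _ hqC, F.setup.ρ_inv hbC]
  obtain ⟨a, ha, c, hc, ha2, hc2, hac⟩ := F.R1_pair
  have hR2 : IsPGroup 2 ↥F.R1 := by
    have hQ2 : IsPGroup 2 ↥Q := IsPGroup.of_card (n := 9) (by rw [F.setup.card]; rfl)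
    exact hQ2.to_le fun q hq => hq.1
  have hP : IsPGroup 2 ↥f.range := hR2.of_surjective f.rangeRestrict f.rangeRestrict_surjective
  refine no_extra (P := f.range) (Z := f ⟨z, F.z_R1⟩) hP ?_ ⟨_, rfl⟩ ?_ ?_ ?_
    (β := ρ (k⁻¹ * b * k)) ?_ ?_ ?_ ?_ (a := f ⟨a, ha⟩) (c := f ⟨c, hc⟩) ⟨_, rfl⟩ ⟨_, rfl⟩ ?_ ?_ ?_
  · rintro _ ⟨q, rfl⟩
    exact F.setup.ρ_mem _ (hcz _ (htR q q.2))
  · exact fun e => hzQ ((F.setup.ρ_ker _ hzt).1 e)
  · rw [← map_mul]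
    exact (congrArg f (Subtype.ext F.setup.zz)).trans (map_one f)
  · rintro _ ⟨q, rfl⟩
    rw [← map_mul, ← map_mul]
    exact congrArg f (Subtype.ext (F.setup.cz q.2.1))
  · rw [← F.setup.ρ_pow hbC, show (k⁻¹ * b * k) ^ 5 = k⁻¹ * b ^ 5 * k by
      simpa using (conj_pow (i := 5) (a := k⁻¹) (b := b)), ← F.b5, pow_orderOf_eq_one]
    rw [show k⁻¹ * 1 * k = (1 : G) by group, F.setup.ρ_one]
  · rw [hf, ← F.setup.ρ_mul _ hbC _ hzt, ← F.setup.ρ_mul _ hzt _ hbC, ← hmul, ← hmul, mem_cz.1 F.bC]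
  · rintro _ ⟨⟨q, hq⟩, rfl⟩
    exact ⟨_, hbmap hq⟩
  · rintro _ ⟨⟨q, hq⟩, rfl⟩
    obtain ⟨r, hr, e⟩ := F.R1_gen hq
    refine ⟨f ⟨r, hr⟩, ⟨_, rfl⟩, ?_⟩
    rw [← hbmap hr, ← map_inv, ← map_mul, ← map_mul]
    exact e.imp (fun e => congrArg f (Subtype.ext e)) (fun e => congrArg f (Subtype.ext e))
  · rw [← map_mul]; exact (congrArg f (Subtype.ext ha2)).trans (map_one f)
  · rw [← map_mul]; exact (congrArg f (Subtype.ext hc2)).trans (map_one f)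
  · rw [← map_mul, ← map_mul, ← map_mul]; exact congrArg f (Subtype.ext hac)

end

end CfsgLib.Spor.CoOneType
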