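import Cfsg.Agent.Lib.Spor.CoOneType.Swap

/-!
# An involution outside the extraspecial group
-/

set_option autoImplicit false

namespace CfsgLib.Spor.CoOneType

open Subgroup

noncomputable section

set_option synthInstance.maxSize 1024 in
theorem sing_perp : ∀ u y : W4, q4 u = 0 → u ≠ 0 → q4 y = 0 → QuadraticMap.polar q4 u y = 0 → y = 0 ∨ y = u := by
  decide +kernel

theorem perp_pair : ∀ u : W4, q4 u = 0 → u ≠ 0 →
    ∃ y y' : W4, QuadraticMap.polar q4 u y = 0 ∧ QuadraticMap.polar q4 u y' = 0 ∧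
      QuadraticMap.polar q4 y y' = 1 := by decide +kernel

set_option synthInstance.maxSize 1024 in
theorem perp_perp : ∀ u d : W4, q4 u = 0 → u ≠ 0 →
    (∀ x, QuadraticMap.polar q4 u x = 0 → QuadraticMap.polar q4 d x = 0) → d = 0 ∨ d = u := by decide +kernel

/-- An isometry fixing the perpendicular space of a singular vector is trivial. -/
theorem fix_hyperplane {u : W4} (hu : q4 u = 0) (hu0 : u ≠ 0) {k : Iso4}
    (h : ∀ x, QuadraticMap.polar q4 u x = 0 → act4 k x = x) : k = 1 := by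
  refine iso4_ext fun y => ?_
  rw [act4_one]
  rcases two_cases (QuadraticMap.polar q4 u y) with e | e
  · exact h y e
  have hd := perp_perp u (act4 k y + y) hu hu0 fun x hx => by
    rw [q4_nd.polar_bilinear.add_left]
    conv_lhs => arg 1; rw [← h x hx]
    rw [pol4_act4, CharTwo.add_self_eq_zero]
  rcases hd with hd | hd
  · calc act4 k y = act4 k y + (y + y) := by rw [w4_add_self, add_zero]
      _ = (act4 k y + y) + y := (add_assoc _ _ _).symm
      _ = y := by rw [hd, zero_add]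
  · exfalso
    have h1 : act4 k y = u + y := by
      calc act4 k y = act4 k y + (y + y) := by rw [w4_add_self, add_zero]
        _ = (act4 k y + y) + y := (add_assoc _ _ _).symm
        _ = u + y := by rw [hd]
    have h2 := q4_act4 k y
    rw [h1, show q4 (u + y) = q4 u + q4 y + QuadraticMap.polar q4 u y by simp only [QuadraticMap.polar]; ring,
      hu, e, zero_add] at h2
    exact one_ne_zero (add_eq_left.1 h2)

variable {G : Type*} [Group G] [Finite G] {z : G} {Q : Subgroup G} {v : G → Vec} {ρ : G → Iso8} {b : G}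
  {P P' : Part} {n : G}

namespace Swap

variable (W : Swap z Q v ρ b P P' n)
include W

theorem conj2 : (Q.map (MulAut.conj n).toMonoidHom).map (MulAut.conj n).toMonoidHom = Q := by
  have hn : n * n ∈ centralizer ({z} : Set G) := mem_cz.2 (conj_eq_iff_comm.1
    (by rw [show n * n * z * (n * n)⁻¹ = n * (n * z * n⁻¹) * n⁻¹ by group, W.swap]))
  ext x
  constructor
  · rintro ⟨_, ⟨a, ha, rfl⟩, rfl⟩
    show n * (n * a * n⁻¹) * n⁻¹ ∈ Q
    rw [show n * (n * a * n⁻¹) * n⁻¹ = n * n * a * (n * n)⁻¹ by group]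
    exact W.frame.setup.norm hn ha
  · intro hx
    exact ⟨n * ((n * n)⁻¹ * x * (n * n)) * n⁻¹, ⟨_, by simpa using W.frame.setup.norm (inv_mem hn) hx, rfl⟩,
      show n * (n * ((n * n)⁻¹ * x * (n * n)) * n⁻¹) * n⁻¹ = x by group⟩

theorem symm : Swap (n * z * n⁻¹) (Q.map (MulAut.conj n).toMonoidHom) (fun a => v (n⁻¹ * a * n))
    (fun c => ρ (n⁻¹ * c * n)) b P P' n := by
  refine ⟨W.frame.conj W.nb, W.nb, ?_, ?_, ?_, ?_⟩
  · rw [W.swap]; exact ⟨W.mem', mem_centralizer_singleton_iff.2 (mem_cz.1 W.frame.bC).symm⟩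
  · rw [W.swap]; exact W.ne.symm
  · rw [W.swap]
  · rw [W.conj2]; exact W.mem.1

theorem w_center {a : G} (ha : a ∈ Q.map (MulAut.conj n).toMonoidHom) :
    a * (n * z * n⁻¹) = n * z * n⁻¹ * a := (W.frame.setup.conj n).cz ha

theorem w_ne_one : n * z * n⁻¹ ≠ 1 := (W.frame.setup.conj n).z_ne

theorem w_sq : n * z * n⁻¹ * (n * z * n⁻¹) = 1 := (W.frame.setup.conj n).zz

theorem exists_u : ∃ u : W4, v (n * z * n⁻¹) = P.ι u ∧ q4 u = 0 ∧ u ≠ 0 := by
  obtain ⟨u, hu⟩ := W.frame.fix_v W.mem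
  refine ⟨u, hu, ?_, fun e => ?_⟩
  · rw [← P.iso, ← hu, W.frame.setup.v_sq _ W.mem.1]; exact W.w_sq
  · exact W.frame.setup.v_ne W.mem.1 W.w_ne_one W.ne (by rw [hu, e, map_zero])

/-- The squares of an element commuting with the second involution. -/
theorem sq_eq_z {a : G} (ha : a ∈ fixQ Q b) (hc : a * (n * z * n⁻¹) = n * z * n⁻¹ * a)
    (hne : ¬ (a = 1 ∨ a = z ∨ a = n * z * n⁻¹ ∨ a = n * z * n⁻¹ * z)) : a * a = z := by
  refine (W.frame.setup.core.sq_eq a ha.1).resolve_left fun e => hne ?_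
  obtain ⟨u, hu, hq, hu0⟩ := W.exists_u
  obtain ⟨y, hy⟩ := W.frame.fix_v ha
  rcases sing_perp u y hq hu0 (by rw [← P.iso, ← hy, W.frame.setup.v_sq a ha.1]; exact e)
    (by rw [← P.pol_ι, ← hu, ← hy, W.frame.setup.v_comm _ W.mem.1 _ ha.1]; exact hc.symm) with h | h
  · rw [h, map_zero] at hy
    rcases (W.frame.setup.v_ker a ha.1).1 hy with h | h
    · exact Or.inl h
    · exact Or.inr (Or.inl h)
  · rw [h, ← hu] at hy
    rcases (W.frame.setup.v_eq ha.1 W.mem.1).1 hy with h | h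
    · exact Or.inr (Or.inr (Or.inl h))
    · exact Or.inr (Or.inr (Or.inr h))

/-- The fixed parts of the two extraspecial groups meet in the four group. -/
theorem inter {a : G} (ha : a ∈ fixQ Q b) (ha' : a ∈ Q.map (MulAut.conj n).toMonoidHom) :
    a = 1 ∨ a = z ∨ a = n * z * n⁻¹ ∨ a = n * z * n⁻¹ * z := by
  by_contra h
  have h2 := W.sq_eq_z ha (W.w_center ha') h
  rcases (W.frame.setup.conj n).core.sq_eq a ha' with e | e
  · exact W.frame.setup.z_ne (h2.symm.trans e)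
  · exact W.ne (e.symm.trans h2)

/-- Commutators between the two centralizers. -/
theorem comm_mem {x y : G} (hx : x ∈ fixQ (Q.map (MulAut.conj n).toMonoidHom) b) (hxz : x * z = z * x)
    (hy : y ∈ fixQ Q b) (hyw : y * (n * z * n⁻¹) = n * z * n⁻¹ * y) :
    x * y * x⁻¹ * y⁻¹ = 1 ∨ x * y * x⁻¹ * y⁻¹ = z ∨ x * y * x⁻¹ * y⁻¹ = n * z * n⁻¹ ∨
      x * y * x⁻¹ * y⁻¹ = n * z * n⁻¹ * z := by
  refine W.inter ⟨Q.mul_mem (W.frame.setup.norm (mem_cz.2 hxz) hy.1) (Q.inv_mem hy.1), ?_⟩ ?_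
  · exact (centralizer ({b} : Set G)).mul_mem ((centralizer ({b} : Set G)).mul_mem
      ((centralizer ({b} : Set G)).mul_mem hx.2 hy.2) ((centralizer ({b} : Set G)).inv_mem hx.2))
      ((centralizer ({b} : Set G)).inv_mem hy.2)
  · rw [show x * y * x⁻¹ * y⁻¹ = x * (y * x⁻¹ * y⁻¹) by group]
    exact mul_mem hx.1 ((W.frame.setup.conj n).norm (mem_cz.2 hyw) (inv_mem hx.1))

theorem exists_x : ∃ x ∈ fixQ (Q.map (MulAut.conj n).toMonoidHom) b, x * z = z * x ∧ x ∉ Q := by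
  have W' := W.symm
  obtain ⟨u, hu, hq, hu0⟩ := W'.exists_u
  rw [W.swap] at hu
  obtain ⟨y, y', h1, h2, h3⟩ := perp_pair u hq hu0
  obtain ⟨x, hx, hvx⟩ := W'.frame.fix_surj y
  obtain ⟨x', hx', hvx'⟩ := W'.frame.fix_surj y'
  have hz' := W.mem'
  have hxz : x * z = z * x := ((W'.frame.setup.v_comm z hz' x hx.1).1 (by rw [hu, hvx, P.pol_ι, h1])).symm
  have hxz' : x' * z = z * x' := ((W'.frame.setup.v_comm z hz' x' hx'.1).1 (by rw [hu, hvx', P.pol_ι, h2])).symm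
  have hnc : x * x' ≠ x' * x := fun e => by
    have h := (W'.frame.setup.v_comm x hx.1 x' hx'.1).2 e
    rw [hvx, hvx', P.pol_ι, h3] at h
    exact one_ne_zero h
  by_contra hcon
  push Not at hcon
  refine hnc ?_
  rcases W.frame.setup.core.comm_eq x (hcon x hx hxz) x' (hcon x' hx' hxz') with e | e
  · exact mul_inv_eq_iff_eq_mul.1 (mul_inv_eq_one.1 e)
  · rcases (W.frame.setup.conj n).core.comm_eq x hx.1 x' hx'.1 with e' | e'
    · exact mul_inv_eq_iff_eq_mul.1 (mul_inv_eq_one.1 e')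
    · exact absurd (e'.symm.trans e) W.ne

theorem exists_moved : ∃ x ∈ fixQ (Q.map (MulAut.conj n).toMonoidHom) b, x * z = z * x ∧
    ∃ y ∈ fixQ Q b, y * (n * z * n⁻¹) = n * z * n⁻¹ * y ∧
      ¬ (x * y * x⁻¹ * y⁻¹ = 1 ∨ x * y * x⁻¹ * y⁻¹ = z) := by
  obtain ⟨x, hx, hxz, hxQ⟩ := W.exists_x
  refine ⟨x, hx, hxz, ?_⟩
  have hxH : x ∈ W.frame.H := ⟨mem_cz.2 hxz, hx.2⟩
  have hk : W.frame.res ⟨x, hxH⟩ ≠ 1 := fun e => by
    obtain ⟨r, hr, i, hi⟩ := W.frame.res_eq_one e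
    refine hxQ ?_
    have h4 : x ^ 4 = 1 := (W.symm.frame.setup.core.sq_eq x hx.1).elim
      (fun e => by rw [show (4 : ℕ) = 2 * 2 from rfl, pow_mul, pow_two x, e, one_pow])
      (fun e => by rw [show (4 : ℕ) = 2 * 2 from rfl, pow_mul, pow_two x, e, pow_two, W.w_sq])
    have hr4 : r ^ 4 = 1 := (W.frame.setup.core.sq_eq r hr.1).elim
      (fun e => by rw [show (4 : ℕ) = 2 * 2 from rfl, pow_mul, pow_two r, e, one_pow])
      (fun e => by rw [show (4 : ℕ) = 2 * 2 from rfl, pow_mul, pow_two r, e, pow_two, W.frame.setup.zz])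
    have h5 : b ^ (i * 4) = 1 := by
      have hcomm : Commute r (b ^ i) := (show Commute r b from mem_centralizer_singleton_iff.1 hr.2).pow_right i
      have h' := congrArg (· ^ 4) (show x = r * b ^ i from hi)
      simp only [h4, hcomm.mul_pow, hr4, one_mul] at h'
      rw [pow_mul]; exact h'.symm
    have hd := orderOf_dvd_of_pow_eq_one h5
    rw [W.frame.b5] at hd
    obtain ⟨m, hm⟩ := (Nat.Coprime.dvd_of_dvd_mul_right (by norm_num) hd : 5 ∣ i)
    rw [show x = r * b ^ i from hi, hm, pow_mul, ← W.frame.b5, pow_orderOf_eq_one, one_pow, mul_one]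
    exact hr.1
  obtain ⟨u, hu, hq, hu0⟩ := W.exists_u
  by_contra hcon
  push Not at hcon
  refine hk (Subtype.ext (fix_hyperplane hq hu0 fun t ht => P.ι_injective ?_))
  obtain ⟨y, hy, hvy⟩ := W.frame.fix_surj t
  have hyw : y * (n * z * n⁻¹) = n * z * n⁻¹ * y :=
    ((W.frame.setup.v_comm _ W.mem.1 y hy.1).1 (by rw [hu, hvy, P.pol_ι, ht])).symm
  rw [← W.frame.res_spec, ← hvy]
  show act (ρ x) _ = _
  rw [← W.frame.setup.ρ_act x (mem_cz.2 hxz) y hy.1]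
  have he : x * y * x⁻¹ = x * y * x⁻¹ * y⁻¹ * y := by group
  rcases hcon y hy hyw with h1 | h1
  · rw [he, h1, one_mul]
  · rw [he, h1, ← W.frame.setup.cz hy.1, W.frame.setup.v_mul_z hy.1]

/-- An involution outside the extraspecial group. -/
theorem exists_invol : ∃ t ∈ W.frame.H, t * t = 1 ∧ t ∉ Q := by
  set w := n * z * n⁻¹ with hw
  set Q' := Q.map (MulAut.conj n).toMonoidHom with hQ'
  have hwz : w * z = z * w := W.frame.setup.cz W.mem.1
  obtain ⟨x₁, hx₁, hx₁z, y₁, hy₁, hy₁w, h₁⟩ := W.exists_moved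
  obtain ⟨y₂, hy₂, hy₂w, x₂, hx₂, hx₂z, h₂⟩ := W.symm.exists_moved
  rw [W.conj2] at hy₂
  rw [W.swap] at hx₂z
  have h₂' : ¬ (x₂ * y₂ * x₂⁻¹ * y₂⁻¹ = 1 ∨ x₂ * y₂ * x₂⁻¹ * y₂⁻¹ = w) := fun h => h₂ (by
    rw [show y₂ * x₂ * y₂⁻¹ * x₂⁻¹ = (x₂ * y₂ * x₂⁻¹ * y₂⁻¹)⁻¹ by group]
    exact h.imp (fun e => by rw [e, inv_one]) (fun e => by rw [e]; exact (W.frame.setup.conj n).z_inv))
  -- the two central involutions commute with everything in sight
  have hxc : ∀ x ∈ fixQ Q' b, x * z = z * x → ∀ c : G,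
      (c = 1 ∨ c = z ∨ c = w ∨ c = w * z) → x * c = c * x := by
    intro x hx hxz c hc
    have hxw : Commute x w := W.w_center hx.1
    rcases hc with rfl | rfl | rfl | rfl
    · simp
    · exact hxz
    · exact hxw
    · exact (hxw.mul_right hxz).eq
  have hyc : ∀ y ∈ fixQ Q b, y * w = w * y → ∀ c : G,
      (c = 1 ∨ c = z ∨ c = w ∨ c = w * z) → y * c = c * y := by
    intro y hy hyw c hc
    have hyz : Commute y z := W.frame.setup.cz hy.1
    rcases hc with rfl | rfl | rfl | rfl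
    · simp
    · exact hyz
    · exact hyw
    · exact ((show Commute y w from hyw).mul_right hyz).eq
  have mulx : ∀ x x' y : G, x ∈ fixQ Q' b → x * z = z * x → x' ∈ fixQ Q' b → x' * z = z * x' →
      y ∈ fixQ Q b → y * w = w * y →
      x * x' * y * (x * x')⁻¹ * y⁻¹ = (x' * y * x'⁻¹ * y⁻¹) * (x * y * x⁻¹ * y⁻¹) := by
    intro x x' y hx hxz hx' hx'z hy hyw
    have h := hxc x hx hxz _ (W.comm_mem hx' hx'z hy hyw)
    calc x * x' * y * (x * x')⁻¹ * y⁻¹ = x * (x' * y * x'⁻¹ * y⁻¹) * (y * x⁻¹ * y⁻¹) := by group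
      _ = (x' * y * x'⁻¹ * y⁻¹) * x * (y * x⁻¹ * y⁻¹) := by rw [h]
      _ = _ := by group
  have muly : ∀ x y y' : G, x ∈ fixQ Q' b → x * z = z * x → y ∈ fixQ Q b → y * w = w * y →
      y' ∈ fixQ Q b → y' * w = w * y' →
      x * (y * y') * x⁻¹ * (y * y')⁻¹ = (x * y * x⁻¹ * y⁻¹) * (x * y' * x⁻¹ * y'⁻¹) := by
    intro x y y' hx hxz hy hyw hy' hy'w
    have h := hyc y hy hyw _ (W.comm_mem hx hxz hy' hy'w)
    calc x * (y * y') * x⁻¹ * (y * y')⁻¹ = (x * y * x⁻¹) * (x * y' * x⁻¹ * y'⁻¹) * y⁻¹ := by group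
      _ = (x * y * x⁻¹ * y⁻¹) * (y * (x * y' * x⁻¹ * y'⁻¹)) * y⁻¹ := by group
      _ = (x * y * x⁻¹ * y⁻¹) * ((x * y' * x⁻¹ * y'⁻¹) * y) * y⁻¹ := by rw [h]
      _ = _ := by group
  have hmx : ∀ x x' : G, x * z = z * x → x' * z = z * x' → x * x' * z = z * (x * x') := fun x x' h h' =>
    ((show Commute x z from h).mul_left h').eq
  have hmy : ∀ y y' : G, y * w = w * y → y' * w = w * y' → y * y' * w = w * (y * y') := fun y y' h h' =>
    ((show Commute y w from h).mul_left h').eq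
  obtain ⟨x, hx, hxz, y, hy, hyw, hxy⟩ : ∃ x ∈ fixQ Q' b, x * z = z * x ∧ ∃ y ∈ fixQ Q b, y * w = w * y ∧
      x * y * x⁻¹ * y⁻¹ = w * z := by
    have c₁₁ := W.comm_mem hx₁ hx₁z hy₁ hy₁w
    have c₂₂ := W.comm_mem hx₂ hx₂z hy₂ hy₂w
    rcases c₁₁ with e | e | e | e
    · exact absurd (Or.inl e) h₁
    · exact absurd (Or.inr e) h₁
    swap; · exact ⟨x₁, hx₁, hx₁z, y₁, hy₁, hy₁w, e⟩
    rcases c₂₂ with f | f | f | f
    · exact absurd (Or.inl f) h₂'
    rotate_left; · exact absurd (Or.inr f) h₂'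
    · exact ⟨x₂, hx₂, hx₂z, y₂, hy₂, hy₂w, f⟩
    rcases W.comm_mem hx₁ hx₁z hy₂ hy₂w with g | g | g | g
    rotate_left
    · exact ⟨x₁, hx₁, hx₁z, y₁ * y₂, mul_mem hy₁ hy₂, hmy _ _ hy₁w hy₂w,
        by rw [muly _ _ _ hx₁ hx₁z hy₁ hy₁w hy₂ hy₂w, e, g]⟩
    · exact ⟨x₁ * x₂, mul_mem hx₁ hx₂, hmx _ _ hx₁z hx₂z, y₂, hy₂, hy₂w,
        by rw [mulx _ _ _ hx₁ hx₁z hx₂ hx₂z hy₂ hy₂w, f, g, hwz]⟩
    · exact ⟨x₁, hx₁, hx₁z, y₂, hy₂, hy₂w, g⟩
    rcases W.comm_mem hx₂ hx₂z hy₁ hy₁w with k | k | k | k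
    · refine ⟨x₁ * x₂, mul_mem hx₁ hx₂, hmx _ _ hx₁z hx₂z, y₁ * y₂, mul_mem hy₁ hy₂, hmy _ _ hy₁w hy₂w, ?_⟩
      rw [muly _ _ _ (mul_mem hx₁ hx₂) (hmx _ _ hx₁z hx₂z) hy₁ hy₁w hy₂ hy₂w,
        mulx _ _ _ hx₁ hx₁z hx₂ hx₂z hy₁ hy₁w, mulx _ _ _ hx₁ hx₁z hx₂ hx₂z hy₂ hy₂w, e, f, g, k,
        one_mul, mul_one]
    · exact ⟨x₁ * x₂, mul_mem hx₁ hx₂, hmx _ _ hx₁z hx₂z, y₁, hy₁, hy₁w,
        by rw [mulx _ _ _ hx₁ hx₁z hx₂ hx₂z hy₁ hy₁w, e, k, hwz]⟩
    · exact ⟨x₂, hx₂, hx₂z, y₁ * y₂, mul_mem hy₁ hy₂, hmy _ _ hy₁w hy₂w,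
        by rw [muly _ _ _ hx₂ hx₂z hy₁ hy₁w hy₂ hy₂w, k, f]⟩
    · exact ⟨x₂, hx₂, hx₂z, y₁, hy₁, hy₁w, k⟩
  have hne1 : w * z ≠ 1 := fun e => W.ne (by
    have := eq_inv_of_mul_eq_one_left e
    rwa [W.frame.setup.z_inv] at this)
  have hy' : y * y = z := by
    refine W.sq_eq_z hy hyw fun h => hne1 ?_
    rw [← hxy, hxc x hx hxz y h, mul_inv_cancel_right, mul_inv_cancel]
  have hx' : x * x = w := by
    refine W.symm.sq_eq_z hx (by rw [W.swap]; exact hxz) fun h => hne1 ?_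
    rw [W.swap] at h
    have hcom : y * x = x * y := hyc y hy hyw x (by
      rcases h with h | h | h | h
      · exact Or.inl h
      · exact Or.inr (Or.inr (Or.inl h))
      · exact Or.inr (Or.inl h)
      · exact Or.inr (Or.inr (Or.inr (by rw [hwz]; exact h))))
    rw [← hxy, ← hcom, mul_inv_cancel_right, mul_inv_cancel]
  refine ⟨x * y, ⟨mul_mem (mem_cz.2 hxz) (W.frame.setup.le hy.1), mul_mem hx.2 hy.2⟩, ?_, fun hQ => ?_⟩
  · have he : x * y = w * z * (y * x) := by rw [← hxy]; group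
    have hwy : w * y = y * w := hyw.symm
    calc x * y * (x * y) = w * z * (y * (x * x) * y) := by
          conv_lhs => arg 1; rw [he]
          group
      _ = w * z * (w * (y * y)) := by rw [hx', ← hwy]; group
      _ = w * z * (w * z) := by rw [hy']
      _ = w * (z * w) * z := by group
      _ = (w * w) * (z * z) := by rw [← hwz]; group
      _ = 1 := by rw [W.frame.setup.zz, W.w_sq, one_mul]
  · have hxQ : x ∈ Q := by
      have := mul_mem hQ (inv_mem hy.1)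
      rwa [mul_inv_cancel_right] at this
    rcases W.frame.setup.core.comm_eq x hxQ y hy.1 with e | e
    · exact hne1 (hxy.symm.trans e)
    · exact W.w_ne_one (mul_eq_right.1 (hxy.symm.trans e))

end Swap

end

end CfsgLib.Spor.CoOneType
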