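import Cfsg.Agent.Lib.Spor.CoOneType.Quot
import Cfsg.Agent.Lib.Spor.CoOneType.Outer
import Cfsg.Agent.Lib.Spor.CoOneType.NotConj
import Cfsg.Agent.Lib.Invol.JTwo.Config
import Cfsg.Agent.Lib.Spor.Mults.JTwo.Main
import Cfsg.Agent.Lib.PGroup.SchurUniversal
import Cfsg.Agent.Lib.Coprime.Component

/-!
# The layer of the centralizer of the element of order five
-/

set_option autoImplicit false

namespace CfsgLib.Spor.CoOneType

open Subgroup CfsgLib.Invol.JTwo

noncomputable section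

variable {G : Type*} [Group G] [Finite G] {z : G} {Q : Subgroup G} {v : G → Vec} {ρ : G → Iso8} {b : G}
  {P P' : Part} {n : G}

theorem Frame.pow_bot (F : Frame z Q v ρ b P P') {t : G} {i : ℕ} (ht : t * t = 1) (e : t = b ^ i) : t = 1 :=
  eq_of_pow_four F.b5 (i := i) (c := 1) (by rw [show (4 : ℕ) = 2 * 2 from rfl, pow_mul, pow_two t, ht, one_pow])
    (one_pow 4) (by rw [one_mul, mul_one]) (by rw [one_mul, e])

/-- The quotient satisfies the hypothesis of Hall–Janko type. -/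
theorem Swap.hyp_quot (W : Swap z Q v ρ b P P' n) : Hyp W.frame.zX W.frame.RX := by
  haveI : Fact (Nat.Prime 2) := ⟨Nat.prime_two⟩
  have hn : n ∈ centralizer ({b} : Set G) := mem_centralizer_singleton_iff.2 W.nb
  refine { toPreHyp := W.frame.prehyp, nwc := ?_, two := ?_ }
  · refine ⟨qm b ⟨n * z * n⁻¹, W.mem.2⟩, ⟨⟨_, W.mem.2⟩, W.mem, rfl⟩, fun e => W.ne ?_, ?_⟩
    · exact congrArg Subtype.val (W.frame.mk_inj (c := ⟨z, W.frame.z_memM⟩) W.mem.1 W.frame.setup.core.mem e)
    · refine isConj_iff.2 ⟨qm b ⟨n, hn⟩, ?_⟩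
      show qm b _ * qm b _ * (qm b _)⁻¹ = _
      rw [← map_inv, ← map_mul, ← map_mul]
      rfl
  · obtain ⟨t, ht, ht2, htQ⟩ := W.exists_invol
    refine ⟨W.frame.zX, qm b ⟨t, ht.2⟩, W.frame.zX_order, ?_, ?_⟩
    · refine orderOf_eq_prime ?_ fun e => ?_
      · rw [pow_two, ← map_mul]
        exact (congrArg (qm b) (Subtype.ext ht2)).trans (map_one _)
      · obtain ⟨i, hi⟩ := (mk_eq_one W.frame.b5).1 e
        refine htQ ?_
        rw [W.frame.pow_bot ht2 hi]
        exact one_mem _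
    · intro hc
      obtain ⟨m, hm⟩ := isConj_iff.1 hc
      obtain ⟨m, rfl⟩ := QuotientGroup.mk'_surjective (Bc b) m
      refine W.frame.not_conj ht ht2 htQ (isConj_iff.2 ⟨m, ?_⟩)
      set zm : ↥(centralizer ({b} : Set G)) := ⟨z, W.frame.z_memM⟩
      set tm : ↥(centralizer ({b} : Set G)) := ⟨t, ht.2⟩
      replace hm : qm b m * qm b zm * (qm b m)⁻¹ = qm b tm := hm
      obtain ⟨i, hi⟩ := (mk_eq_one W.frame.b5).1 (show qm b (tm⁻¹ * (m * zm * m⁻¹)) = 1 by
        rw [map_mul, map_inv, map_mul, map_mul, map_inv, hm, inv_mul_cancel])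
      have e : (m : G) * z * (m : G)⁻¹ = t * b ^ i := by
        rw [← hi]
        show (m : G) * z * (m : G)⁻¹ = t * (t⁻¹ * ((m : G) * z * (m : G)⁻¹))
        group
      exact eq_of_pow_four W.frame.b5 (i := i)
        (by rw [conj_pow, W.frame.pow4 W.frame.setup.core.mem, mul_one, mul_inv_cancel])
        (by rw [show (4 : ℕ) = 2 * 2 from rfl, pow_mul, pow_two t, ht2, one_pow])
        (mem_centralizer_singleton_iff.1 ht.2) e

theorem Swap.quot_iso (W : Swap z Q v ρ b P P' n) : Nonempty (X b ≃* Cfsg.Spor.J2) := by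
  haveI := CfsgLib.Char.J2.isSimpleGroup_J2
  exact W.hyp_quot.nonempty_mulEquiv

/-- The layer of the centralizer of `b`, as a subgroup of the whole group. -/
def lay (b : G) : Subgroup G :=
  (commutator ↥(centralizer ({b} : Set G))).map (centralizer ({b} : Set G)).subtype

theorem lay_le (b : G) : lay b ≤ centralizer ({b} : Set G) := map_subtype_le _

/-- What is needed about the layer. -/
structure LayerData (b : G) : Prop where
  disj : ∀ i : ℕ, b ^ i ∈ lay b → b ^ i = 1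
  cover : ∀ m ∈ centralizer ({b} : Set G), ∃ l ∈ lay b, ∃ i : ℕ, m = l * b ^ i
  norm : ∀ m ∈ centralizer ({b} : Set G), ∀ l ∈ lay b, m * l * m⁻¹ ∈ lay b
  iso : Nonempty (↥(lay b) ≃* Cfsg.Spor.J2)
  layer_eq : Cfsg.layer ↥(centralizer ({b} : Set G)) = commutator ↥(centralizer ({b} : Set G))

theorem isQuasisimple_J2 : Cfsg.IsQuasisimple Cfsg.Spor.J2 := by
  haveI := CfsgLib.Char.J2.isSimpleGroup_J2
  haveI : Group.IsPerfect Cfsg.Spor.J2 := ⟨CfsgLib.Spor.Mults.JTwo.commutator_J2⟩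
  exact CfsgLib.Coprime.isQuasisimple_of_normal_le_center fun N hN =>
    hN.eq_bot_or_eq_top.elim (fun r => Or.inr (r ▸ bot_le)) Or.inl

theorem layerData {b : G} (hb5 : orderOf b = 5) (hX : Nonempty (X b ≃* Cfsg.Spor.J2)) : LayerData b := by
  obtain ⟨e⟩ := hX
  haveI : Finite Cfsg.Spor.J2 := Finite.of_equiv _ e.toEquiv
  set τ : ↥(centralizer ({b} : Set G)) →* Cfsg.Spor.J2 := e.toMonoidHom.comp (qm b) with hτ
  have hsurj : Function.Surjective τ := e.surjective.comp (QuotientGroup.mk'_surjective _)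
  have hker1 : ∀ m, τ m = 1 ↔ ∃ i : ℕ, (m : G) = b ^ i := fun m => by
    rw [← mk_eq_one hb5, hτ, MonoidHom.comp_apply, MulEquiv.coe_toMonoidHom, map_eq_one_iff _ e.injective]
  have hcen : τ.ker ≤ center ↥(centralizer ({b} : Set G)) := by
    intro m hm
    obtain ⟨i, hi⟩ := (hker1 m).1 hm
    refine mem_center_iff.2 fun g => Subtype.ext ?_
    show (g : G) * m = m * g
    rw [hi]
    exact ((show Commute (g : G) b from mem_centralizer_singleton_iff.1 g.2).pow_right i).eq
  have h2 : Nat.card (τ.ker ⊓ commutator ↥(centralizer ({b} : Set G)) :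
      Subgroup ↥(centralizer ({b} : Set G))) ≤ 2 := by
    refine le_trans (CfsgLib.Schur.card_inf_le _ hsurj hcen) ?_
    obtain ⟨e2⟩ := CfsgLib.Schur.nonempty_equiv_of_hasSchurMultiplier
      CfsgLib.Spor.Mults.JTwo.multiplier_J2
    rw [← Nat.card_congr e2.toEquiv, Nat.card_congr Multiplicative.toAdd, Nat.card_zmod]
  have hbot : τ.ker ⊓ commutator ↥(centralizer ({b} : Set G)) = ⊥ := by
    refine eq_bot_iff.2 fun m hm => ?_
    by_contra hne
    obtain ⟨i, hi⟩ := (hker1 m).1 hm.1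
    have h5 : orderOf m = 5 := by
      haveI : Fact (Nat.Prime 5) := ⟨Nat.prime_five⟩
      refine orderOf_eq_prime (Subtype.ext ?_) hne
      rw [SubgroupClass.coe_pow, hi, ← pow_mul, mul_comm, pow_mul, ← hb5, pow_orderOf_eq_one, one_pow]
      rfl
    have hd := orderOf_dvd_natCard (⟨m, hm⟩ : ↥(τ.ker ⊓ commutator ↥(centralizer ({b} : Set G))))
    rw [← Subgroup.orderOf_coe, show ((⟨m, hm⟩ : ↥(τ.ker ⊓ commutator ↥(centralizer ({b} : Set G)))) :
      ↥(centralizer ({b} : Set G))) = m from rfl, h5] at hd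
    have := Nat.le_of_dvd Nat.card_pos hd
    omega
  have htop : (commutator ↥(centralizer ({b} : Set G))).map τ = ⊤ := by
    rw [_root_.commutator_def, Subgroup.map_commutator, ← MonoidHom.range_eq_map, MonoidHom.range_eq_top.2 hsurj,
      ← _root_.commutator_def, CfsgLib.Spor.Mults.JTwo.commutator_J2]
  let eL : ↥(commutator ↥(centralizer ({b} : Set G))) ≃* Cfsg.Spor.J2 :=
    MulEquiv.ofBijective (τ.comp (commutator ↥(centralizer ({b} : Set G))).subtype)
      ⟨(injective_iff_map_eq_one _).2 fun x hx => Subtype.ext (by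
          have h : (x : ↥(centralizer ({b} : Set G))) ∈ τ.ker ⊓ commutator ↥(centralizer ({b} : Set G)) :=
            ⟨hx, x.2⟩
          rw [hbot, mem_bot] at h
          exact h),
        fun y => by
          obtain ⟨x, hx, e'⟩ := (htop.symm ▸ mem_top y : y ∈ _)
          exact ⟨⟨x, hx⟩, e'⟩⟩
  have hq : Cfsg.IsQuasisimple ↥(commutator ↥(centralizer ({b} : Set G))) :=
    CfsgLib.Coprime.isQuasisimple_congr eL.symm isQuasisimple_J2
  have hcomp : Cfsg.IsComponent (commutator ↥(centralizer ({b} : Set G))) :=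
    ⟨(inferInstance : (commutator ↥(centralizer ({b} : Set G))).Normal).isSubnormal, hq⟩
  refine ⟨fun i hi => ?_, fun m hm => ?_, fun m hm l hl => ?_, ⟨?_⟩, le_antisymm (sSup_le fun K hK => ?_) ?_⟩
  · obtain ⟨l, hl, e'⟩ := hi
    have h : l ∈ τ.ker ⊓ commutator ↥(centralizer ({b} : Set G)) := ⟨(hker1 l).2 ⟨i, e'⟩, hl⟩
    rw [hbot, mem_bot] at h
    rw [← e', h]
    rfl
  · obtain ⟨l, hl, e'⟩ := (htop.symm ▸ mem_top (τ ⟨m, hm⟩) : τ ⟨m, hm⟩ ∈ _)
    obtain ⟨i, hi⟩ := (hker1 (l⁻¹ * ⟨m, hm⟩)).1 (by rw [map_mul, map_inv, e', inv_mul_cancel])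
    refine ⟨l, ⟨l, hl, rfl⟩, i, ?_⟩
    rw [← hi]
    show m = (l : G) * ((l : G)⁻¹ * m)
    group
  · obtain ⟨l', hl', rfl⟩ := hl
    exact ⟨⟨m, hm⟩ * l' * ⟨m, hm⟩⁻¹,
      (inferInstance : (commutator ↥(centralizer ({b} : Set G))).Normal).conj_mem l' hl' _, rfl⟩
  · exact ((commutator ↥(centralizer ({b} : Set G))).equivMapOfInjective _ (subtype_injective _)).symm.trans eL
  · have hle : K ≤ commutator ↥(centralizer ({b} : Set G)) := by
      rw [← CfsgLib.Coprime.commutator_self_of_isComponent hK, _root_.commutator_def]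
      exact Subgroup.commutator_mono le_top le_top
    exact hle
  · exact CfsgLib.Coprime.component_le_layer hcomp

end

end CfsgLib.Spor.CoOneType
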