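import Cfsg.Agent.Lib.Spor.CoOneType.Count

/-!
# The centralizer of an element of order five in a group of Conway type
-/

set_option autoImplicit false

namespace CfsgLib.Spor.CoOneType

open Subgroup

noncomputable section

variable {G : Type*} [Group G] [Finite G] {z : G} {Q : Subgroup G} {v : G → Vec} {ρ : G → Iso8} {b : G}
  {P P' : Part} {n : G}

namespace Swap

variable (W : Swap z Q v ρ b P P' n) (D : LayerData b)
include W D

theorem centralizer_lay :
    centralizer ((lay b : Subgroup G) : Set G) =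
      X0 z Q b ⊓ X0 (n * z * n⁻¹) (Q.map (MulAut.conj n).toMonoidHom) b := by
  refine le_antisymm (fun c hc => ?_) ?_
  · have hc' : ∀ l ∈ lay b, c * l = l * c := fun l hl => (mem_centralizer_iff.1 hc l hl).symm
    refine ⟨⟨mem_cz.2 (hc' z (W.z_lay D)), mem_centralizer_iff.2 fun a ha => (hc' a (W.fix_lay D ha).1).symm⟩,
      mem_cz.2 (hc' _ (W.fix_lay D W.mem).1), mem_centralizer_iff.2 fun a ha => (hc' a ?_).symm⟩
    exact (W.symm.fix_lay D ha).1
  · intro c hc
    rw [W.lay_eq_sup D]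
    refine mem_centralizer_iff.2 fun x hx => ?_
    have hle : HL z b ⊔ (HL z b).map (MulAut.conj n).toMonoidHom ≤ centralizer ({c} : Set G) := by
      refine sup_le (fun l hl => mem_centralizer_singleton_iff.2 (W.X0_comm D hc.1 hl).symm) ?_
      rintro _ ⟨l, hl, rfl⟩
      refine mem_centralizer_singleton_iff.2 (W.symm.X0_comm D hc.2 ⟨?_, mem_cz.2 ?_⟩).symm
      · exact D.norm n (mem_centralizer_singleton_iff.2 W.nb) l hl.1
      · show n * l * n⁻¹ * (n * z * n⁻¹) = n * z * n⁻¹ * (n * l * n⁻¹)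
        calc n * l * n⁻¹ * (n * z * n⁻¹) = n * (l * z) * n⁻¹ := by group
          _ = n * (z * l) * n⁻¹ := by rw [mem_cz.1 hl.2]
          _ = _ := by group
    exact mem_centralizer_singleton_iff.1 (hle hx)

theorem centralizer_equiv : Nonempty (↥(centralizer ((lay b : Subgroup G) : Set G)) ≃* alternatingGroup (Fin 5)) := by
  set K := centralizer ((lay b : Subgroup G) : Set G) with hK
  have hKX : K ≤ X0 z Q b := by rw [hK, W.centralizer_lay D]; exact inf_le_left
  let f : ↥K →* ↥P'.alt := W.frame.res'.comp (Subgroup.inclusion hKX)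
  have hz : z ∉ K := by
    intro hzK
    obtain ⟨eL⟩ := D.iso
    have hc : eL ⟨z, W.z_lay D⟩ ∈ center Cfsg.Spor.J2 := mem_center_iff.2 fun y => by
      obtain ⟨l, rfl⟩ := eL.surjective y
      rw [← map_mul, ← map_mul]
      exact congrArg eL (Subtype.ext (mem_centralizer_iff.1 hzK l l.2))
    haveI := CfsgLib.Char.J2.isSimpleGroup_J2
    have hbot : center Cfsg.Spor.J2 = ⊥ := by
      rcases (inferInstance : (center Cfsg.Spor.J2).Normal).eq_bot_or_eq_top with h | h
      · exact h
      · exfalso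
        obtain ⟨x, y, hxy⟩ := CfsgLib.Char.J2.exists_not_commute
        exact hxy (Subgroup.mem_center_iff.1 (h ▸ mem_top y) x)
    rw [hbot, mem_bot, map_eq_one_iff _ eL.injective] at hc
    exact W.frame.setup.z_ne (congrArg Subtype.val hc)
  have hbK : b ∈ K := mem_centralizer_iff.2 fun l hl => mem_centralizer_singleton_iff.1 (lay_le b hl)
  have hinj : Function.Injective f := by
    refine (injective_iff_map_eq_one f).2 fun c hc => ?_
    by_contra hne
    have hcR : (c : G) ∈ W.frame.R1 := (W.frame.res'_ker _).1 hc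
    have hone : ∀ x ∈ K, (x = 1 ∨ x = z) → x = 1 := fun x hx h =>
      h.resolve_right fun e => hz (e ▸ hx)
    have hc1 : (c : G) ≠ 1 := fun e => hne (Subtype.ext e)
    have hcz : (c : G) ≠ z := fun e => hz (e ▸ c.2)
    have hsq : (c : G) * c = 1 :=
      hone _ (mul_mem c.2 c.2) (W.frame.setup.core.sq_eq _ hcR.1)
    have hq : qf (v (c : G)) = 0 := (W.frame.setup.v_sq _ hcR.1).2 hsq
    have hv0 : v (c : G) ≠ 0 := W.frame.setup.v_ne hcR.1 hc1 hcz
    set d := b * (c : G) * b⁻¹
    have hd : d ∈ W.frame.R1 := W.frame.H_R1 W.frame.b_H hcR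
    have hdK : d ∈ K := mul_mem (mul_mem hbK c.2) (inv_mem hbK)
    have hcomm : (c : G) * d = d * c := by
      have h1 := hone _ (mul_mem (mul_mem (mul_mem c.2 hdK) (inv_mem c.2)) (inv_mem hdK))
        (W.frame.setup.core.comm_eq _ hcR.1 _ hd.1)
      exact mul_inv_eq_iff_eq_mul.1 (mul_inv_eq_one.1 h1)
    have h0 := (W.frame.setup.v_comm _ hcR.1 _ hd.1).2 hcomm
    rw [W.frame.setup.ρ_act b W.frame.bC _ hcR.1] at h0
    have h1 := pol_orbit W.frame.five.pow5 W.frame.five.fix hcR.2 hq hv0 (i := 1) (by norm_num)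
    rw [pow_one, h0] at h1
    exact zero_ne_one h1
  have hcard : Nat.card ↥P'.alt ≤ Nat.card K := by
    rw [P'.card_alt, hK, W.centralizer_lay D]
    exact W.card_inter D
  have hbij : Function.Bijective f := (Nat.bijective_iff_injective_and_card f).2
    ⟨hinj, le_antisymm (Nat.card_le_card_of_injective f hinj) hcard⟩
  obtain ⟨e⟩ := P'.alt_equiv
  exact ⟨(MulEquiv.ofBijective f hbij).trans e⟩

end Swap

/-- The conclusion for the centralizer of an element of order five. -/
theorem five_centralizer {v : G → Vec} {ρ : G → Iso8} (S : Setup z Q v ρ) (hbC : b ∈ centralizer ({z} : Set G))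
    (hb5 : orderOf b = 5) (hR : Cfsg.IsExtraspecial 2 ↥(fixQ Q b)) (hcard : Nat.card (fixQ Q b) = 32)
    (hno : ¬ ∃ A : Subgroup ↥(fixQ Q b), Cfsg.IsElementaryAbelian 2 A ∧ Nat.card A = 2 ^ (2 + 1))
    {g : G} (hgQ : g * z * g⁻¹ ∈ Q) (hgne : g * z * g⁻¹ ≠ z)
    (M : Subgroup G) (hM : M = centralizer ({b} : Set G)) :
    Cfsg.Spor.IsoJ2 ↥(Cfsg.layer ↥M) ∧
      Nonempty (↥(centralizer (((Cfsg.layer ↥M).map M.subtype : Subgroup G) : Set G)) ≃* alternatingGroup (Fin 5)) := by
  subst hM
  obtain ⟨P, P', F⟩ := exists_frame S hbC hb5 hR hcard hno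
  obtain ⟨n, W⟩ := F.exists_swap hgQ hgne
  have D := layerData hb5 W.quot_iso
  obtain ⟨eL⟩ := D.iso
  rw [D.layer_eq]
  exact ⟨⟨((commutator ↥(centralizer ({b} : Set G))).equivMapOfInjective _ (subtype_injective _)).trans eL⟩,
    W.centralizer_equiv D⟩

end

end CfsgLib.Spor.CoOneType
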