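import Cfsg.Agent.Lib.Spor.CoOneType.Cent

/-!
# The part of the extraspecial group moved by the element of order five
-/

set_option autoImplicit false

namespace CfsgLib.Spor.CoOneType

open Subgroup

noncomputable section

namespace Frame

variable {G : Type*} [Group G] {z : G} {Q : Subgroup G} {v : G → Vec} {ρ : G → Iso8} {b : G} {P P' : Part}
  (F : Frame z Q v ρ b P P')

/-- The preimage of the moved four-space. -/
def R1 : Subgroup G where
  carrier := {q | q ∈ Q ∧ P.Perp (v q)}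
  mul_mem' := fun {a c} ha hc => ⟨Q.mul_mem ha.1 hc.1, by
    rw [F.setup.v_mul a ha.1 c hc.1]; exact add_perp ha.2 hc.2⟩
  one_mem' := ⟨Q.one_mem, by rw [F.setup.v_one, Part.perp_iff, map_zero]⟩
  inv_mem' := fun {a} ha => ⟨Q.inv_mem ha.1, by rw [F.setup.v_inv ha.1]; exact ha.2⟩

theorem mem_R1 {q : G} : q ∈ F.R1 ↔ q ∈ Q ∧ P.Perp (v q) := Iff.rfl

include F

theorem z_R1 : z ∈ F.R1 := ⟨F.setup.core.mem, by rw [F.setup.v_z, Part.perp_iff, map_zero]⟩

theorem R1_v {q : G} (hq : q ∈ F.R1) : ∃ y, v q = P'.ι y := F.five.cover _ hq.2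

theorem R1_surj (y : W4) : ∃ q ∈ F.R1, v q = P'.ι y := by
  obtain ⟨q, hq, e⟩ := F.setup.v_surj (P'.ι y)
  exact ⟨q, ⟨hq, by rw [e]; exact F.five.perp y⟩, e⟩

theorem R1_eq {q q' : G} (hq : q ∈ F.R1) (hq' : q' ∈ F.R1) : v q = v q' ↔ q = q' ∨ q = q' * z :=
  F.setup.v_eq hq.1 hq'.1

theorem H_R1 {c q : G} (hc : c ∈ F.H) (hq : q ∈ F.R1) : c * q * c⁻¹ ∈ F.R1 := by
  refine ⟨F.setup.norm hc.1 hq.1, ?_⟩
  rw [F.setup.ρ_act c hc.1 q hq.1]
  exact P.stab_perp (F.five.stab (F.ρ_comm hc)) hq.2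

theorem b_H : b ∈ F.H := ⟨F.bC, mem_centralizer_singleton_iff.2 rfl⟩

/-- Every element is a commutator with the element of order five up to the centre. -/
theorem R1_gen {q : G} (hq : q ∈ F.R1) :
    ∃ q' ∈ F.R1, q = b * q' * b⁻¹ * q'⁻¹ ∨ q = b * q' * b⁻¹ * q'⁻¹ * z := by
  let g : W4 → W4 := fun y => P'.κ (act (ρ b) (P'.ι y) + P'.ι y)
  have hg : ∀ y, act (ρ b) (P'.ι y) + P'.ι y = P'.ι (g y) := fun y => by
    obtain ⟨y', hy'⟩ := F.five.cover _ (add_perp (perp_act F.five.fix (F.five.perp y)) (F.five.perp y))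
    show _ = P'.ι (P'.κ _)
    rw [hy', Part.κ_ι]
  have hinj : Function.Injective g := fun y y' e => by
    have h := hg y
    rw [e, ← hg y'] at h
    have h2 : act (ρ b) (P'.ι (y + y')) = P'.ι (y + y') := by
      rw [map_add, act_add]
      calc act (ρ b) (P'.ι y) + act (ρ b) (P'.ι y')
          = (act (ρ b) (P'.ι y) + P'.ι y) + (act (ρ b) (P'.ι y') + (P'.ι y)) := by
            rw [show ∀ a c d : Vec, (a + c) + (d + c) = a + d + (c + c) by intros; abel, vec_add_self, add_zero]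
        _ = _ := by
            rw [h, show ∀ a c d : Vec, (a + c) + (a + d) = d + c + (a + a) by intros; abel, vec_add_self, add_zero]
    have h0 := eq_zero_of_fix F.five.fix (F.five.perp _) h2
    have h1 : y + y' = 0 := P'.ι_injective (by rw [h0, map_zero])
    calc y = y + (y' + y') := by rw [w4_add_self, add_zero]
      _ = (y + y') + y' := (add_assoc _ _ _).symm
      _ = y' := by rw [h1, zero_add]
  obtain ⟨y, hy⟩ := F.R1_v hq
  obtain ⟨y₀, rfl⟩ := Finite.injective_iff_surjective.1 hinj y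
  obtain ⟨q', hq', hv'⟩ := F.R1_surj y₀
  have hbq := F.H_R1 F.b_H hq'
  refine ⟨q', hq', (F.R1_eq hq (F.R1.mul_mem hbq (F.R1.inv_mem hq'))).1 ?_⟩
  rw [F.setup.v_mul _ hbq.1 _ (inv_mem hq'.1), F.setup.v_inv hq'.1, F.setup.ρ_act b F.bC q' hq'.1, hv', hg, hy]

/-- An element acting trivially on the moved four-space centralizes its preimage. -/
theorem cent_R1 {c : G} (hc : c ∈ F.H) (h : ∀ y, act (ρ c) (P'.ι y) = P'.ι y) {q : G} (hq : q ∈ F.R1) :
    c * q = q * c := by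
  have hmod : ∀ r ∈ F.R1, c * r * c⁻¹ = r ∨ c * r * c⁻¹ = r * z := fun r hr => by
    refine (F.R1_eq (F.H_R1 hc hr) hr).1 ?_
    obtain ⟨y, hy⟩ := F.R1_v hr
    rw [F.setup.ρ_act c hc.1 r hr.1, hy, h]
  have hcb : c * b = b * c := mem_centralizer_singleton_iff.1 hc.2
  have hzc : c * z * c⁻¹ = z := conj_eq_iff_comm.2 (mem_cz.1 hc.1)
  have hcomm : ∀ r ∈ F.R1, c * (b * r * b⁻¹ * r⁻¹) * c⁻¹ = b * r * b⁻¹ * r⁻¹ := by
    intro r hr
    calc c * (b * r * b⁻¹ * r⁻¹) * c⁻¹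
        = (c * b * c⁻¹) * (c * r * c⁻¹) * (c * b * c⁻¹)⁻¹ * (c * r * c⁻¹)⁻¹ := by group
      _ = b * (c * r * c⁻¹) * b⁻¹ * (c * r * c⁻¹)⁻¹ := by rw [conj_eq_iff_comm.2 hcb]
      _ = _ := by
        rcases hmod r hr with e | e <;> rw [e]
        have hzb : b⁻¹ * z = z * b⁻¹ := ((show Commute b z from mem_cz.1 F.bC).inv_left).eq
        calc b * (r * z) * b⁻¹ * (r * z)⁻¹ = b * r * (z * b⁻¹) * z⁻¹ * r⁻¹ := by group
          _ = _ := by rw [← hzb]; group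
  refine conj_eq_iff_comm.1 ?_
  obtain ⟨r, hr, e | e⟩ := F.R1_gen hq
  · rw [e]; exact hcomm r hr
  · rw [e]
    calc c * (b * r * b⁻¹ * r⁻¹ * z) * c⁻¹ = (c * (b * r * b⁻¹ * r⁻¹) * c⁻¹) * (c * z * c⁻¹) := by group
      _ = _ := by rw [hcomm r hr, hzc]

/-- Two involutions with commutator the centre. -/
theorem R1_pair : ∃ a ∈ F.R1, ∃ c ∈ F.R1, a * a = 1 ∧ c * c = 1 ∧ a * c = z * (c * a) := by
  obtain ⟨a, ha, hva⟩ := F.R1_surj (tb 0)
  obtain ⟨c, hc, hvc⟩ := F.R1_surj (tb 1)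
  refine ⟨a, ha, c, hc, (F.setup.v_sq a ha.1).1 (by rw [hva, P'.iso]; exact (tb_singular 0).1),
    (F.setup.v_sq c hc.1).1 (by rw [hvc, P'.iso]; exact (tb_singular 1).1), ?_⟩
  have hne : a * c ≠ c * a := fun e => by
    have h := (F.setup.v_comm a ha.1 c hc.1).2 e
    rw [hva, hvc, P'.pol_ι] at h
    exact absurd h (by decide +kernel)
  rcases F.setup.conj_or hc.1 ha.1 with e | e
  · exact absurd (conj_eq_iff_comm.1 e) hne
  · rw [mul_inv_eq_iff_eq_mul] at e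
    rw [e, F.setup.cz hc.1, mul_assoc]

end Frame

end

end CfsgLib.Spor.CoOneType
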