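import Cfsg.Agent.Lib.Spor.CoOneType.Setup

/-!
# The orthogonal group of plus type in dimension eight over two elements
-/

set_option autoImplicit false

namespace CfsgLib.Spor.CoOneType

open Matrix Cfsg.Geo CfsgLib.Perm.Trans.Quad

noncomputable section

theorem five_le : 5 ≤ Fintype.card Fi22Eight.Ix := by decide

theorem qf_nd : IsNondegenerateQuadraticForm qf := Fi22Eight.qf_nd

theorem pol_self (x : Vec) : QuadraticMap.polar qf x x = 0 := by
  have hx : x + x = 0 := funext fun _ => CharTwo.add_self_eq_zero _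
  have h : qf (x + x) = 0 := by rw [hx]; exact qzero qf_nd
  simp only [QuadraticMap.polar, h]
  rcases two_cases (qf x) with e | e <;> rw [e] <;> decide

theorem om_mem_of_omegaGL {g : Iso8} (hg : (g : GL Fi22Eight.Ix (ZMod 2)) ∈ omegaGL qf) : g ∈ Om := by
  obtain ⟨h, hh, e⟩ := hg
  exact (Subtype.ext e : h = g) ▸ hh

/-- The simple subgroup is transitive on vectors with the same non-zero value. -/
theorem move_value {u w : Vec} (hu : qf u = 1) (hw : qf w = 1) : ∃ g ∈ Om, act g u = w := by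
  obtain ⟨g, hg, e⟩ := exists_move_value qf_nd five_le (v := u) (w := w) (by rw [hu]; decide) (hu.trans hw.symm)
  exact ⟨⟨g, eGroup_le_iso hg⟩, om_mem_of_omegaGL (eGroup_le_omega qf_nd five_le hg), e⟩

/-- The simple subgroup is transitive on non-zero singular vectors. -/
theorem move_singular {u w : Vec} (hu0 : u ≠ 0) (hw0 : w ≠ 0) (hu : qf u = 0) (hw : qf w = 0) :
    ∃ g ∈ Om, act g u = w := by
  obtain ⟨g, hg, e⟩ := exists_move qf_nd five_le hu0 hw0 hu hw
  exact ⟨⟨g, eGroup_le_iso hg⟩, om_mem_of_omegaGL (eGroup_le_omega qf_nd five_le hg), e⟩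

/-- A reflection. -/
def IsReflAct (d : Vec) (g : Iso8) : Prop := ∀ x, act g x = x + QuadraticMap.polar qf x d • d

theorem exists_refl' {d : Vec} (hd : qf d = 1) : ∃ g : Iso8, IsReflAct d g := by
  obtain ⟨r, hr, hR⟩ := exists_refl qf_nd (v := d) (by rw [hd]; decide)
  refine ⟨⟨r, hr⟩, fun x => ?_⟩
  show (r : Matrix Fi22Eight.Ix Fi22Eight.Ix (ZMod 2)) *ᵥ x = _
  rw [hR x, hd, inv_one, one_mul, sub_eq_add_neg, ← neg_smul, CharTwo.neg_eq]

theorem isReflAct_of_conj {d : Vec} {r g : Iso8} (hr : IsReflAct d r) : IsReflAct (act g d) (g * r * g⁻¹) := by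
  intro x
  rw [act_mul, act_mul, hr, act_add]
  rw [show act g (QuadraticMap.polar qf (act g⁻¹ x) d • d) = QuadraticMap.polar qf (act g⁻¹ x) d • act g d from
    Matrix.mulVec_smul _ _ _, ← act_mul, mul_inv_cancel, act_one,
    show QuadraticMap.polar qf (act g⁻¹ x) d = QuadraticMap.polar qf x (act g d) by
      rw [← pol_act g, ← act_mul, mul_inv_cancel, act_one]]

theorem isReflAct_unique {d : Vec} {r s : Iso8} (hr : IsReflAct d r) (hs : IsReflAct d s) : r = s :=
  iso_ext fun x => by rw [hr x, hs x]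

theorem om_index : Om.index = 2 :=
  CfsgLib.Orth.omega_index_two qf_nd (by decide) (Or.inr (by decide)) (by decide)

/-- Reflections lie outside the simple subgroup. -/
theorem refl_notMem {d : Vec} (hd : qf d = 1) {r : Iso8} (hr : IsReflAct d r) : r ∉ Om := by
  intro hmem
  have hall : ∀ {e : Vec}, qf e = 1 → ∀ {s : Iso8}, IsReflAct e s → s ∈ Om := by
    intro e he s hs
    obtain ⟨g, -, hge⟩ := move_value hd he
    rw [isReflAct_unique hs (hge ▸ isReflAct_of_conj (g := g) hr)]
    exact (inferInstance : Om.Normal).conj_mem r hmem g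
  have htop : Om = ⊤ := by
    refine eq_top_iff.2 fun g _ => ?_
    have h1 : (g : GL Fi22Eight.Ix (ZMod 2)) ∈ eRefl qf := iso_le_eRefl qf_nd g.2
    have h2 : eRefl qf ≤ omegaGL qf := by
      refine sup_le (eGroup_le_omega qf_nd five_le) ((Subgroup.closure_le _).2 ?_)
      rintro x ⟨hx, v, hv, hxv⟩
      have hv1 : qf v = 1 := (two_cases _).resolve_left hv
      refine ⟨⟨x, hx⟩, hall hv1 (fun y => ?_), rfl⟩
      show (x : Matrix Fi22Eight.Ix Fi22Eight.Ix (ZMod 2)) *ᵥ y = _
      rw [hxv y, hv1, inv_one, one_mul, sub_eq_add_neg, ← neg_smul, CharTwo.neg_eq]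
    exact om_mem_of_omegaGL (h2 h1)
  have h := om_index
  rw [htop, Subgroup.index_top] at h
  omega

end

end CfsgLib.Spor.CoOneType
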