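import Cfsg.Agent.Lib.Spor.CoOneType.Orth
import Cfsg.Agent.Lib.Classical.ExcIsoTwo

/-!
# An embedded four-dimensional space of minus type

An isometric image of the minus-type space of dimension four, the projection onto it, the isometries of it
extended trivially to the perpendicular space, and the alternating group inside them.
-/

set_option autoImplicit false

namespace CfsgLib.Spor.CoOneType

open Matrix Cfsg.Geo CfsgLib.Perm.Trans.Quad

noncomputable section

/-- The coordinates in dimension four. -/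
abbrev Ix4 : Type := (Fin 1 ⊕ Fin 1) ⊕ Fin 2

/-- The vectors in dimension four. -/
abbrev W4 : Type := Ix4 → ZMod 2

/-- The form of minus type. -/
abbrev q4 : W4 → ZMod 2 := Cfsg.quadFormMinus 1 (ZMod 2) 1 1

/-- Its isometries. -/
abbrev Iso4 := Cfsg.isometryGroup (ZMod 2) q4

/-- The action in dimension four. -/
def act4 (g : Iso4) (y : W4) : W4 := (g.1 : Matrix Ix4 Ix4 (ZMod 2)) *ᵥ y

theorem act4_one (y : W4) : act4 1 y = y := one_mulVec y

theorem act4_mul (g h : Iso4) (y : W4) : act4 (g * h) y = act4 g (act4 h y) := (mulVec_mulVec y _ _).symm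

theorem act4_add (g : Iso4) (x y : W4) : act4 g (x + y) = act4 g x + act4 g y := mulVec_add _ _ _

theorem act4_smul (g : Iso4) (a : ZMod 2) (y : W4) : act4 g (a • y) = a • act4 g y := mulVec_smul _ _ _

theorem q4_act4 (g : Iso4) (y : W4) : q4 (act4 g y) = q4 y := mem_iso.1 g.2 y

theorem iso4_ext {g h : Iso4} (H : ∀ y, act4 g y = act4 h y) : g = h :=
  Subtype.ext (Units.ext (Matrix.ext_of_mulVec_single fun _ => H _))

theorem q4_nd : IsNondegenerateQuadraticForm q4 := quadFormMinus_nd 1 1 minus_aniso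

theorem pol4_act4 (g : Iso4) (x y : W4) :
    QuadraticMap.polar q4 (act4 g x) (act4 g y) = QuadraticMap.polar q4 x y := iso_pol g.2 x y

theorem qf_add (x y : Vec) : qf (x + y) = qf x + qf y + QuadraticMap.polar qf x y := by
  simp only [QuadraticMap.polar]; ring

theorem pol_add_left (x x' y : Vec) :
    QuadraticMap.polar qf (x + x') y = QuadraticMap.polar qf x y + QuadraticMap.polar qf x' y :=
  qf_nd.polar_bilinear.add_left x x' y

theorem pol_add_right (x y y' : Vec) :
    QuadraticMap.polar qf x (y + y') = QuadraticMap.polar qf x y + QuadraticMap.polar qf x y' :=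
  qf_nd.polar_bilinear.add_right x y y'

theorem pol_comm (x y : Vec) : QuadraticMap.polar qf x y = QuadraticMap.polar qf y x :=
  QuadraticMap.polar_comm qf x y

theorem vec_add_self (v : Vec) : v + v = 0 := funext fun _ => CharTwo.add_self_eq_zero _

theorem w4_add_self (v : W4) : v + v = 0 := funext fun _ => CharTwo.add_self_eq_zero _

/-- The partner of a coordinate under the polar form. -/
def sw : Ix4 → Ix4
  | .inl (.inl i) => .inl (.inr i)
  | .inl (.inr i) => .inl (.inl i)
  | .inr i => .inr (1 - i)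

theorem pol4_single (x : W4) (i : Ix4) : QuadraticMap.polar q4 x (Pi.single (sw i) 1) = x i := by
  revert x i; decide +kernel

theorem pol4_exists {x : W4} (hx : x ≠ 0) : ∃ y, QuadraticMap.polar q4 x y = 1 := by
  revert x; decide +kernel

/-- An embedded copy of the space. -/
structure Part where
  /-- the embedding -/
  ι : W4 →ₗ[ZMod 2] Vec
  iso : ∀ x, qf (ι x) = q4 x

namespace Part

variable (P : Part)

theorem pol_ι (x y : W4) : QuadraticMap.polar qf (P.ι x) (P.ι y) = QuadraticMap.polar q4 x y := by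
  simp only [QuadraticMap.polar, ← map_add, P.iso]

/-- The projection, as coordinates. -/
def κ : Vec →ₗ[ZMod 2] W4 where
  toFun v i := QuadraticMap.polar qf v (P.ι (Pi.single (sw i) 1))
  map_add' v w := funext fun i => pol_add_left v w _
  map_smul' a v := funext fun i => qf_nd.polar_bilinear.smul_left a v _

theorem κ_apply (v : Vec) (i : Ix4) : P.κ v i = QuadraticMap.polar qf v (P.ι (Pi.single (sw i) 1)) := rfl

theorem κ_ι (x : W4) : P.κ (P.ι x) = x := funext fun i => by rw [κ_apply, pol_ι, pol4_single]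

theorem ι_injective : Function.Injective P.ι := fun x y h => by rw [← P.κ_ι x, h, P.κ_ι]

/-- Being perpendicular to the copy. -/
def Perp (v : Vec) : Prop := ∀ y, QuadraticMap.polar qf v (P.ι y) = 0

theorem perp_iff (v : Vec) : P.Perp v ↔ P.κ v = 0 := by
  constructor
  · exact fun h => funext fun i => h _
  · intro h y
    have hy : y = ∑ i, y i • (Pi.single i 1 : W4) := by
      funext j; rw [Finset.sum_apply]; simp [Pi.single_apply]
    let f : W4 →ₗ[ZMod 2] ZMod 2 :=
      { toFun := fun y => QuadraticMap.polar qf v (P.ι y)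
        map_add' := fun a b => by rw [map_add, pol_add_right]
        map_smul' := fun a b => by
          rw [map_smul, pol_comm, qf_nd.polar_bilinear.smul_left, pol_comm]; rfl }
    show f y = 0
    rw [hy, map_sum]
    refine Finset.sum_eq_zero fun i _ => ?_
    rw [map_smul]
    have hi : f (Pi.single i 1) = P.κ v (sw i) := by
      rw [κ_apply, show sw (sw i) = i by revert i; decide]; rfl
    rw [hi, h]; exact smul_zero _

theorem perp_sub (v : Vec) : P.Perp (v + P.ι (P.κ v)) := by
  rw [perp_iff, map_add, κ_ι, w4_add_self]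

theorem pol_κ (v : Vec) (y : W4) : QuadraticMap.polar qf v (P.ι y) = QuadraticMap.polar q4 (P.κ v) y := by
  have h := P.perp_sub v y
  rw [pol_add_left, pol_ι, CharTwo.add_eq_zero] at h
  exact h

theorem split (v : Vec) : v = P.ι (P.κ v) + (v + P.ι (P.κ v)) := by
  rw [add_comm v, ← add_assoc, vec_add_self, zero_add]

theorem qf_split (v : Vec) : qf v = q4 (P.κ v) + qf (v + P.ι (P.κ v)) := by
  conv_lhs => rw [P.split v, qf_add, pol_comm, P.perp_sub v, P.iso, add_zero]

theorem qf_of_perp {w : Vec} (hw : P.Perp w) (y : W4) : qf (P.ι y + w) = q4 y + qf w := by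
  rw [qf_add, pol_comm, hw, P.iso, add_zero]

/-- An isometry extended to the whole space. -/
def ext (g : Iso4) : Vec →ₗ[ZMod 2] Vec where
  toFun v := v + P.ι (act4 g (P.κ v) + P.κ v)
  map_add' v w := by
    simp only [map_add, act4_add]; abel
  map_smul' a v := by
    simp only [map_smul, act4_smul, RingHom.id_apply, ← smul_add]

theorem ext_apply (g : Iso4) (v : Vec) : P.ext g v = v + P.ι (act4 g (P.κ v) + P.κ v) := rfl

theorem ext_eq (g : Iso4) (v : Vec) : P.ext g v = P.ι (act4 g (P.κ v)) + (v + P.ι (P.κ v)) := by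
  rw [ext_apply, map_add]; abel

theorem κ_ext (g : Iso4) (v : Vec) : P.κ (P.ext g v) = act4 g (P.κ v) := by
  rw [ext_apply, map_add, κ_ι, add_comm (act4 g (P.κ v)), ← add_assoc, w4_add_self, zero_add]

theorem ext_mul (g h : Iso4) (v : Vec) : P.ext (g * h) v = P.ext g (P.ext h v) := by
  rw [P.ext_eq g (P.ext h v), κ_ext, ← act4_mul, P.ext_eq (g * h), P.ext_eq h v]
  congr 1
  rw [add_comm (P.ι (act4 h (P.κ v))), add_assoc, vec_add_self, add_zero]

theorem ext_one (v : Vec) : P.ext 1 v = v := by
  rw [ext_apply, act4_one, w4_add_self, map_zero, add_zero]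

theorem ext_qf (g : Iso4) (v : Vec) : qf (P.ext g v) = qf v := by
  rw [ext_eq, P.qf_of_perp (P.perp_sub v), q4_act4, ← P.qf_split v]

/-- The extension as a homomorphism. -/
def T : Iso4 →* Iso8 :=
  MonoidHom.codRestrict
    (MonoidHom.toHomUnits
      { toFun := fun g => LinearMap.toMatrix' (P.ext g)
        map_one' := by
          rw [show P.ext 1 = LinearMap.id from LinearMap.ext P.ext_one, LinearMap.toMatrix'_id]
        map_mul' := fun g h => by
          rw [show P.ext (g * h) = (P.ext g).comp (P.ext h) from LinearMap.ext (P.ext_mul g h),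
            LinearMap.toMatrix'_comp] })
    _ (fun g => mem_iso.2 fun x => by
      show qf (LinearMap.toMatrix' (P.ext g) *ᵥ x) = qf x
      rw [LinearMap.toMatrix'_mulVec, ext_qf])

theorem act_T (g : Iso4) (v : Vec) : act (P.T g) v = v + P.ι (act4 g (P.κ v) + P.κ v) :=
  LinearMap.toMatrix'_mulVec (P.ext g) v

theorem act_T_ι (g : Iso4) (y : W4) : act (P.T g) (P.ι y) = P.ι (act4 g y) := by
  rw [act_T, κ_ι, map_add, add_comm (P.ι (act4 g y)), ← add_assoc, vec_add_self, zero_add]

theorem act_T_perp (g : Iso4) {v : Vec} (hv : P.Perp v) : act (P.T g) v = v := by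
  rw [act_T, (P.perp_iff v).1 hv]
  simp [act4]

theorem T_injective : Function.Injective P.T := fun g h e =>
  iso4_ext fun y => P.ι_injective (by rw [← P.act_T_ι, e, act_T_ι])

/-- The alternating group on the copy. -/
def alt : Subgroup Iso4 := Om.comap P.T

theorem alt_index : P.alt.index = 2 := by
  rw [alt, Subgroup.index_comap]
  have hd : Om.relIndex P.T.range ∣ 2 := (Subgroup.relIndex_dvd_index_of_normal Om P.T.range).trans (dvd_of_eq om_index)
  rcases (Nat.dvd_prime Nat.prime_two).1 hd with h | h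
  · exfalso
    rw [Subgroup.relIndex_eq_one] at h
    obtain ⟨a, ha⟩ : ∃ a : W4, q4 a = 1 := by decide +kernel
    obtain ⟨r, hr, hR⟩ := exists_refl q4_nd (v := a) (by rw [ha]; decide)
    have hT : IsReflAct (P.ι a) (P.T ⟨r, hr⟩) := fun v => by
      rw [act_T, P.pol_κ v a]
      congr 1
      rw [show act4 ⟨r, hr⟩ (P.κ v) = (r : Matrix Ix4 Ix4 (ZMod 2)) *ᵥ P.κ v from rfl, hR, ha, inv_one, one_mul,
        sub_eq_add_neg, ← neg_smul, CharTwo.neg_eq, add_comm, ← add_assoc, w4_add_self, zero_add, map_smul]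
    exact refl_notMem (by rw [P.iso, ha]) hT (h ⟨_, rfl⟩)
  · exact h

theorem alt_equiv : Nonempty (P.alt ≃* alternatingGroup (Fin 5)) := by
  obtain ⟨e⟩ := CfsgLib.Classical.ExcIsoTwo.iso_minus_two (F := ZMod 2) (ZMod.card 2)
  have h : (P.alt.map e.toMonoidHom).index = 2 := by
    rw [Subgroup.index_map_of_bijective (show Function.Bijective e.toMonoidHom from e.bijective), alt_index]
  rw [← Equiv.Perm.eq_alternatingGroup_of_index_eq_two h]
  exact ⟨P.alt.equivMapOfInjective e.toMonoidHom e.injective⟩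

theorem card_alt : Nat.card P.alt = 60 := by
  obtain ⟨e⟩ := P.alt_equiv
  rw [Nat.card_congr e.toEquiv, nat_card_alternatingGroup, Nat.card_fin]
  rfl

/-- An isometry stabilising the copy. -/
def Stab (g : Iso8) : Prop := ∀ y, ∃ y', act g (P.ι y) = P.ι y'

theorem stab_perp {g : Iso8} (hg : P.Stab g) {v : Vec} (hv : P.Perp v) : P.Perp (act g v) := by
  intro y
  have hinj : Function.Injective fun y => P.κ (act g (P.ι y)) := fun a b e => by
    obtain ⟨a', ha⟩ := hg a
    obtain ⟨b', hb⟩ := hg b
    simp only [ha, hb, κ_ι] at e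
    exact P.ι_injective (act_injective g (by rw [ha, hb, e]))
  obtain ⟨y₀, hy₀⟩ := (Finite.injective_iff_surjective.1 hinj) y
  obtain ⟨y', hy'⟩ := hg y₀
  simp only [hy', κ_ι] at hy₀
  rw [← hy₀, ← hy', pol_act, hv]

/-- The restriction of a stabilising isometry. -/
theorem exists_res {g : Iso8} (hg : P.Stab g) : ∃ h : Iso4, ∀ y, act g (P.ι y) = P.ι (act4 h y) := by
  let f : W4 →ₗ[ZMod 2] W4 := P.κ.comp ((Matrix.toLin' (Fi22Eight.mat g)).comp P.ι)
  have hf : ∀ y, act g (P.ι y) = P.ι (f y) := fun y => by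
    obtain ⟨y', hy'⟩ := hg y
    show _ = P.ι (P.κ (Matrix.toLin' (Fi22Eight.mat g) (P.ι y)))
    rw [toLin'_apply, show Fi22Eight.mat g *ᵥ P.ι y = P.ι y' from hy', κ_ι, hy']
  have hinj : Function.Injective f := fun a b e => P.ι_injective (act_injective g (by rw [hf, hf, e]))
  have hu : IsUnit (LinearMap.toMatrix' f) := by
    rw [← Matrix.mulVec_injective_iff_isUnit]
    intro a b e
    simp only [LinearMap.toMatrix'_mulVec] at e
    exact hinj e
  refine ⟨⟨hu.unit, mem_iso.2 fun x => ?_⟩, fun y => ?_⟩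
  · rw [IsUnit.unit_spec, LinearMap.toMatrix'_mulVec, ← P.iso, ← hf, qf_act, P.iso]
  · rw [hf]
    show _ = P.ι ((hu.unit : Matrix Ix4 Ix4 (ZMod 2)) *ᵥ y)
    rw [IsUnit.unit_spec, LinearMap.toMatrix'_mulVec]

/-- Isometries agreeing on the copy and on its perpendicular space are equal. -/
theorem ext_split {g h : Iso8} (h1 : ∀ y, act g (P.ι y) = act h (P.ι y))
    (h2 : ∀ v, P.Perp v → act g v = act h v) : g = h :=
  iso_ext fun v => by rw [P.split v, act_add g, act_add h, h1, h2 _ (P.perp_sub v)]

/-- An isometry fixing the perpendicular space lies in the image of the extension. -/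
theorem eq_T {g : Iso8} {h : Iso4} (h1 : ∀ y, act g (P.ι y) = P.ι (act4 h y))
    (h2 : ∀ v, P.Perp v → act g v = v) : g = P.T h :=
  P.ext_split (fun y => by rw [h1, act_T_ι]) fun v hv => by rw [h2 v hv, P.act_T_perp h hv]

end Part

end

end CfsgLib.Spor.CoOneType
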