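import Cfsg.Agent.Lib.Invol.JTwo.Setup
import Cfsg.Agent.Lib.Coprime.Action

/-!
# Transfer of the centralizer hypothesis of Hall–Janko type, and perfectness of the centralizer
-/

set_option autoImplicit false

namespace CfsgLib.Spor.CoOneType

open Subgroup CfsgLib.Invol.JTwo

section

variable {S X : Type*} [Group S] [Group X]

/-- The hypothesis pulled back along an injective map containing the centralizer. -/
theorem prehyp_comap (f : S →* X) (hf : Function.Injective f) {s : S} {R : Subgroup X}
    (hr : centralizer ({f s} : Set X) ≤ f.range) (h : PreHyp (f s) R) : PreHyp s (R.comap f) := by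
  have hC : ∀ c : S, c ∈ centralizer ({s} : Set S) ↔ f c ∈ centralizer ({f s} : Set X) := fun c => by
    rw [mem_centralizer_singleton_iff, mem_centralizer_singleton_iff, ← map_mul, ← map_mul, hf.eq_iff]
  have hR : ∀ x ∈ R, ∃ a : S, f a = x := fun x hx => hr (h.le hx)
  refine ⟨?_, fun a ha => (hC a).2 (h.le ha), fun c hc a ha => ?_, ?_, h.zmem, fun a ha c hc => ?_, fun a ha => ?_,
    fun a ha hab => ?_, fun c hc hcc => ?_, ?_⟩
  · rw [← orderOf_injective f hf, h.inv]
  · show f (c * a * c⁻¹) ∈ R
    rw [map_mul, map_mul, map_inv]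
    exact h.nrm _ ((hC c).1 hc) _ ha
  · rw [← h.card]
    exact Nat.card_congr (Equiv.ofBijective (fun a : ↥(R.comap f) => (⟨f a, a.2⟩ : ↥R))
      ⟨fun a c e => Subtype.ext (hf (congrArg Subtype.val e)), fun ⟨x, hx⟩ => by
        obtain ⟨a, rfl⟩ := hR x hx
        exact ⟨⟨a, hx⟩, rfl⟩⟩)
  · rcases h.comm _ ha _ hc with e | e
    · exact Or.inl (hf (by simp only [map_mul, e]))
    · exact Or.inr (hf (by simp only [map_mul, e]))
  · rcases h.sq _ ha with e | e
    · exact Or.inl (hf (by rw [map_mul, e, map_one]))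
    · exact Or.inr (hf (by rw [map_mul, e]))
  · rcases h.cen _ ha (fun x hx => by
      obtain ⟨c, rfl⟩ := hR x hx
      rw [← map_mul, ← map_mul, hab c hx]) with e | e
    · exact Or.inl (hf (by rw [e, map_one]))
    · exact Or.inr (hf e)
  · refine h.self _ ((hC c).1 hc) fun x hx => ?_
    obtain ⟨a, rfl⟩ := hR x hx
    rw [← map_mul, ← map_mul, hcc a hx]
  · obtain ⟨φ, hφ, hker⟩ := h.quot
    let g : ↥(centralizer ({s} : Set S)) →* ↥(centralizer ({f s} : Set X)) :=
      (f.comp (centralizer ({s} : Set S)).subtype).codRestrict _ fun c => (hC c.1).1 c.2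
    have hg : Function.Surjective g := fun x => by
      obtain ⟨a, ha⟩ := hr x.2
      exact ⟨⟨a, (hC a).2 (ha ▸ x.2)⟩, Subtype.ext ha⟩
    exact ⟨φ.comp g, hφ.comp hg, fun c => hker (g c)⟩

theorem alt_five_perfect : commutator ↥(alternatingGroup (Fin 5)) = ⊤ :=
  commutator_alternatingGroup_eq_top (α := Fin 5) (by simp)

/-- The centralizer of the involution is perfect. -/
theorem prehyp_perfect [Finite S] {z : S} {Q : Subgroup S} (h : PreHyp z Q) :
    ⁅centralizer ({z} : Set S), centralizer ({z} : Set S)⁆ = centralizer ({z} : Set S) := by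
  set C := centralizer ({z} : Set S) with hC
  set D := ⁅C, C⁆ with hD
  refine le_antisymm (commutator_le_self C) ?_
  obtain ⟨f, hfC, hf5, hfix⟩ := h.five_elt
  have hQn : zpowers f ≤ normalizer (Q : Set S) := fun g hg => mem_normalizer_iff.2 fun x =>
    ⟨fun hx => h.nrm g ((zpowers_le.2 hfC) hg) x hx, fun hx => by
      have := h.nrm g⁻¹ (inv_mem ((zpowers_le.2 hfC) hg)) _ hx
      simpa [mul_assoc] using this⟩
  have hsup := CfsgLib.Coprime.commutator_sup_centralizer (A := zpowers f) (K := Q) hQn
    (by rw [Nat.card_zpowers, hf5, h.card]; norm_num)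
    (Or.inl (CfsgLib.Coprime.isSolvable_of_isMulCommutative inferInstance))
  have hzD : z ∈ D := by
    obtain ⟨a, ha, c, hc, hne⟩ : ∃ a ∈ Q, ∃ c ∈ Q, a * c ≠ c * a := by
      by_contra hcon
      push Not at hcon
      have hall : ∀ a : Q, (a : S) = 1 ∨ (a : S) = z := fun a => h.cen a a.2 (hcon a a.2)
      classical
      letI := Fintype.ofFinite ↥Q
      have h3 : Fintype.card ↥Q ≤ 2 := by
        refine le_trans (Fintype.card_le_of_injective (fun q : ↥Q => if (q : S) = 1 then (0 : Fin 2) else 1) ?_)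
          (le_of_eq (Fintype.card_fin 2))
        intro a b hab
        rcases hall a with ha | ha <;> rcases hall b with hb | hb <;> simp [ha, hb, h.z_ne] at hab <;>
          exact Subtype.ext (ha.trans hb.symm)
      have := h.card
      rw [Nat.card_eq_fintype_card] at this
      omega
    have e := (h.comm a ha c hc).resolve_left hne
    have : a * c * a⁻¹ * c⁻¹ = z := by rw [e]; group
    rw [← this]
    exact commutator_mem_commutator (h.le ha) (h.le hc)
  have hQD : Q ≤ D := by
    rw [← hsup]
    refine sup_le (Subgroup.commutator_mono h.le (zpowers_le.2 hfC)) ?_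
    rintro q ⟨hq, hqf⟩
    rcases hfix q hq (mem_centralizer_iff.1 hqf f (mem_zpowers f)) with rfl | rfl
    exacts [one_mem _, hzD]
  obtain ⟨φ, hφ, hker⟩ := h.quot
  intro c hc
  have hmem : φ ⟨c, hc⟩ ∈ (commutator ↥C).map φ := by
    rw [_root_.commutator_def, Subgroup.map_commutator, ← MonoidHom.range_eq_map, MonoidHom.range_eq_top.2 hφ,
      ← _root_.commutator_def, alt_five_perfect]
    exact mem_top _
  obtain ⟨d, hd, e⟩ := hmem
  have hdD : (d : S) ∈ D := by
    have h' : (d : S) ∈ (commutator ↥C).map C.subtype := ⟨d, hd, rfl⟩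
    rwa [_root_.commutator_def, Subgroup.map_commutator, ← MonoidHom.range_eq_map, range_subtype] at h'
  have hq : ((d⁻¹ * ⟨c, hc⟩ : ↥C) : S) ∈ Q := (hker _).1 (by rw [map_mul, map_inv, e, inv_mul_cancel])
  have h2 := mul_mem hdD (hQD hq)
  simpa using h2

end

end CfsgLib.Spor.CoOneType
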