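import Cfsg.Agent.Lib.Spor.CoOneType.Cent
import Cfsg.Agent.Lib.Invol.JTwo.Setup

/-!
# The quotient of the centralizer of the element of order five
-/

set_option autoImplicit false

namespace CfsgLib.Spor.CoOneType

open Subgroup CfsgLib.Invol.JTwo

noncomputable section

variable {G : Type*} [Group G]

/-- The element as a member of its centralizer. -/
def bM (b : G) : ↥(centralizer ({b} : Set G)) := ⟨b, mem_centralizer_singleton_iff.2 rfl⟩

/-- The cyclic group as a subgroup of the centralizer. -/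
def Bc (b : G) : Subgroup ↥(centralizer ({b} : Set G)) := zpowers (bM b)

instance bc_normal (b : G) : (Bc b).Normal := by
  refine ⟨fun x hx m => ?_⟩
  obtain ⟨k, rfl⟩ := mem_zpowers_iff.1 hx
  have h : Commute (bM b) m := Subtype.ext (mem_centralizer_singleton_iff.1 m.2).symm
  rw [← (h.zpow_left k).eq, mul_inv_cancel_right]
  exact hx

/-- The quotient. -/
abbrev X (b : G) : Type _ := ↥(centralizer ({b} : Set G)) ⧸ Bc b

/-- The map onto the quotient. -/
def qm (b : G) : ↥(centralizer ({b} : Set G)) →* X b := QuotientGroup.mk' (Bc b)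

theorem mk_eq_one {b : G} (hb5 : orderOf b = 5) {m : ↥(centralizer ({b} : Set G))} :
    qm b m = 1 ↔ ∃ i : ℕ, (m : G) = b ^ i := by
  rw [qm, QuotientGroup.mk'_apply, QuotientGroup.eq_one_iff]
  constructor
  · intro h
    obtain ⟨k, hk⟩ := mem_zpowers_iff.1 h
    refine ⟨(k % 5).toNat, ?_⟩
    rw [← hk]
    show ((bM b : ↥(centralizer ({b} : Set G))) ^ k : ↥(centralizer ({b} : Set G))).1 = _
    rw [SubgroupClass.coe_zpow, ← zpow_natCast, Int.toNat_of_nonneg (Int.emod_nonneg _ (by norm_num)),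
      show ((5 : ℤ)) = ((orderOf b : ℕ) : ℤ) by rw [hb5]; rfl, zpow_mod_orderOf]
    rfl
  · rintro ⟨i, hi⟩
    rw [show m = bM b ^ i from Subtype.ext (by rw [hi, SubgroupClass.coe_pow]; rfl)]
    exact pow_mem (mem_zpowers _) i

theorem eq_of_pow_four {b a c : G} (hb5 : orderOf b = 5) {i : ℕ} (ha : a ^ 4 = 1) (hc : c ^ 4 = 1)
    (hcb : c * b = b * c) (e : a = c * b ^ i) : a = c := by
  have hcomm : Commute c (b ^ i) := (show Commute c b from hcb).pow_right i
  have h4 : b ^ (i * 4) = 1 := by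
    rw [pow_mul]
    have := congrArg (· ^ 4) e
    simp only [ha, hcomm.mul_pow, hc, one_mul] at this
    exact this.symm
  have hd := orderOf_dvd_of_pow_eq_one h4
  rw [hb5] at hd
  obtain ⟨k, hk⟩ := (Nat.Coprime.dvd_of_dvd_mul_right (by norm_num) hd : 5 ∣ i)
  rw [e, hk, pow_mul, ← hb5, pow_orderOf_eq_one, one_pow, mul_one]

namespace Frame

variable {z : G} {Q : Subgroup G} {v : G → Vec} {ρ : G → Iso8} {b : G} {P P' : Part}
  (F : Frame z Q v ρ b P P') [Finite G]
include F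

theorem pow4 {a : G} (ha : a ∈ Q) : a ^ 4 = 1 := by
  rw [show (4 : ℕ) = 2 * 2 from rfl, pow_mul, pow_two a, pow_two]
  rcases F.setup.core.sq_eq a ha with e | e <;> rw [e]
  · rw [one_mul]
  · exact F.setup.zz

theorem z_memM : z ∈ centralizer ({b} : Set G) := F.z_fix.2

/-- The image of the involution. -/
def zX (F : Frame z Q v ρ b P P') : X b := qm b ⟨z, F.z_memM⟩

/-- The image of the fixed part. -/
def RX (_F : Frame z Q v ρ b P P') : Subgroup (X b) :=
  ((fixQ Q b).subgroupOf (centralizer ({b} : Set G))).map (qm b)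

theorem mem_RX {x : X b} : x ∈ F.RX ↔ ∃ a : ↥(centralizer ({b} : Set G)), (a : G) ∈ fixQ Q b ∧ qm b a = x :=
  Iff.rfl

theorem mk_inj {a c : ↥(centralizer ({b} : Set G))} (ha : (a : G) ∈ Q) (hc : (c : G) ∈ Q)
    (e : qm b a = qm b c) : a = c := by
  obtain ⟨i, hi⟩ := (mk_eq_one F.b5).1 (show qm b (c⁻¹ * a) = 1 by rw [map_mul, map_inv, e, inv_mul_cancel])
  refine Subtype.ext (eq_of_pow_four F.b5 (F.pow4 ha) (F.pow4 hc) (mem_centralizer_singleton_iff.1 c.2) (i := i) ?_)
  rw [← hi]; simp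

theorem zX_ne : F.zX ≠ 1 := fun h => F.setup.z_ne
  (congrArg Subtype.val (F.mk_inj (a := ⟨z, F.z_memM⟩) (c := 1) F.setup.core.mem (one_mem _) (h.trans (map_one _).symm)))

theorem zX_order : orderOf F.zX = 2 := by
  haveI : Fact (Nat.Prime 2) := ⟨Nat.prime_two⟩
  refine orderOf_eq_prime ?_ F.zX_ne
  rw [zX, ← map_pow, pow_two]
  exact (congrArg (qm b) (Subtype.ext F.setup.zz)).trans (map_one _)

theorem mem_cent_zX {m : ↥(centralizer ({b} : Set G))} :
    qm b m ∈ centralizer ({F.zX} : Set (X b)) ↔ (m : G) ∈ centralizer ({z} : Set G) := by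
  rw [mem_centralizer_singleton_iff, mem_cz, zX, ← map_mul, ← map_mul]
  constructor
  · intro h
    set zm : ↥(centralizer ({b} : Set G)) := ⟨z, F.z_memM⟩ with hzm
    obtain ⟨i, hi⟩ := (mk_eq_one F.b5).1
      (show qm b (zm⁻¹ * (m * zm * m⁻¹)) = 1 by
        rw [map_mul, map_mul _ (m * zm), h, ← map_mul, map_inv, ← map_inv, ← map_mul]
        exact (congrArg (qm b) (by group)).trans (map_one _))
    have e : (m : G) * z * (m : G)⁻¹ = z * b ^ i := by
      rw [← hi]
      show (m : G) * z * (m : G)⁻¹ = z * (z⁻¹ * ((m : G) * z * (m : G)⁻¹))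
      group
    have h4 : z ^ 4 = 1 := F.pow4 F.setup.core.mem
    have := eq_of_pow_four F.b5 (a := (m : G) * z * (m : G)⁻¹) (c := z) (i := i)
      (by rw [conj_pow, h4, mul_one, mul_inv_cancel]) h4 (mem_centralizer_singleton_iff.1 F.z_memM) e
    exact conj_eq_iff_comm.1 this
  · intro h
    exact congrArg (qm b) (Subtype.ext h)

theorem exists_lift {x : X b} (hx : x ∈ centralizer ({F.zX} : Set (X b))) :
    ∃ m : ↥(centralizer ({b} : Set G)), qm b m = x ∧ (m : G) ∈ F.H := by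
  obtain ⟨m, rfl⟩ := QuotientGroup.mk'_surjective (Bc b) x
  exact ⟨m, rfl, F.mem_cent_zX.1 hx, m.2⟩

/-- The hypothesis in the quotient. -/
theorem prehyp : PreHyp F.zX F.RX := by
  have hzz := F.setup.zz
  refine ⟨F.zX_order, ?_, ?_, ?_, ⟨⟨z, F.z_memM⟩, F.z_fix, rfl⟩, ?_, ?_, ?_, ?_, ?_⟩
  · rintro _ ⟨a, ha, rfl⟩
    exact F.mem_cent_zX.2 (F.setup.le ha.1)
  · intro x hx r hr
    obtain ⟨m, rfl, hm⟩ := F.exists_lift hx
    obtain ⟨a, ha, rfl⟩ := hr
    refine ⟨m * a * m⁻¹, ⟨F.setup.norm hm.1 ha.1, (m * a * m⁻¹).2⟩, by rw [map_mul, map_mul, map_inv]⟩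
  · have hle : (fixQ Q b) ≤ centralizer ({b} : Set G) := inf_le_right
    rw [RX, Nat.card_congr (Equiv.ofBijective (fun a : ↥((fixQ Q b).subgroupOf (centralizer ({b} : Set G))) =>
      (⟨qm b a.1, ⟨a.1, a.2, rfl⟩⟩ : ↥(((fixQ Q b).subgroupOf (centralizer ({b} : Set G))).map (qm b))))
      ⟨fun a c e => Subtype.ext (F.mk_inj a.2.1 c.2.1 (congrArg Subtype.val e)),
        fun ⟨_, a, ha, e⟩ => ⟨⟨a, ha⟩, Subtype.ext e⟩⟩).symm,
      Nat.card_congr (subgroupOfEquivOfLe hle).toEquiv, F.cardR]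
  · rintro _ ⟨a, ha, rfl⟩ _ ⟨c, hc, rfl⟩
    rcases F.setup.core.comm_eq _ ha.1 _ hc.1 with e | e
    · left
      rw [← map_mul, ← map_mul]
      exact congrArg (qm b) (Subtype.ext (mul_inv_eq_iff_eq_mul.1 (mul_inv_eq_one.1 e)))
    · right
      rw [zX, ← map_mul, ← map_mul, ← map_mul]
      refine congrArg (qm b) (Subtype.ext ?_)
      show (a : G) * c = z * ((c : G) * a)
      rw [← e]; simp only [Subgroup.coe_subtype]; group
  · rintro _ ⟨a, ha, rfl⟩
    rcases F.setup.core.sq_eq _ ha.1 with e | e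
    · left; rw [← map_mul]; exact (congrArg (qm b) (Subtype.ext e)).trans (map_one _)
    · right; rw [← map_mul, zX]; exact congrArg (qm b) (Subtype.ext e)
  · rintro _ ⟨a, ha, rfl⟩ hcc
    refine (F.fix_center ha fun c hc => ?_).imp (fun e => ?_) fun e => ?_
    · have h := hcc _ ⟨⟨c, hc.2⟩, hc, rfl⟩
      rw [← map_mul, ← map_mul] at h
      exact congrArg Subtype.val (F.mk_inj (mul_mem ha.1 hc.1) (mul_mem hc.1 ha.1) h)
    · exact (congrArg (qm b) (Subtype.ext e)).trans (map_one _)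
    · exact congrArg (qm b) (Subtype.ext e)
  · intro x hx hcc
    obtain ⟨m, rfl, hm⟩ := F.exists_lift hx
    have hcomm : ∀ a ∈ fixQ Q b, (m : G) * a = a * m := by
      intro a ha
      have h := hcc _ ⟨⟨a, ha.2⟩, ha, rfl⟩
      rw [← mul_inv_eq_iff_eq_mul, ← map_inv, ← map_mul, ← map_mul] at h
      exact conj_eq_iff_comm.1 (congrArg Subtype.val
        (F.mk_inj (c := ⟨a, ha.2⟩) (F.setup.norm hm.1 ha.1) ha.1 h))
    obtain ⟨i, e | e⟩ := F.cent_fix hm hcomm
    · rw [(mk_eq_one F.b5).2 ⟨i, e⟩]; exact one_mem _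
    · refine ⟨⟨z, F.z_memM⟩, F.z_fix, ?_⟩
      rw [← mul_inv_eq_one, ← map_inv, ← map_mul, mk_eq_one F.b5]
      have hzb : Commute z (b ^ i) := (show Commute z b from mem_centralizer_singleton_iff.1 F.z_memM).pow_right i
      have he : z * (m : G)⁻¹ = (b ^ i)⁻¹ := by
        rw [e, mul_inv_rev, ← mul_assoc, hzb.inv_right.eq, mul_inv_cancel_right]
      refine ⟨4 * i, ?_⟩
      show z * (m : G)⁻¹ = _
      rw [he]
      refine inv_eq_of_mul_eq_one_right ?_
      rw [← pow_add, show i + 4 * i = 5 * i by ring, pow_mul, ← F.b5, pow_orderOf_eq_one, one_pow]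
  · let f : ↥F.H →* ↥(centralizer ({F.zX} : Set (X b))) :=
      ((qm b).comp (Subgroup.inclusion (show F.H ≤ centralizer ({b} : Set G) from inf_le_right))).codRestrict _
        fun c => F.mem_cent_zX.2 c.2.1
    have hf : Function.Surjective f := fun x => by
      obtain ⟨m, hm, hmH⟩ := F.exists_lift x.2
      exact ⟨⟨m, hmH⟩, Subtype.ext hm⟩
    have hker : f.ker ≤ F.res.ker := fun c hc => by
      obtain ⟨i, hi⟩ := (mk_eq_one F.b5).1 (congrArg Subtype.val hc)
      exact F.res_apply_one (r := 1) (one_mem _) (show (c : G) = 1 * b ^ i by rw [one_mul]; exact hi)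
    obtain ⟨e⟩ := P.alt_equiv
    let φ₀ : ↥(centralizer ({F.zX} : Set (X b))) →* ↥P.alt := f.liftOfSurjective hf ⟨F.res, hker⟩
    have hφ₀ : ∀ c, φ₀ (f c) = F.res c := fun c => MonoidHom.liftOfRightInverse_comp_apply _ _ _ _ c
    refine ⟨e.toMonoidHom.comp φ₀, e.surjective.comp fun k => ?_, fun x => ?_⟩
    · obtain ⟨c, hc⟩ := F.res_surjective k
      exact ⟨f c, (hφ₀ c).trans hc⟩
    · obtain ⟨c, rfl⟩ := hf x
      rw [MonoidHom.comp_apply, MulEquiv.coe_toMonoidHom, map_eq_one_iff _ e.injective, hφ₀]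
      constructor
      · intro h
        obtain ⟨r, hr, i, hi⟩ := F.res_eq_one h
        refine ⟨⟨r, hr.2⟩, hr, ?_⟩
        show qm b _ = qm b _
        rw [← inv_mul_eq_one, ← map_inv, ← map_mul, mk_eq_one F.b5]
        exact ⟨i, by show r⁻¹ * (c : G) = _; rw [hi, inv_mul_cancel_left]⟩
      · rintro ⟨a, ha, he⟩
        obtain ⟨i, hi⟩ := (mk_eq_one F.b5).1 (show qm b
            (a⁻¹ * Subgroup.inclusion (show F.H ≤ centralizer ({b} : Set G) from inf_le_right) c) = 1 by
          rw [map_mul, map_inv, inv_mul_eq_one]; exact he)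
        replace hi : (a : G)⁻¹ * (c : G) = b ^ i := hi
        exact F.res_apply_one (r := (a : G)) ha.1 (by rw [← hi, mul_inv_cancel_left])

end Frame

end

end CfsgLib.Spor.CoOneType
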