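import Cfsg.Agent.Lib.Spor.CoOneType.Layer
import Cfsg.Agent.Lib.Invol.JTwo.Bridge
import Cfsg.Agent.Lib.PGroup.CharPLocal

/-!
# A simple section of Hall–Janko type in a central extension of a group of Conway type
-/

set_option autoImplicit false

namespace CfsgLib.Spor.CoOneType

open Subgroup CfsgLib.Invol.JTwo Matrix

noncomputable section

/-- A four-space of minus type inside the eight-space. -/
def partA : Part where
  ι :=
    { toFun := fun x => Sum.elim ![x (.inl (.inl 0)), x (.inr 0), x (.inr 1), 0]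
        ![x (.inl (.inr 0)), x (.inr 0) + x (.inr 1), x (.inr 1), 0]
      map_add' := by decide +kernel
      map_smul' := by decide +kernel }
  iso := by decide +kernel

/-- Its perpendicular space. -/
def partB : Part where
  ι :=
    { toFun := fun x => Sum.elim ![0, x (.inr 0), x (.inr 0) + x (.inr 1), x (.inl (.inl 0))]
        ![0, x (.inr 0), x (.inr 1), x (.inl (.inr 0))]
      map_add' := by decide +kernel
      map_smul' := by decide +kernel }
  iso := by decide +kernel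

theorem partA_cover : ∀ v : Vec, partA.κ v = 0 → v = partB.ι (partB.κ v) := by decide +kernel

theorem partA_perp : ∀ y : W4, partA.κ (partB.ι y) = 0 := by decide +kernel

/-- An isometry of order five with fixed space of minus type. -/
theorem exists_beta : ∃ β ∈ Om, β ^ 5 = 1 ∧ β ≠ 1 ∧ ∀ v, act β v = v ↔ ∃ y, v = partB.ι y := by
  haveI : Fact (Nat.Prime 5) := ⟨Nat.prime_five⟩
  obtain ⟨k, hk⟩ := exists_prime_orderOf_dvd_card' (G := ↥partA.alt) 5 (by rw [partA.card_alt]; norm_num)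
  have hk5 : (k : Iso4) ^ 5 = 1 := by
    rw [← SubgroupClass.coe_pow, ← hk, pow_orderOf_eq_one]; rfl
  have hk1 : (k : Iso4) ≠ 1 := fun e => by
    rw [show k = 1 from Subtype.ext e, orderOf_one] at hk
    omega
  let f : W4 →+ W4 := AddMonoidHom.mk' (fun y => act4 (k : Iso4) y) (act4_add _)
  have hf : ∀ m x, f^[m] x = act4 ((k : Iso4) ^ m) x := by
    intro m x
    induction m with
    | zero => rw [pow_zero, act4_one]; rfl
    | succ m ih => rw [Function.iterate_succ_apply', ih, pow_succ', act4_mul]; rfl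
  obtain ⟨-, hfree⟩ := five_free f (fun x => by rw [hf, hk5, act4_one])
    (by rw [Nat.card_eq_fintype_card, Fintype.card_fun]; decide) (by
      by_contra hcon
      push Not at hcon
      exact hk1 (iso4_ext fun y => by rw [act4_one]; exact hcon y))
  refine ⟨partA.T k, k.2, by rw [← map_pow, hk5, map_one], fun e => hk1 (partA.T_injective (e.trans (map_one _).symm)),
    fun v => ⟨fun h => ?_, ?_⟩⟩
  · have h' := congrArg partA.κ h
    rw [show act (partA.T k) v = partA.ext k v from by rw [partA.act_T]; rfl, Part.κ_ext] at h'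
    exact ⟨_, partA_cover v (hfree _ h')⟩
  · rintro ⟨y, rfl⟩
    exact partA.act_T_perp _ ((partA.perp_iff _).2 (partA_perp y))

variable {G : Type*} [Group G] [Finite G] {z : G} {Q : Subgroup G} {v : G → Vec} {ρ : G → Iso8}

theorem Setup.pow_four (S : Setup z Q v ρ) {a : G} (ha : a ∈ Q) : a ^ 4 = 1 := by
  rw [show (4 : ℕ) = 2 * 2 from rfl, pow_mul, pow_two a, pow_two]
  rcases S.core.sq_eq a ha with e | e <;> rw [e]
  · rw [one_mul]
  · exact S.zz

/-- An element of order five with the required fixed part exists. -/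
theorem Setup.exists_five (S : Setup z Q v ρ) : ∃ b P P', Frame z Q v ρ b P P' := by
  obtain ⟨β, hβ, hβ5, hβ1, hfix⟩ := exists_beta
  obtain ⟨c, hc, e⟩ := S.ρ_surj β hβ
  have hb5 : orderOf (c ^ 16) = 5 := by
    haveI : Fact (Nat.Prime 5) := ⟨Nat.prime_five⟩
    have hQ : c ^ 5 ∈ Q := (S.ρ_ker _ (pow_mem hc 5)).1 (by rw [S.ρ_pow hc, e, hβ5])
    refine orderOf_eq_prime ?_ fun h => hβ1 ?_
    · rw [← pow_mul, show 16 * 5 = 5 * 4 * 4 by norm_num, pow_mul, pow_mul, S.pow_four hQ, one_pow]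
    · have := congrArg ρ h
      rw [S.ρ_pow hc, e, S.ρ_one, show (16 : ℕ) = 5 * 3 + 1 from rfl, pow_succ, pow_mul, hβ5, one_pow, one_mul] at this
      exact this
  have hρ : ρ (c ^ 16) = β := by
    rw [S.ρ_pow hc, e, show (16 : ℕ) = 5 * 3 + 1 from rfl, pow_succ, pow_mul, hβ5, one_pow, one_mul]
  set b := c ^ 16
  have hbC : b ∈ centralizer ({z} : Set G) := pow_mem hc 16
  obtain ⟨P', hP'⟩ := exists_partner hβ5 hfix
  refine ⟨b, partB, P', S, hbC, hb5, hρ ▸ hP', ?_⟩
  have hmem : ∀ a ∈ Q, (a ∈ fixQ Q b ↔ ∃ y, v a = partB.ι y) := fun a ha => by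
    rw [← hfix, ← hρ, ← fixed_iff S hbC hb5 ha]
    exact ⟨fun h => (mem_centralizer_singleton_iff.1 h.2).symm,
      fun h => ⟨ha, mem_centralizer_singleton_iff.2 h.symm⟩⟩
  let f : ↥(fixQ Q b) →* Multiplicative W4 :=
    MonoidHom.mk' (fun q => Multiplicative.ofAdd (partB.κ (v q))) fun p q => by
      show _ = Multiplicative.ofAdd _
      rw [Subgroup.coe_mul, S.v_mul _ p.2.1 _ q.2.1, map_add]
      rfl
  have hsurj : Function.Surjective f := fun y => by
    obtain ⟨q, hq, e⟩ := S.v_surj (partB.ι (Multiplicative.toAdd y))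
    refine ⟨⟨q, (hmem q hq).2 ⟨_, e⟩⟩, ?_⟩
    show Multiplicative.ofAdd (partB.κ (v q)) = y
    rw [e, Part.κ_ι]; rfl
  have hker : Nat.card f.ker = 2 := by
    have hz : (⟨z, (hmem z S.core.mem).2 ⟨0, by rw [S.v_z, map_zero]⟩⟩ : ↥(fixQ Q b)) ∈ f.ker := by
      show Multiplicative.ofAdd (partB.κ (v z)) = 1
      rw [S.v_z, map_zero]; rfl
    refine (Nat.card_eq_two_iff' (1 : f.ker)).2 ⟨⟨_, hz⟩,
      fun e => S.z_ne (congrArg (fun q : f.ker => ((q : ↥(fixQ Q b)) : G)) e), fun q hq => ?_⟩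
    obtain ⟨y, hy⟩ := (hmem _ q.1.2.1).1 q.1.2
    have h0 : Multiplicative.ofAdd (partB.κ (v (q.1 : G))) = 1 := q.2
    rw [hy, Part.κ_ι] at h0
    rw [show y = 0 from Multiplicative.ofAdd.injective h0, map_zero] at hy
    rcases (S.v_ker _ q.1.2.1).1 hy with h | h
    · exact absurd (Subtype.ext (Subtype.ext h)) hq
    · exact Subtype.ext (Subtype.ext h)
  rw [← f.ker.card_mul_index, hker, Subgroup.index_ker, MonoidHom.range_eq_top.2 hsurj, Subgroup.card_top,
    Nat.card_congr Multiplicative.toAdd, Nat.card_eq_fintype_card, Fintype.card_fun]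
  rfl

/-- The Prelude form of the centralizer hypothesis. -/
theorem large_of_prehyp {S : Type} [Group S] [Finite S] {z : S} {Q : Subgroup S} (h : PreHyp z Q) :
    ∃ (Q' : Subgroup (centralizer ({z} : Set S))) (_ : Q'.Normal),
      Cfsg.generalizedFittingSubgroup (centralizer ({z} : Set S)) = Q' ∧ Cfsg.IsExtraspecial 2 Q' ∧
      Nat.card Q' = 2 ^ 5 ∧ Nonempty ((centralizer ({z} : Set S)) ⧸ Q' ≃*
        Cfsg.Omega (ZMod 2) (Cfsg.quadFormMinus 1 (ZMod 2) 1 1)) ∧ Q' = Q.subgroupOf (centralizer ({z} : Set S)) := by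
  haveI : Fact (Nat.Prime 2) := ⟨Nat.prime_two⟩
  set Q' := Q.subgroupOf (centralizer ({z} : Set S)) with hQ'
  obtain ⟨φ, hφ, hker⟩ := h.quot
  have hk : φ.ker = Q' := by ext c; exact hker c
  haveI hN : Q'.Normal := hk ▸ φ.normal_ker
  obtain ⟨eO⟩ := omega_equiv
  have hcard : Nat.card Q' = 2 ^ 5 := by
    rw [Nat.card_congr (subgroupOfEquivOfLe h.le).toEquiv, h.card]; norm_num
  have hQ2 : IsPGroup 2 Q' := IsPGroup.of_card hcard
  have hle : Q' ≤ Cfsg.pCore 2 ↥(centralizer ({z} : Set S)) := CfsgLib.Coprime.le_pCore hQ2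
  have hcore : Cfsg.pCore 2 ↥(centralizer ({z} : Set S)) ≤ Q' := by
    haveI hn := CfsgLib.Coprime.pCore_normal' (G := ↥(centralizer ({z} : Set S))) 2
    haveI : ((Cfsg.pCore 2 ↥(centralizer ({z} : Set S))).map φ).Normal := hn.map φ hφ
    haveI := alternatingGroup.isSimpleGroup (α := Fin 5) (by simp)
    rcases (inferInstance : ((Cfsg.pCore 2 ↥(centralizer ({z} : Set S))).map φ).Normal).eq_bot_or_eq_top with e | e
    · rwa [Subgroup.map_eq_bot_iff, hk] at e
    · exfalso
      have hp := (CfsgLib.Coprime.pCore_isPGroup (G := ↥(centralizer ({z} : Set S))) 2).map φ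
      rw [e] at hp
      obtain ⟨m, hm⟩ := hp.exists_card_eq
      rw [Subgroup.card_top, nat_card_alternatingGroup, Nat.card_fin] at hm
      have h3 : 3 ∣ 2 ^ m := hm ▸ (by decide)
      exact absurd (Nat.prime_three.dvd_of_dvd_pow h3) (by norm_num)
  have heq : Cfsg.pCore 2 ↥(centralizer ({z} : Set S)) = Q' := le_antisymm hcore hle
  refine ⟨Q', hN, ?_, ?_, hcard, ⟨((QuotientGroup.quotientMulEquivOfEq hk.symm).trans
    (QuotientGroup.quotientKerEquivOfSurjective φ hφ)).trans eO.symm⟩, rfl⟩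
  · rw [← heq]
    refine CfsgLib.CharPLoc.fStar_eq_pCore_iff.2 (CfsgLib.Invol.pClean_of_centralizer_le fun c hc => ?_)
    rw [heq] at hc ⊢
    exact h.self c c.2 fun a ha => (congrArg Subtype.val (mem_centralizer_iff.1 hc ⟨a, h.le ha⟩ ha)).symm
  · have hz' : (⟨z, h.z_mem_C⟩ : ↥(centralizer ({z} : Set S))) ∈ Q' := h.zmem
    have hzp : ∀ a : ↥(centralizer ({z} : Set S)), ((a : S) = 1 ∨ (a : S) = z) →
        a ∈ zpowers (⟨z, h.z_mem_C⟩ : ↥(centralizer ({z} : Set S))) := by
      intro a ha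
      rcases ha with e | e
      · rw [show a = 1 from Subtype.ext e]; exact one_mem _
      · rw [show a = ⟨z, h.z_mem_C⟩ from Subtype.ext e]; exact mem_zpowers _
    refine CfsgLib.SympPairs.isExtraspecial_of_data (z := (⟨z, h.z_mem_C⟩ : ↥(centralizer ({z} : Set S)))) Q' hQ2
      ⟨Subtype.ext (by rw [SubgroupClass.coe_pow, pow_two]; exact h.zz), fun e => h.z_ne (congrArg Subtype.val e),
        hz', fun q => Subtype.ext (mem_centralizer_singleton_iff.1 q.2), ?_⟩ ?_ ?_ ?_
    · intro a ha c hc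
      refine hzp _ ?_
      rcases h.comm a ha c hc with e | e
      · left
        show (a : S) * c * (a : S)⁻¹ * (c : S)⁻¹ = 1
        rw [e]; group
      · right
        show (a : S) * c * (a : S)⁻¹ * (c : S)⁻¹ = z
        rw [e]; group
    · intro a ha
      refine hzp _ ?_
      rw [SubgroupClass.coe_pow, pow_two]
      exact h.sq a ha
    · intro a ha hac
      exact hzp _ (h.cen a ha fun q hq =>
        (congrArg Subtype.val (mem_centralizer_iff.1 hac ⟨q, h.le hq⟩ hq)).symm)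
    · by_contra hcon
      push Not at hcon
      have hall : ∀ a : Q, (a : S) = 1 ∨ (a : S) = z := fun a => h.cen a a.2 fun c hc =>
        congrArg Subtype.val (commutatorElement_eq_one_iff_mul_comm.1
          (hcon ⟨a, h.le a.2⟩ a.2 ⟨c, h.le hc⟩ hc))
      classical
      letI := Fintype.ofFinite ↥Q
      have h3 : Fintype.card ↥Q ≤ 2 := by
        refine le_trans (Fintype.card_le_of_injective (fun q : ↥Q => if (q : S) = 1 then (0 : Fin 2) else 1) ?_)
          (le_of_eq (Fintype.card_fin 2))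
        intro a b hab
        rcases hall a with ha | ha <;> rcases hall b with hb | hb <;> simp [ha, hb, h.z_ne] at hab <;>
          exact Subtype.ext (ha.trans hb.symm)
      have := h.card
      rw [Nat.card_eq_fintype_card] at this
      omega

/-- The section. -/
theorem j2_section {G₀ : Type} [Group G₀] [Finite G₀] (hZc : Nat.card (center G₀) = 2)
    {z : G₀ ⧸ center G₀} {Q : Subgroup (G₀ ⧸ center G₀)} {v : (G₀ ⧸ center G₀) → Vec}
    {ρ : (G₀ ⧸ center G₀) → Iso8} (S : Setup z Q v ρ)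
    {g : G₀ ⧸ center G₀} (hgQ : g * z * g⁻¹ ∈ Q) (hgne : g * z * g⁻¹ ≠ z) :
    ∃ A : Subgroup G₀, Nat.card A = 5 ∧
      ∃ (hn : ((A ⊔ center G₀).subgroupOf (centralizer (A : Set G₀))).Normal),
      ∃ (S : Type) (_ : Group S) (_ : Finite S),
        Nonempty (S ≃* ↥(centralizer (A : Set G₀)) ⧸ (A ⊔ center G₀).subgroupOf (centralizer (A : Set G₀))) ∧
        IsSimpleGroup S ∧ ¬ IsMulCommutative S ∧
        ∃ z : S, orderOf z = 2 ∧ ∃ (Q : Subgroup (centralizer ({z} : Set S))) (_ : Q.Normal),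
          Cfsg.generalizedFittingSubgroup (centralizer ({z} : Set S)) = Q ∧ Cfsg.IsExtraspecial 2 Q ∧
          Nat.card Q = 2 ^ 5 ∧ Nonempty ((centralizer ({z} : Set S)) ⧸ Q ≃*
            Cfsg.Omega (ZMod 2) (Cfsg.quadFormMinus 1 (ZMod 2) 1 1)) ∧
          ∃ g : S, (∃ hq : g * z * g⁻¹ ∈ centralizer ({z} : Set S),
            (⟨g * z * g⁻¹, hq⟩ : centralizer ({z} : Set S)) ∈ Q) ∧ g * z * g⁻¹ ≠ z := by
  obtain ⟨b, P, P', F⟩ := S.exists_five
  obtain ⟨n, W⟩ := F.exists_swap hgQ hgne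
  obtain ⟨x, hx⟩ := QuotientGroup.mk'_surjective (center G₀) b
  let π : G₀ →* G₀ ⧸ center G₀ := QuotientGroup.mk' (center G₀)
  have hker : ∀ y, π y = 1 ↔ y ∈ center G₀ := fun y => by rw [← MonoidHom.mem_ker, QuotientGroup.ker_mk']
  have hc2 : ∀ y ∈ center G₀, y ^ 2 = 1 := fun y hy => by
    have := pow_card_eq_one' (x := (⟨y, hy⟩ : center G₀))
    rw [hZc] at this
    exact congrArg Subtype.val this
  have hx10 : x ^ 10 = 1 := by
    rw [show (10 : ℕ) = 5 * 2 from rfl, pow_mul]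
    refine hc2 _ ((hker _).1 ?_)
    rw [map_pow, show π x = b from hx, ← F.b5, pow_orderOf_eq_one]
  set a := x ^ 6 with ha
  have hπa : π a = b := by
    rw [ha, map_pow, show π x = b from hx, show (6 : ℕ) = 5 + 1 from rfl, pow_succ, ← F.b5, pow_orderOf_eq_one,
      one_mul]
  have ha5 : a ^ 5 = 1 := by rw [ha, ← pow_mul, show 6 * 5 = 10 * 3 from rfl, pow_mul, hx10, one_pow]
  have hao : orderOf a = 5 := by
    haveI : Fact (Nat.Prime 5) := ⟨Nat.prime_five⟩
    refine orderOf_eq_prime ha5 fun e => ?_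
    have h5 := F.b5
    rw [← hπa, e, map_one, orderOf_one] at h5
    omega
  refine ⟨zpowers a, by rw [Nat.card_zpowers, hao], ?_⟩
  have hcent : ∀ y ∈ centralizer ((zpowers a : Subgroup G₀) : Set G₀), π y ∈ centralizer ({b} : Set _) := fun y hy =>
    mem_centralizer_singleton_iff.2 (by
      rw [← hπa, ← map_mul, ← map_mul, mem_centralizer_iff.1 hy a (mem_zpowers a)])
  let τ : ↥(centralizer ((zpowers a : Subgroup G₀) : Set G₀)) →* X b :=
    (qm b).comp ((π.comp (centralizer ((zpowers a : Subgroup G₀) : Set G₀)).subtype).codRestrict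
      (centralizer ({b} : Set _)) fun y => hcent y y.2)
  have hτ : Function.Surjective τ := by
    intro w
    obtain ⟨m, rfl⟩ := QuotientGroup.mk'_surjective (Bc b) w
    obtain ⟨y, hy⟩ := QuotientGroup.mk'_surjective (center G₀) (m : G₀ ⧸ center G₀)
    have hd : a⁻¹ * (y * a * y⁻¹) ∈ center G₀ := (hker _).1 (by
      rw [map_mul, map_mul, map_mul, map_inv, map_inv, hπa, show π y = (m : G₀ ⧸ center G₀) from hy,
        mem_centralizer_singleton_iff.1 m.2, mul_inv_cancel_right, inv_mul_cancel])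
    have hd1 : (a⁻¹ * (y * a * y⁻¹)) ^ 5 = 1 := by
      have hcomm : Commute a⁻¹ (y * a * y⁻¹) := by
        have h' : Commute a⁻¹ (a * (a⁻¹ * (y * a * y⁻¹))) := by
          refine ((Commute.refl a).inv_left.mul_right ?_)
          exact (mem_center_iff.1 hd a⁻¹)
        simpa using h'
      rw [hcomm.mul_pow, inv_pow, conj_pow, ha5]; group
    have hd0 : a⁻¹ * (y * a * y⁻¹) = 1 := by
      have h2 := hc2 _ hd
      rwa [show (5 : ℕ) = 2 * 2 + 1 from rfl, pow_succ, pow_mul, h2, one_pow, one_mul] at hd1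
    have hyc : y ∈ centralizer ((zpowers a : Subgroup G₀) : Set G₀) := by
      rw [zpowers_eq_closure, centralizer_closure]
      exact mem_centralizer_singleton_iff.2 (conj_eq_iff_comm.1 (inv_mul_eq_one.1 hd0).symm)
    exact ⟨⟨y, hyc⟩, congrArg (qm b) (Subtype.ext hy)⟩
  have hbot : (zpowers a ⊔ center G₀).subgroupOf (centralizer ((zpowers a : Subgroup G₀) : Set G₀)) = τ.ker := by
    ext y
    rw [mem_subgroupOf, MonoidHom.mem_ker]
    show _ ↔ qm b _ = 1
    rw [mk_eq_one F.b5]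
    constructor
    · intro hy
      obtain ⟨p, hp, q, hq, e⟩ := mem_sup_of_normal_right.1 hy
      obtain ⟨k, rfl⟩ := (mem_powers_iff_mem_zpowers).2 hp
      refine ⟨k, ?_⟩
      show π (y : G₀) = b ^ k
      rw [← e, map_mul, (hker q).2 hq, mul_one]
      show π (a ^ k) = _
      rw [map_pow, hπa]
    · rintro ⟨k, hk⟩
      replace hk : π (y : G₀) = b ^ k := hk
      rw [← mul_inv_cancel_left (a ^ k) (y : G₀)]
      refine mul_mem (mem_sup_left (pow_mem (mem_zpowers a) k)) (mem_sup_right ((hker _).1 ?_))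
      rw [map_mul, map_inv, map_pow, hπa, hk, inv_mul_cancel]
  have hn : ((zpowers a ⊔ center G₀).subgroupOf (centralizer ((zpowers a : Subgroup G₀) : Set G₀))).Normal := by
    rw [hbot]; exact τ.normal_ker
  refine ⟨hn, X b, inferInstance, inferInstance,
    ⟨((QuotientGroup.quotientMulEquivOfEq hbot).trans (QuotientGroup.quotientKerEquivOfSurjective τ hτ)).symm⟩, ?_⟩
  obtain ⟨eJ⟩ := W.quot_iso
  haveI := CfsgLib.Char.J2.isSimpleGroup_J2
  refine ⟨eJ.isSimpleGroup, fun hcom => ?_, W.frame.zX, W.frame.zX_order, ?_⟩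
  · obtain ⟨p, q, hpq⟩ := CfsgLib.Char.J2.exists_not_commute
    refine hpq (eJ.symm.injective ?_)
    rw [map_mul, map_mul]
    exact hcom.is_comm.comm _ _
  · have hh := W.hyp_quot
    obtain ⟨Q', hN, hF, hE, hc, he, hQe⟩ := large_of_prehyp hh.toPreHyp
    refine ⟨Q', hN, hF, hE, hc, he, ?_⟩
    obtain ⟨a', ha', hne, hconj⟩ := hh.nwc
    obtain ⟨k, hk⟩ := isConj_iff.1 hconj
    refine ⟨k, ⟨hk ▸ hh.le ha', ?_⟩, hk ▸ hne⟩
    rw [hQe, mem_subgroupOf]
    exact hk ▸ ha'

end

end CfsgLib.Spor.CoOneType
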