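import Cfsg.Agent.Lib.Spor.ExtraspecialOut
import Cfsg.Agent.Lib.Spor.Fi22Eight.Reflect
import Cfsg.Agent.Lib.Spor.LargeExtraQuotient
import Cfsg.Agent.Lib.Perm.Trans.QuadOmega
import Cfsg.Agent.Lib.Coprime.Component

/-!
# Groups of Conway type: coordinates on the extraspecial subgroup of order 512
-/

set_option autoImplicit false

namespace CfsgLib.Spor.CoOneType

open Subgroup Matrix Cfsg.Geo CfsgLib.PGroup CfsgLib.Perm.Trans.Quad CfsgLib.Spor.ExtraOut
open scoped commutatorElement

noncomputable section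

/-- The vectors. -/
abbrev Vec : Type := Fi22Eight.Vec

/-- The quadratic form. -/
abbrev qf : Vec → ZMod 2 := Fi22Eight.qf

/-- The isometries. -/
abbrev Iso8 := Cfsg.isometryGroup (ZMod 2) qf

/-- The simple subgroup. -/
abbrev Om : Subgroup Iso8 := Cfsg.Omega (ZMod 2) qf

/-- The action on vectors. -/
def act (g : Iso8) (x : Vec) : Vec := Fi22Eight.mat g *ᵥ x

theorem act_one (x : Vec) : act 1 x = x := one_mulVec x

theorem act_mul (g h : Iso8) (x : Vec) : act (g * h) x = act g (act h x) := (mulVec_mulVec x _ _).symm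

theorem act_add (g : Iso8) (x y : Vec) : act g (x + y) = act g x + act g y := mulVec_add _ _ _

theorem act_zero (g : Iso8) : act g 0 = 0 := mulVec_zero _

theorem act_injective (g : Iso8) : Function.Injective (act g) := fun x y h => by
  have := congrArg (act g⁻¹) h
  rwa [← act_mul, ← act_mul, inv_mul_cancel, act_one, act_one] at this

theorem qf_act (g : Iso8) (x : Vec) : qf (act g x) = qf x := mem_iso.1 g.2 x

theorem pol_act (g : Iso8) (x y : Vec) :
    QuadraticMap.polar qf (act g x) (act g y) = QuadraticMap.polar qf x y := iso_pol g.2 x y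

theorem iso_ext {g h : Iso8} (H : ∀ x, act g x = act h x) : g = h :=
  Subtype.ext (Units.ext (Matrix.ext_of_mulVec_single fun j => H _))

variable {G : Type*} [Group G]

/-- A group of Conway type with coordinates on the extraspecial subgroup. -/
structure Setup (z : G) (Q : Subgroup G) (v : G → Vec) (ρ : G → Iso8) : Prop where
  core : LargeQ.Core Q z
  card : Nat.card Q = 512
  v_mul : ∀ a ∈ Q, ∀ b ∈ Q, v (a * b) = v a + v b
  v_ker : ∀ a ∈ Q, (v a = 0 ↔ a = 1 ∨ a = z)
  v_surj : ∀ w, ∃ a ∈ Q, v a = w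
  v_sq : ∀ a ∈ Q, (qf (v a) = 0 ↔ a * a = 1)
  v_comm : ∀ a ∈ Q, ∀ b ∈ Q, (QuadraticMap.polar qf (v a) (v b) = 0 ↔ a * b = b * a)
  ρ_mul : ∀ a ∈ centralizer ({z} : Set G), ∀ b ∈ centralizer ({z} : Set G), ρ (a * b) = ρ a * ρ b
  ρ_act : ∀ c ∈ centralizer ({z} : Set G), ∀ a ∈ Q, v (c * a * c⁻¹) = act (ρ c) (v a)
  ρ_ker : ∀ c ∈ centralizer ({z} : Set G), (ρ c = 1 ↔ c ∈ Q)
  ρ_mem : ∀ c ∈ centralizer ({z} : Set G), ρ c ∈ Om
  ρ_surj : ∀ g ∈ Om, ∃ c ∈ centralizer ({z} : Set G), ρ c = g

theorem two_cases : ∀ x : ZMod 2, x = 0 ∨ x = 1 := by decide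

theorem minus_aniso : ∀ z₁ z₂ : ZMod 2, z₁ ^ 2 + 1 * z₁ * z₂ + 1 * z₂ ^ 2 = 0 → z₁ = 0 ∧ z₂ = 0 := by decide

theorem om_perfect : commutator Om = ⊤ := by
  haveI := Fi22Eight.om_simple
  rcases (inferInstance : (commutator ↥Om).Normal).eq_bot_or_eq_top with h | h
  · exfalso
    have hc : Subgroup.center ↥Om = ⊤ := by
      refine eq_top_iff.2 fun x _ => mem_center_iff.2 fun y => ?_
      have : ⁅y, x⁆ ∈ commutator ↥Om := by
        rw [_root_.commutator_def]; exact commutator_mem_commutator (mem_top _) (mem_top _)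
      rw [h, mem_bot] at this
      exact commutatorElement_eq_one_iff_mul_comm.1 this
    have h2 := Fi22Eight.center_om
    rw [hc] at h2
    have h3 : Nat.card ↥Om = 1 := by rw [← Nat.card_congr Subgroup.topEquiv.toEquiv, h2, card_bot]
    rw [Fi22Eight.card_om] at h3
    omega
  · exact h

/-- The action on an extraspecial normal subgroup containing its centralizer. -/
theorem coord_exists {ι : Type} [Fintype ι] [DecidableEq ι] {B : Matrix ι ι (ZMod 2)} (hB : Nondeg B)
    {Qf : (ι → (ZMod 2)) → (ZMod 2)} (hQf : ∀ v, Qf v = bl B v v) {C : Type*} [Group C] (Q : Subgroup C) [Q.Normal]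
    (φ : Q ≃* Model B) (hself : centralizer (Q : Set C) ≤ Q) :
    ∃ r : C →* Cfsg.isometryGroup (ZMod 2) Qf, (∀ c, r c = 1 ↔ c ∈ Q) ∧
      ∀ (c : C) (a : Q), (φ (MulAut.conjNormal c a)).v = ((r c : GL ι (ZMod 2)) : Matrix ι ι (ZMod 2)) *ᵥ (φ a).v := by
  refine ⟨(toIso hB hQf).comp ((MulAut.congr φ).toMonoidHom.comp MulAut.conjNormal), fun c => ?_, fun c a => ?_⟩
  · rw [← MonoidHom.mem_ker, MonoidHom.mem_ker, MonoidHom.comp_apply, ← MonoidHom.mem_ker, ker_toIso hB hQf]
    constructor
    · rintro ⟨m, hm⟩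
      set b : Q := φ.symm m with hb
      have key : ∀ a : Q, MulAut.conjNormal c a = b * a * b⁻¹ := fun a => by
        have h1 := congrArg (fun f : MulAut (Model B) => f (φ a)) hm
        simp only [MonoidHom.comp_apply, MulEquiv.coe_toMonoidHom] at h1
        have h2 : φ (MulAut.conjNormal c a) = m * φ a * m⁻¹ := by simpa [MulAut.congr] using h1.symm
        apply φ.injective
        rw [h2, map_mul, map_mul, map_inv, hb, φ.apply_symm_apply]
      have hmem : (b : C)⁻¹ * c ∈ centralizer (Q : Set C) := mem_centralizer_iff.2 fun a ha => by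
        have h1 := congrArg Subtype.val (key ⟨a, ha⟩)
        rw [MulAut.conjNormal_apply] at h1
        simp only [Subgroup.coe_mul, Subgroup.coe_inv] at h1
        calc a * ((b : C)⁻¹ * c) = (b : C)⁻¹ * ((b : C) * a * (b : C)⁻¹) * c := by group
          _ = (b : C)⁻¹ * (c * a * c⁻¹) * c := by rw [h1]
          _ = _ := by group
      simpa [mul_assoc] using mul_mem b.2 (hself hmem)
    · intro hc
      refine ⟨φ ⟨c, hc⟩, MulEquiv.ext fun x => ?_⟩
      obtain ⟨a, rfl⟩ := φ.surjective x
      simp only [MonoidHom.comp_apply, MulEquiv.coe_toMonoidHom]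
      show φ ⟨c, hc⟩ * φ a * (φ ⟨c, hc⟩)⁻¹ = φ (MulAut.conjNormal c (φ.symm (φ a)))
      rw [φ.symm_apply_apply, ← map_inv, ← map_mul, ← map_mul]
      exact congrArg φ (Subtype.ext (by simp [MulAut.conjNormal_apply]))
  · have h := matHom_mulVec hB (MulAut.congr φ (MulAut.conjNormal c)) (φ a).v
    rw [← aut_v hB] at h
    refine Eq.trans ?_ h.symm
    show (φ (MulAut.conjNormal c a)).v = (φ (MulAut.conjNormal c (φ.symm (φ a)))).v
    rw [φ.symm_apply_apply]

theorem polar_bl {ι : Type} [Fintype ι] [DecidableEq ι] {B : Matrix ι ι (ZMod 2)} {Qf : (ι → (ZMod 2)) → (ZMod 2)}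
    (hQf : ∀ v, Qf v = bl B v v) (u w : ι → (ZMod 2)) : QuadraticMap.polar Qf u w = bl B u w + bl B w u := by
  simp only [QuadraticMap.polar, hQf, bl_add_left, bl_add_right]
  ring

/-- The coordinates exist. -/
theorem exists_setup [Finite G] (z : G) (hz : orderOf z = 2) (Q : Subgroup (centralizer ({z} : Set G))) [Q.Normal]
    (hF : Cfsg.generalizedFittingSubgroup (centralizer ({z} : Set G)) = Q) (hQ : Cfsg.IsExtraspecial 2 Q)
    (hcard : Nat.card Q = 2 ^ 9)
    (e : (centralizer ({z} : Set G)) ⧸ Q ≃* Cfsg.Omega (ZMod 2) (Cfsg.quadFormPlus 4 (ZMod 2))) :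
    ∃ (v : G → Vec) (ρ : G → Iso8), Setup z ((Q.map (centralizer ({z} : Set G)).subtype)) v ρ := by
  classical
  haveI : Fact (Nat.Prime 2) := ⟨Nat.prime_two⟩
  have hzz : z * z = 1 := by rw [← pow_two, ← hz, pow_orderOf_eq_one]
  have hz1 : z ≠ 1 := fun h => by rw [h, orderOf_one] at hz; omega
  have hself : centralizer (Q : Set (centralizer ({z} : Set G))) ≤ Q := by
    rw [← hF]; exact CfsgLib.Coprime.centralizer_generalizedFitting_le
  have hcore : LargeQ.Core ((Q.map (centralizer ({z} : Set G)).subtype)) z := by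
    refine LargeQ.core_of_fitting z hz _ (by rw [hF]) ?_
    exact CfsgLib.Spor.Affine.isExtraspecial_congr (Q.equivMapOfInjective (centralizer ({z} : Set G)).subtype (centralizer ({z} : Set G)).subtype_injective) hQ
  obtain ⟨hsc, -⟩ := smallCenter_of_extraspecial (p := 2) hQ
  have hzC : z ∈ (centralizer ({z} : Set G)) := mem_centralizer_singleton_iff.2 rfl
  have hzQ : (⟨z, hzC⟩ : (centralizer ({z} : Set G))) ∈ Q := hself (mem_centralizer_iff.2 fun b _ =>
    Subtype.ext (mem_centralizer_singleton_iff.1 b.2))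
  set zq : Q := ⟨⟨z, hzC⟩, hzQ⟩ with hzq
  have hzc : zq ∈ center Q :=
    mem_center_iff.2 fun b => Subtype.ext (Subtype.ext (mem_centralizer_singleton_iff.1 b.1.2))
  have hzq1 : zq ≠ 1 := fun h => hz1 (congrArg (fun q : Q => ((q : (centralizer ({z} : Set G))) : G)) h)
  have hcardC : Nat.card ((centralizer ({z} : Set G)) ⧸ Q) = 174182400 := by rw [Nat.card_congr e.toEquiv]; exact Fi22Eight.card_om
  have hplus : ∃ A : Subgroup Q, Cfsg.IsElementaryAbelian 2 A ∧ Nat.card A = 2 ^ (4 + 1) := by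
    by_contra hno
    have hs : signSum Q = signSum (Model (minusMat 3)) := by
      rw [ExtraOut.sign_neg (n := 4) hsc hcard hno, sign_minus]
    obtain ⟨φ, -⟩ := exists_equiv_of_signSum 4 (by norm_num) Q (Model (minusMat 3)) hsc
      (smallCenter (nondeg_minus 3)) hcard (by rw [card_model]; rfl) hs zq hzc hzq1 ⟨0, 1⟩
      (mk_mem_center _) cen_ne_one
    obtain ⟨r, hr, -⟩ := coord_exists (nondeg_minus 3) minus_eq Q φ hself
    have hk : Q = r.ker := by ext c; exact ((hr c).symm)
    have h1 : Nat.card r.range = 174182400 := by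
      rw [← hcardC, hk]; exact (Nat.card_congr (QuotientGroup.quotientKerEquivRange r).toEquiv).symm
    have h2 := card_subgroup_dvd_card r.range
    rw [h1, CfsgLib.Classical.card_iso_minus (F := ZMod 2) (a := 1) (b := 1) minus_aniso 3, ZMod.card] at h2
    norm_num [Finset.prod_range_succ] at h2
  have hs : signSum Q = signSum (Model (plusMat 4)) := by
    obtain ⟨A, hA, hAc⟩ := hplus
    rw [ExtraOut.sign_pos (n := 4) hsc hcard A hA.2 hAc, sign_plus]
  obtain ⟨φ, hφz⟩ := exists_equiv_of_signSum 4 (by norm_num) Q (Model (plusMat 4)) hsc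
    (smallCenter (nondeg_plus 4)) hcard (by rw [card_model]; rfl) hs zq hzc hzq1 ⟨0, 1⟩
    (mk_mem_center _) cen_ne_one
  obtain ⟨r, hr, hact⟩ := coord_exists (nondeg_plus 4) (plus_eq (n := 4)) Q φ hself
  have hker : r.ker = Q := by ext c; exact hr c
  have hcr : Nat.card r.range = 174182400 := by
    rw [← hcardC, ← Nat.card_congr (QuotientGroup.quotientKerEquivRange r).toEquiv]
    exact Nat.card_congr (QuotientGroup.quotientMulEquivOfEq hker).toEquiv
  have hperf : commutator r.range = ⊤ := by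
    let q : (centralizer ({z} : Set G)) →* ((centralizer ({z} : Set G)) ⧸ Q) := QuotientGroup.mk' Q
    let f : r.range ≃* Om := (QuotientGroup.quotientKerEquivRange r).symm.trans
      ((QuotientGroup.quotientMulEquivOfEq hker).trans e)
    have h1 : (commutator r.range).map f.toMonoidHom = ⊤ := by
      rw [_root_.commutator_def, Subgroup.map_commutator, ← MonoidHom.range_eq_map,
        MonoidHom.range_eq_top.2 (show Function.Surjective f.toMonoidHom from f.surjective), ← _root_.commutator_def,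
        om_perfect]
    exact Subgroup.map_injective (show Function.Injective f.toMonoidHom from f.injective) (h1.trans
      (MonoidHom.range_eq_map f.toMonoidHom ▸ (MonoidHom.range_eq_top.2 f.surjective).symm))
  have hrange : r.range = Om := by
    refine eq_of_le_of_card_ge ?_ (by rw [hcr]; exact le_of_eq Fi22Eight.card_om)
    intro x hx
    have h1 : (⟨x, hx⟩ : r.range) ∈ commutator r.range := hperf ▸ mem_top _
    have h2 : x ∈ (commutator r.range).map r.range.subtype := ⟨_, h1, rfl⟩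
    rw [_root_.commutator_def, Subgroup.map_commutator] at h2
    exact ((_root_.commutator_def Iso8) ▸ Subgroup.commutator_mono le_top le_top : _ ≤ commutator Iso8) h2
  let qel : ∀ g : G, g ∈ (Q.map (centralizer ({z} : Set G)).subtype) → Q := fun g hg =>
    ⟨⟨g, map_subtype_le Q hg⟩, by obtain ⟨c, hc, rfl⟩ := hg; exact hc⟩
  let v : G → Vec := fun g => if hg : g ∈ (Q.map (centralizer ({z} : Set G)).subtype) then (φ (qel g hg)).v else 0
  let ρ : G → Iso8 := fun g => if hg : g ∈ (centralizer ({z} : Set G)) then r ⟨g, hg⟩ else 1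
  have hv : ∀ g (hg : g ∈ (Q.map (centralizer ({z} : Set G)).subtype)), v g = (φ (qel g hg)).v := fun g hg => dif_pos hg
  have hρ : ∀ g (hg : g ∈ (centralizer ({z} : Set G))), ρ g = r ⟨g, hg⟩ := fun g hg => dif_pos hg
  refine ⟨v, ρ, ⟨hcore, ?_, ?_, ?_, ?_, ?_, ?_, ?_, ?_, ?_, ?_, ?_⟩⟩
  · rw [← Nat.card_congr (Q.equivMapOfInjective (centralizer ({z} : Set G)).subtype (centralizer ({z} : Set G)).subtype_injective).toEquiv, hcard]; rfl
  · intro a ha b hb
    rw [hv a ha, hv b hb, hv (a * b) (mul_mem ha hb),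
      show qel (a * b) (mul_mem ha hb) = qel a ha * qel b hb from rfl, map_mul, mul_v]
  · intro a ha
    rw [hv a ha]
    constructor
    · intro h0
      rcases two_cases (φ (qel a ha)).c with h | h
      · left
        have : qel a ha = 1 := φ.injective (by rw [map_one]; exact Model.ext h0 h)
        exact congrArg (fun q : Q => ((q : (centralizer ({z} : Set G))) : G)) this
      · right
        have : qel a ha = zq := φ.injective (by rw [hφz]; exact Model.ext h0 h)
        exact congrArg (fun q : Q => ((q : (centralizer ({z} : Set G))) : G)) this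
    · rintro (rfl | rfl)
      · rw [show qel 1 ha = 1 from rfl, map_one]; rfl
      · rw [show qel _ ha = zq from rfl, hφz]
  · intro w
    have hm : ((φ.symm ⟨w, 0⟩ : Q) : (centralizer ({z} : Set G))).1 ∈ (Q.map (centralizer ({z} : Set G)).subtype) := ⟨_, (φ.symm ⟨w, 0⟩).2, rfl⟩
    refine ⟨_, hm, ?_⟩
    rw [hv _ hm, show qel _ hm = φ.symm ⟨w, 0⟩ from rfl, φ.apply_symm_apply]
  · intro a ha
    rw [hv a ha]
    show Cfsg.quadFormPlus 4 (ZMod 2) _ = 0 ↔ _
    rw [plus_eq, ← ExtraOut.sq_eq_one_iff, ← map_pow, map_eq_one_iff _ φ.injective, pow_two]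
    exact ⟨fun h => congrArg (fun q : Q => ((q : (centralizer ({z} : Set G))) : G)) h, fun h => Subtype.ext (Subtype.ext h)⟩
  · intro a ha b hb
    rw [hv a ha, hv b hb]
    show QuadraticMap.polar (Cfsg.quadFormPlus 4 (ZMod 2)) _ _ = 0 ↔ _
    rw [polar_bl plus_eq, ← commute_iff, ← map_mul, ← map_mul, φ.injective.eq_iff]
    exact ⟨fun h => congrArg (fun q : Q => ((q : (centralizer ({z} : Set G))) : G)) h, fun h => Subtype.ext (Subtype.ext h)⟩
  · intro a ha b hb
    rw [hρ a ha, hρ b hb, hρ (a * b) (mul_mem ha hb), ← map_mul]; rfl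
  · intro c hc a ha
    have hm : c * a * c⁻¹ ∈ (Q.map (centralizer ({z} : Set G)).subtype) :=
      hcore.norm c (mem_centralizer_singleton_iff.1 hc) a ha
    rw [hv a ha, hv _ hm, hρ c hc]
    have he : qel _ hm = MulAut.conjNormal ⟨c, hc⟩ (qel a ha) :=
      Subtype.ext (Subtype.ext (by rw [MulAut.conjNormal_apply]; rfl))
    rw [he]
    exact hact _ _
  · intro c hc
    rw [hρ c hc, hr]
    exact ⟨fun h => ⟨_, h, rfl⟩, fun ⟨d, hd, hdc⟩ => by
      have : d = ⟨c, hc⟩ := Subtype.ext hdc
      exact this ▸ hd⟩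
  · intro c hc
    rw [hρ c hc, ← hrange]; exact ⟨_, rfl⟩
  · intro g hg
    rw [← hrange] at hg
    obtain ⟨c, rfl⟩ := hg
    exact ⟨c, c.2, hρ _ c.2⟩

end

end CfsgLib.Spor.CoOneType
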