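import Cfsg.Agent.Lib.Spor.CoOneType.Layer
import Cfsg.Agent.Lib.Spor.CoOneType.Pre

/-!
# The centralizer of the involution in the layer, and generation of the layer by two conjugates of it
-/

set_option autoImplicit false

namespace CfsgLib.Spor.CoOneType

open Subgroup CfsgLib.Invol.JTwo

noncomputable section

variable {G : Type*} [Group G] [Finite G] {z : G} {Q : Subgroup G} {v : G → Vec} {ρ : G → Iso8} {b : G}
  {P P' : Part} {n : G}

/-- The centralizer of the involution in the layer. -/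
def HL (z b : G) : Subgroup G := lay b ⊓ centralizer ({z} : Set G)

/-- The layer into the quotient. -/
def layMap (b : G) : ↥(lay b) →* X b := (qm b).comp (Subgroup.inclusion (lay_le b))

theorem layMap_injective {b : G} (hb5 : orderOf b = 5) (D : LayerData b) : Function.Injective (layMap b) :=
  (injective_iff_map_eq_one _).2 fun l hl => by
    obtain ⟨i, hi⟩ := (mk_eq_one hb5).1 hl
    have hi' : (l : G) = b ^ i := hi
    exact Subtype.ext (hi'.trans (D.disj i (hi' ▸ l.2)))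

theorem layMap_surjective {b : G} (hb5 : orderOf b = 5) (D : LayerData b) : Function.Surjective (layMap b) := by
  intro x
  obtain ⟨m, rfl⟩ := QuotientGroup.mk'_surjective (Bc b) x
  obtain ⟨l, hl, i, e⟩ := D.cover m m.2
  refine ⟨⟨l, hl⟩, ?_⟩
  show qm b ⟨l, _⟩ = qm b m
  rw [← inv_mul_eq_one, ← map_inv, ← map_mul, mk_eq_one hb5]
  refine ⟨i, ?_⟩
  show l⁻¹ * (m : G) = _
  rw [e, inv_mul_cancel_left]

theorem mem_lay_of_pow {b : G} (hb5 : orderOf b = 5) (D : LayerData b) {x : G}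
    (hx : x ∈ centralizer ({b} : Set G)) (h4 : x ^ 4 = 1) : x ∈ lay b := by
  obtain ⟨l, hl, i, e⟩ := D.cover x hx
  have hlb : Commute l b := mem_centralizer_singleton_iff.1 (lay_le b hl)
  have h : l ^ 4 * b ^ (i * 4) = 1 := by rw [pow_mul, ← (hlb.pow_right i).mul_pow, ← e, h4]
  have h' : b ^ (i * 4) ∈ lay b := by
    rw [eq_inv_of_mul_eq_one_right h]; exact inv_mem (pow_mem hl 4)
  have hb1 := D.disj _ h'
  rw [hb1, mul_one] at h
  rw [eq_of_pow_four hb5 h4 h hlb.eq e]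
  exact hl

namespace Swap

variable (W : Swap z Q v ρ b P P' n) (D : LayerData b)
include W D

theorem z_lay : z ∈ lay b :=
  mem_lay_of_pow W.frame.b5 D W.frame.z_memM (W.frame.pow4 W.frame.setup.core.mem)

theorem fix_lay : fixQ Q b ≤ HL z b := fun _ hx =>
  ⟨mem_lay_of_pow W.frame.b5 D hx.2 (W.frame.pow4 hx.1), W.frame.setup.le hx.1⟩

/-- A subgroup of the layer containing the centralizer of the involution. -/
theorem prehyp_sub {S : Subgroup G} (hS : S ≤ lay b) (hHS : HL z b ≤ S) (hz : z ∈ S) :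
    ∃ R : Subgroup ↥S, PreHyp (⟨z, hz⟩ : ↥S) R ∧ ∀ a : ↥S, (a : G) ∈ fixQ Q b → a ∈ R := by
  let f : ↥S →* X b := (layMap b).comp (Subgroup.inclusion hS)
  refine ⟨W.frame.RX.comap f, prehyp_comap f ((layMap_injective W.frame.b5 D).comp (inclusion_injective hS)) ?_
    W.frame.prehyp, fun a ha => ⟨⟨a, ha.2⟩, ha, rfl⟩⟩
  intro x hx
  obtain ⟨m, rfl, hm⟩ := W.frame.exists_lift hx
  obtain ⟨l, hl, i, e⟩ := D.cover m m.2
  have hlC : l ∈ centralizer ({z} : Set G) := by
    rw [eq_mul_inv_of_mul_eq e.symm]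
    exact mul_mem hm.1 (inv_mem (pow_mem W.frame.bC i))
  refine ⟨⟨l, hHS ⟨hl, hlC⟩⟩, ?_⟩
  show qm b ⟨l, _⟩ = qm b m
  rw [← inv_mul_eq_one, ← map_inv, ← map_mul, mk_eq_one W.frame.b5]
  refine ⟨i, ?_⟩
  show l⁻¹ * (m : G) = _
  rw [e, inv_mul_cancel_left]

theorem HL_perfect : ⁅HL z b, HL z b⁆ = HL z b := by
  obtain ⟨R, hR, -⟩ := W.prehyp_sub D (S := lay b) le_rfl inf_le_left (W.z_lay D)
  have h := congrArg (fun K : Subgroup ↥(lay b) => K.map (lay b).subtype) (prehyp_perfect hR)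
  have e : (centralizer ({(⟨z, W.z_lay D⟩ : ↥(lay b))} : Set ↥(lay b))).map (lay b).subtype = HL z b := by
    ext x
    constructor
    · rintro ⟨a, ha, rfl⟩
      exact ⟨a.2, mem_cz.2 (congrArg Subtype.val (mem_centralizer_singleton_iff.1 ha))⟩
    · rintro ⟨hx, hxz⟩
      exact ⟨⟨x, hx⟩, mem_centralizer_singleton_iff.2 (Subtype.ext (mem_cz.1 hxz)), rfl⟩
  simp only [Subgroup.map_commutator, e] at h
  exact h

theorem lay_eq_sup : lay b = HL z b ⊔ (HL z b).map (MulAut.conj n).toMonoidHom := by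
  set S := HL z b ⊔ (HL z b).map (MulAut.conj n).toMonoidHom with hSdef
  have hS : S ≤ lay b := by
    refine sup_le inf_le_left ?_
    rintro _ ⟨l, hl, rfl⟩
    exact D.norm n (mem_centralizer_singleton_iff.2 W.nb) l hl.1
  have hzS : z ∈ S := mem_sup_left (W.fix_lay D W.frame.z_fix)
  obtain ⟨R, hR, hfix⟩ := W.prehyp_sub D hS le_sup_left hzS
  have hwS : n * z * n⁻¹ ∈ S := mem_sup_left (W.fix_lay D W.mem)
  -- an element of the join moving `z` to its partner
  obtain ⟨r, hr, hrz⟩ : ∃ r ∈ fixQ (Q.map (MulAut.conj n).toMonoidHom) b, r * z ≠ z * r := by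
    by_contra hcon
    push Not at hcon
    have h := W.symm.frame.fix_center (a := z) (by rw [← W.swap]; exact W.symm.mem)
      fun c hc => (hcon c hc).symm
    exact h.elim W.frame.setup.z_ne fun e => W.ne e.symm
  have hrS : r ∈ S := by
    have hrb : r ∈ centralizer ({b} : Set G) := hr.2
    have hr4 : r ^ 4 = 1 := W.symm.frame.pow4 hr.1
    refine mem_sup_right ⟨n⁻¹ * r * n, ⟨?_, ?_⟩, show n * (n⁻¹ * r * n) * n⁻¹ = r by group⟩
    · have := D.norm n⁻¹ (inv_mem (mem_centralizer_singleton_iff.2 W.nb)) r (mem_lay_of_pow W.frame.b5 D hrb hr4)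
      rwa [inv_inv] at this
    · refine mem_cz.2 ?_
      have h : r * (n * z * n⁻¹) = n * z * n⁻¹ * r := W.symm.frame.setup.cz hr.1
      calc n⁻¹ * r * n * z = n⁻¹ * (r * (n * z * n⁻¹)) * n := by group
        _ = n⁻¹ * ((n * z * n⁻¹) * r) * n := by rw [h]
        _ = _ := by group
  have hrz' : r * z * r⁻¹ = z * (n * z * n⁻¹) :=
    (W.symm.frame.setup.conj_or (a := z) W.mem' hr.1).resolve_left fun e => hrz (conj_eq_iff_comm.1 e)
  obtain ⟨s, hs, hsw⟩ : ∃ s ∈ fixQ Q b, s * (n * z * n⁻¹) ≠ n * z * n⁻¹ * s := by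
    by_contra hcon
    push Not at hcon
    exact (W.frame.fix_center W.mem fun c hc => (hcon c hc).symm).elim W.w_ne_one W.ne
  have hsS : s ∈ S := mem_sup_left (W.fix_lay D hs)
  have hsw' : s * (n * z * n⁻¹) * s⁻¹ = n * z * n⁻¹ * z :=
    (W.frame.setup.conj_or W.mem.1 hs.1).resolve_left fun e => hsw (conj_eq_iff_comm.1 e)
  have hmap : r * s * r * z * (r * s * r)⁻¹ = n * z * n⁻¹ := by
    have hsz : s * z * s⁻¹ = z := conj_eq_iff_comm.2 (W.frame.setup.cz hs.1)
    have hrw : r * (n * z * n⁻¹) * r⁻¹ = n * z * n⁻¹ := conj_eq_iff_comm.2 (W.symm.frame.setup.cz hr.1)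
    have hwz : n * z * n⁻¹ * z = z * (n * z * n⁻¹) := W.frame.setup.cz W.mem.1
    calc r * s * r * z * (r * s * r)⁻¹ = r * (s * (r * z * r⁻¹) * s⁻¹) * r⁻¹ := by group
      _ = r * ((s * z * s⁻¹) * (s * (n * z * n⁻¹) * s⁻¹)) * r⁻¹ := by rw [hrz']; group
      _ = r * (z * (z * (n * z * n⁻¹))) * r⁻¹ := by rw [hsz, hsw', hwz]
      _ = r * (n * z * n⁻¹) * r⁻¹ := by rw [← mul_assoc z z, W.frame.setup.zz, one_mul]
      _ = _ := hrw
  -- an involution of the centralizer not conjugate to `z`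
  obtain ⟨t, ht, ht2, htQ⟩ := W.exists_invol
  have htS : t ∈ S := mem_sup_left ⟨mem_lay_of_pow W.frame.b5 D ht.2
    (by rw [show (4 : ℕ) = 2 * 2 from rfl, pow_mul, pow_two t, ht2, one_pow]), ht.1⟩
  have hH : Hyp (⟨z, hzS⟩ : ↥S) R := by
    refine { toPreHyp := hR, nwc := ⟨⟨_, hwS⟩, hfix _ W.mem, fun e => W.ne (congrArg Subtype.val e), ?_⟩,
             two := ⟨⟨z, hzS⟩, ⟨t, htS⟩, hR.inv, ?_, ?_⟩ }
    · exact isConj_iff.2 ⟨⟨r * s * r, mul_mem (mul_mem hrS hsS) hrS⟩, Subtype.ext hmap⟩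
    · haveI : Fact (Nat.Prime 2) := ⟨Nat.prime_two⟩
      refine orderOf_eq_prime (Subtype.ext (by rw [pow_two]; exact ht2)) fun e => htQ ?_
      rw [show t = 1 from congrArg Subtype.val e]
      exact one_mem _
    · intro hc
      exact W.frame.not_conj ht ht2 htQ (MonoidHom.map_isConj S.subtype hc)
  refine (eq_of_le_of_card_ge hS ?_).symm
  obtain ⟨eX⟩ : Nonempty (↥(lay b) ≃* X b) := ⟨MulEquiv.ofBijective (layMap b)
    ⟨layMap_injective W.frame.b5 D, layMap_surjective W.frame.b5 D⟩⟩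
  rw [Nat.card_congr eX.toEquiv, W.hyp_quot.card_eq, hH.card_eq]

end Swap

end

end CfsgLib.Spor.CoOneType
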