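import Cfsg.Agent.Lib.Spor.CoOneType.Cent

/-!
# An element swapping the involution with a non-central involution of the fixed part
-/

set_option autoImplicit false

namespace CfsgLib.Spor.CoOneType

open Subgroup

noncomputable section

variable {G : Type*} [Group G] [Finite G] {z : G} {Q : Subgroup G} {v : G → Vec} {ρ : G → Iso8} {b : G}
  {P P' : Part}

theorem sing4 : ∃ y : W4, q4 y = 0 ∧ y ≠ 0 := by decide +kernel

theorem Frame.conj (F : Frame z Q v ρ b P P') {n : G} (hn : n * b = b * n) :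
    Frame (n * z * n⁻¹) (Q.map (MulAut.conj n).toMonoidHom) (fun a => v (n⁻¹ * a * n))
      (fun c => ρ (n⁻¹ * c * n)) b P P' := by
  have hb : n⁻¹ * b * n = b := by
    calc n⁻¹ * b * n = n⁻¹ * (b * n) := mul_assoc _ _ _
      _ = n⁻¹ * (n * b) := by rw [hn]
      _ = b := inv_mul_cancel_left _ _
  refine ⟨F.setup.conj n, ?_, F.b5, ?_, ?_⟩
  · rw [mem_cz]
    have h := mem_cz.1 F.bC
    calc b * (n * z * n⁻¹) = n * (n⁻¹ * b * n * z) * n⁻¹ := by group
      _ = n * (z * b) * n⁻¹ := by rw [hb, h]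
      _ = n * z * n⁻¹ * (n * b * n⁻¹) := by group
      _ = _ := by rw [conj_eq_iff_comm.2 hn]
  · show FiveElt (ρ (n⁻¹ * b * n)) P P'
    rw [hb]; exact F.five
  · have hinj : Function.Injective (MulAut.conj n).toMonoidHom := (MulAut.conj n).injective
    rw [← F.cardR, ← card_map_of_injective (K := fixQ Q b) hinj]
    refine congrArg (fun S : Subgroup G => Nat.card S) (le_antisymm ?_ ?_)
    · rintro x ⟨⟨a, ha, rfl⟩, hx⟩
      refine ⟨a, ⟨ha, mem_centralizer_singleton_iff.2 ?_⟩, rfl⟩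
      have h : n * a * n⁻¹ * b = b * (n * a * n⁻¹) := mem_centralizer_singleton_iff.1 hx
      calc a * b = n⁻¹ * (n * a * n⁻¹ * (n * b * n⁻¹)) * n := by group
        _ = n⁻¹ * (n * a * n⁻¹ * b) * n := by rw [conj_eq_iff_comm.2 hn]
        _ = n⁻¹ * (b * (n * a * n⁻¹)) * n := by rw [h]
        _ = n⁻¹ * (n * b * n⁻¹ * (n * a * n⁻¹)) * n := by rw [conj_eq_iff_comm.2 hn]
        _ = _ := by group
    · rintro _ ⟨a, ⟨ha, hab⟩, rfl⟩
      refine ⟨⟨a, ha, rfl⟩, mem_centralizer_singleton_iff.2 ?_⟩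
      show n * a * n⁻¹ * b = b * (n * a * n⁻¹)
      calc n * a * n⁻¹ * b = n * a * (n⁻¹ * b * n) * n⁻¹ := by group
        _ = n * (a * b) * n⁻¹ := by rw [hb]; group
        _ = n * (b * a) * n⁻¹ := by rw [mem_centralizer_singleton_iff.1 hab]
        _ = n * b * n⁻¹ * (n * a * n⁻¹) := by group
        _ = _ := by rw [conj_eq_iff_comm.2 hn]

/-- The data together with a swapping element. -/
structure Swap (z : G) (Q : Subgroup G) (v : G → Vec) (ρ : G → Iso8) (b : G) (P P' : Part) (n : G) : Prop where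
  frame : Frame z Q v ρ b P P'
  nb : n * b = b * n
  mem : n * z * n⁻¹ ∈ fixQ Q b
  ne : n * z * n⁻¹ ≠ z
  swap : n * (n * z * n⁻¹) * n⁻¹ = z
  mem' : z ∈ Q.map (MulAut.conj n).toMonoidHom

/-- A swapping element exists. -/
theorem Frame.exists_swap (F : Frame z Q v ρ b P P') {g : G} (hgQ : g * z * g⁻¹ ∈ Q) (hgne : g * z * g⁻¹ ≠ z) :
    ∃ n, Swap z Q v ρ b P P' n := by
  haveI : Fact (Nat.Prime 2) := ⟨Nat.prime_two⟩
  obtain ⟨y, hy, hy0⟩ := sing4
  obtain ⟨a, ha, hva⟩ := F.fix_surj y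
  have hv0 : v a ≠ 0 := by
    rw [hva]; exact fun e => hy0 (P.ι_injective (by rw [e, map_zero]))
  have ha2 : a * a = 1 := (F.setup.v_sq a ha.1).1 (by rw [hva, P.iso, hy])
  obtain ⟨k, hk⟩ := F.setup.all_conj hgQ hgne ha.1 ha2 hv0
  have hne : k * z * k⁻¹ ≠ z := fun e => hv0 (by rw [← hk, e, F.setup.v_z])
  have hmemc : ∀ j : G, j * z * j⁻¹ ∈ Q → j * z * j⁻¹ ≠ z → z ∈ Q.map (MulAut.conj j).toMonoidHom :=
    fun j hj hj' => LargeQ.centre_mem_conj Q z F.setup.core.ext F.setup.core.center_iff F.setup.core.ord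
      F.setup.core.cent F.setup.core.norm (by rw [F.setup.card]; norm_num) j hj' hj
  have hzQ'' := hmemc k (hk.symm ▸ ha.1) hne
  have S'' := F.setup.conj k
  rw [hk] at S''
  set Q'' := Q.map (MulAut.conj k).toMonoidHom
  have hba : b ∈ centralizer ({a} : Set G) :=
    mem_centralizer_singleton_iff.2 (mem_centralizer_singleton_iff.1 ha.2).symm
  have hpow : ∀ c ∈ zpowers b, c ∈ centralizer ({a} : Set G) := fun c hc => (zpowers_le.2 hba) hc
  obtain ⟨r, hr, hrb, hrz⟩ : ∃ r ∈ Q'', r * b = b * r ∧ r * z ≠ z * r := by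
    by_contra hcon
    push Not at hcon
    rcases S''.core.fixed_central (zpowers b) (by rw [Nat.card_zpowers, F.b5]; decide)
      (fun c hc q hq => S''.norm (hpow c hc) hq)
      (fun c hc => mem_centralizer_singleton_iff.1 (hpow c hc)) hzQ''
      (fun c hc => mem_cz.1 ((zpowers_le.2 F.bC) hc))
      (fun r hr h => hcon r hr (h b (mem_zpowers b)).symm) with e | e
    · exact F.setup.z_ne e
    · exact hne (hk.trans e.symm)
  have hrz' : r * z * r⁻¹ = z * a := (S''.conj_or hzQ'' hr).resolve_left fun e => hrz (conj_eq_iff_comm.1 e)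
  obtain ⟨s, hs, hsa⟩ : ∃ s ∈ fixQ Q b, s * a ≠ a * s := by
    by_contra hcon
    push Not at hcon
    exact (F.fix_center ha fun c hc => (hcon c hc).symm).elim
      (fun e => hv0 (by rw [e, F.setup.v_one])) (fun e => hv0 (by rw [e, F.setup.v_z]))
  have hsa' : s * a * s⁻¹ = a * z := (F.setup.conj_or ha.1 hs.1).resolve_left fun e => hsa (conj_eq_iff_comm.1 e)
  have hsz : s * z * s⁻¹ = z := conj_eq_iff_comm.2 (F.setup.cz hs.1)
  have hra : r * a * r⁻¹ = a := conj_eq_iff_comm.2 (S''.cz hr)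
  have haz : a * z = z * a := F.setup.cz ha.1
  have e1 : r * s * r * z * (r * s * r)⁻¹ = a := by
    calc r * s * r * z * (r * s * r)⁻¹ = r * (s * (r * z * r⁻¹) * s⁻¹) * r⁻¹ := by group
      _ = r * ((s * z * s⁻¹) * (s * a * s⁻¹)) * r⁻¹ := by rw [hrz']; group
      _ = r * (z * (a * z)) * r⁻¹ := by rw [hsz, hsa']
      _ = r * a * r⁻¹ := by rw [haz, ← mul_assoc z z, F.setup.zz, one_mul]
      _ = a := hra
  have e2 : r * s * r * a * (r * s * r)⁻¹ = z := by
    calc r * s * r * a * (r * s * r)⁻¹ = r * (s * (r * a * r⁻¹) * s⁻¹) * r⁻¹ := by group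
      _ = r * (a * z) * r⁻¹ := by rw [hra, hsa']
      _ = (r * a * r⁻¹) * (r * z * r⁻¹) := by group
      _ = a * (z * a) := by rw [hra, hrz']
      _ = z := by rw [← haz, ← mul_assoc, ha2, one_mul]
  have hnb : r * s * r * b = b * (r * s * r) := by
    have h1 : Commute r b := hrb
    have h2 : Commute s b := mem_centralizer_singleton_iff.1 hs.2
    exact ((h1.mul_left h2).mul_left h1).eq
  refine ⟨r * s * r, F, hnb, ?_, ?_, ?_, ?_⟩
  · rw [e1]; exact ha
  · rw [e1, ← hk]; exact hne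
  · rw [e1, e2]
  · exact hmemc _ (by rw [e1]; exact ha.1) (by rw [e1, ← hk]; exact hne)

end

end CfsgLib.Spor.CoOneType
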